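import Cfsg.Agent.AutPSL.Structure
import Cfsg.Agent.AutPSL.BalanceField
import Cfsg.Agent.Classical.LinearBasic

/-!
# A group with socle `PSL₃(4)` of index 12 is the automorphism group of `PGL₃(4)`
-/

set_option autoImplicit false

namespace Cfsg.Agent.PGammaThreeFour

open Subgroup AutPSL
open scoped commutatorElement

universe u

/-- Automorphisms of a group transported along an isomorphism. -/
theorem mulAut_congr {A B : Type*} [Group A] [Group B] (e : A ≃* B) :
    Nonempty (MulAut A ≃* MulAut B) :=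
  ⟨MulAut.congr e⟩

section Field

variable {F : Type*} [Field F] [Fintype F]

theorem card_mulAut_psl34 (hF : Fintype.card F = 4) :
    Nat.card (MulAut (PSLn 3 F)) = 12 * Nat.card (PSLn 3 F) := by
  haveI : Fact (Nat.Prime 2) := ⟨Nat.prime_two⟩
  haveI : CharP F 2 := charP_of_card (p := 2) (f := 2) (by rw [hF]; norm_num)
  rw [card_mulAut 2 (isComplementHom_three (n := 3) (F := F) 2 le_rfl) (by norm_num),
    Nat.card_prod, (card_gal (p := 2) (f := 2) (by norm_num) (by rw [hF]; norm_num)).2]
  have h := Classical.card_psl_mul (ι := Fin 3) (F := F)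
  rw [Fintype.card_fin, hF, show Nat.gcd 3 (4 - 1) = 3 by norm_num] at h
  rw [Classical.card_pgl, ← h, show Nat.card (Multiplicative (ZMod 2)) = 2 by
    rw [Nat.card_eq_fintype_card]; rfl]
  ring

/-- `MulAut (PSL₃(4)) ≅ MulAut (PGL₃(4))`. -/
theorem mulAut_psl_pgl (hF : Fintype.card F = 4) :
    Nonempty (MulAut (PSLn 3 F) ≃* MulAut (GL (Fin 3) F ⧸ Subgroup.center (GL (Fin 3) F))) := by
  haveI : Fact (Nat.Prime 2) := ⟨Nat.prime_two⟩
  haveI : CharP F 2 := charP_of_card (p := 2) (f := 2) (by rw [hF]; norm_num)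
  haveI hS : IsSimpleGroup (PSLn 3 F) := Classical.isSimpleGroup_psl (Or.inl (by simp))
  set R := (conjA (n := 3) (F := F)).range with hR
  haveI hRn : R.Normal := by
    have := inndiag_normal (n := 3) (F := F) 2 (by norm_num)
    rwa [inndiagPSL_eq] at this
  have eR : Nonempty ((GL (Fin 3) F ⧸ Subgroup.center (GL (Fin 3) F)) ≃* R) :=
    ⟨(QuotientGroup.quotientMulEquivOfEq (ker_conjA 2 (by norm_num)).symm).trans
      (QuotientGroup.quotientKerEquivRange conjA)⟩
  obtain ⟨eR⟩ := eR
  have hconj : Function.Injective (MulAut.conj : PSLn 3 F →* MulAut (PSLn 3 F)) :=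
    conj_injective 2 (by norm_num)
  have hInn : ∀ x : PSLn 3 F, MulAut.conj x ∈ R := by
    intro x
    obtain ⟨s, hs⟩ : MulAut.conj x ∈
        (conjA.comp (Matrix.SpecialLinearGroup.toGL (n := Fin 3) (R := F))).range :=
      (conj_range_eq (n := 3) (F := F)) ▸ ⟨x, rfl⟩
    exact ⟨_, hs⟩
  have hbc : ∀ (β : MulAut (PSLn 3 F)) (x : PSLn 3 F),
      β * MulAut.conj x * β⁻¹ = MulAut.conj (β x) := by
    intro β x
    ext y
    simp [MulAut.mul_apply, MulAut.conj_apply]
  let ψ : MulAut (PSLn 3 F) →* MulAut R := MulAut.conjNormal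
  have hψ : Function.Injective ψ := by
    refine (injective_iff_map_eq_one _).2 fun β hβ => ?_
    refine MulEquiv.ext fun x => hconj ?_
    rw [← hbc, MulAut.one_apply]
    have := congrArg (fun t : MulAut R => ((t ⟨MulAut.conj x, hInn x⟩ : R) : MulAut (PSLn 3 F))) hβ
    simpa [ψ, MulAut.conjNormal_apply] using this
  -- every automorphism of `R` maps the inner part to itself
  let ι : PSLn 3 F →* R := (MulAut.conj : PSLn 3 F →* MulAut (PSLn 3 F)).codRestrict R hInn
  have hι : Function.Injective ι := fun a b e => hconj (congrArg Subtype.val e)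
  have hnab : ∃ a b : PSLn 3 F, a * b ≠ b * a := by
    by_contra hc
    push Not at hc
    letI : CommGroup (PSLn 3 F) := { (inferInstance : Group (PSLn 3 F)) with mul_comm := hc }
    have hp : (Nat.card (PSLn 3 F)).Prime := IsSimpleGroup.prime_card
    have h1 := Classical.card_psl_mul (ι := Fin 3) (F := F)
    have h2 := Classical.card_sl_mul hF 3 (by norm_num)
    rw [Fintype.card_fin, hF, show Nat.gcd 3 (4 - 1) = 3 from rfl] at h1
    simp [Fin.prod_univ_three] at h2
    have h3 : Nat.card (Matrix.ProjectiveSpecialLinearGroup (Fin 3) F) = 20160 := by omega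
    change (Nat.card (Matrix.ProjectiveSpecialLinearGroup (Fin 3) F)).Prime at hp
    rw [h3] at hp
    norm_num at hp
  have hder : commutator R = ι.range := by
    refine le_antisymm ?_ ?_
    · rw [_root_.commutator_def, Subgroup.commutator_le]
      rintro ⟨_, g, rfl⟩ - ⟨_, h, rfl⟩ -
      obtain ⟨s, hs⟩ : g * h * g⁻¹ * h⁻¹ ∈
          (Matrix.SpecialLinearGroup.toGL (n := Fin 3) (R := F)).range := by
        rw [Classical.range_toGL_eq_ker_det, MonoidHom.mem_ker, map_mul, map_mul, map_mul,
          map_inv, map_inv, mul_comm (Matrix.GeneralLinearGroup.det g), mul_inv_cancel_right,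
          mul_inv_cancel]
      refine ⟨mkP s, Subtype.ext ?_⟩
      show MulAut.conj (mkP s) = conjA g * conjA h * (conjA g)⁻¹ * (conjA h)⁻¹
      rw [← conjA_toGL, hs, map_mul, map_mul, map_mul, map_inv, map_inv]
    · haveI : ((commutator R).comap ι).Normal := inferInstance
      rcases hS.eq_bot_or_eq_top_of_normal ((commutator R).comap ι) inferInstance with h | h
      · exfalso
        obtain ⟨a, b, hab⟩ := hnab
        apply hab
        have hm : ⁅a, b⁆ ∈ (commutator R).comap ι := by
          rw [Subgroup.mem_comap, map_commutatorElement]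
          exact Subgroup.commutator_mem_commutator (Subgroup.mem_top _) (Subgroup.mem_top _)
        rw [h, Subgroup.mem_bot, commutatorElement_eq_one_iff_mul_comm] at hm
        exact hm
      · rintro _ ⟨x, rfl⟩
        show x ∈ (commutator R).comap ι
        rw [h]; exact Subgroup.mem_top x
  have hsurj : Function.Surjective ψ := by
    intro γ
    have hmem : ∀ x, γ (ι x) ∈ ι.range := fun x => by
      rw [← hder]
      have : (commutator R).map γ.toMonoidHom = commutator R :=
        (Subgroup.characteristic_iff_map_eq.1 inferInstance) γ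
      rw [← this]
      exact ⟨ι x, hder.symm ▸ ⟨x, rfl⟩, rfl⟩
    choose f hf using hmem
    have hfinj : Function.Injective f := fun a b e => hι (γ.injective (by rw [← hf, ← hf, e]))
    have hfmul : ∀ a b, f (a * b) = f a * f b := fun a b => hι (by
      rw [hf, map_mul, map_mul, map_mul, hf, hf])
    let α : MulAut (PSLn 3 F) := MulEquiv.ofBijective
      ({ toFun := f, map_one' := hι (by rw [hf, map_one, map_one]), map_mul' := hfmul } :
        PSLn 3 F →* PSLn 3 F) (Finite.injective_iff_bijective.1 hfinj)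
    refine ⟨α, MulEquiv.ext fun r => ?_⟩
    -- both agree on the inner part, whose centralizer is trivial
    apply Subtype.ext
    rw [MulAut.conjNormal_apply]
    have key : ∀ x, α * MulAut.conj x * α⁻¹ = ((γ (ι x) : R) : MulAut (PSLn 3 F)) := fun x => by
      rw [hbc, ← hf]; rfl
    obtain ⟨r, g, rfl⟩ := r
    set r : R := ⟨conjA g, g, rfl⟩
    have h1 : ∀ x, (α * conjA g * α⁻¹) * ((γ (ι x) : R) : MulAut (PSLn 3 F)) *
        (α * conjA g * α⁻¹)⁻¹ =
        ((γ r : R) : MulAut (PSLn 3 F)) * ((γ (ι x) : R) : MulAut (PSLn 3 F)) *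
          ((γ r : R) : MulAut (PSLn 3 F))⁻¹ := by
      intro x
      rw [← key, show α * conjA g * α⁻¹ * (α * MulAut.conj x * α⁻¹) * (α * conjA g * α⁻¹)⁻¹ =
        α * (conjA g * MulAut.conj x * (conjA g)⁻¹) * α⁻¹ by group, hbc, key, key, ← Subgroup.coe_inv,
        ← Subgroup.coe_mul, ← Subgroup.coe_mul, ← map_inv, ← map_mul, ← map_mul]
      congr 2
      exact Subtype.ext (hbc (conjA g) x).symm
    refine MulEquiv.ext fun y => ?_
    obtain ⟨x, rfl⟩ := (Finite.injective_iff_surjective.1 hfinj) y
    have h2 := h1 x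
    rw [← hf] at h2
    change (α * conjA g * α⁻¹) * MulAut.conj (f x) * (α * conjA g * α⁻¹)⁻¹ =
      ((γ r : R) : MulAut (PSLn 3 F)) * MulAut.conj (f x) * ((γ r : R) : MulAut (PSLn 3 F))⁻¹ at h2
    rw [hbc, hbc] at h2
    exact hconj h2
  exact ⟨(MulEquiv.ofBijective ψ ⟨hψ, hsurj⟩).trans (MulAut.congr eR.symm)⟩

end Field

theorem mulEquiv_mulAut_pgl {G : Type u} [Group G] [Finite G] (L : Subgroup G) [L.Normal]
    (hC : Subgroup.centralizer (L : Set G) = ⊥) {F₀ : Type} [Field F₀] [Fintype F₀]
    (hF₀ : Fintype.card F₀ = 4) (e : L ≃* Matrix.ProjectiveSpecialLinearGroup (Fin 3) F₀)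
    (hcard : 12 * Nat.card L ≤ Nat.card G) {F : Type*} [Field F] [Fintype F]
    (hF : Fintype.card F = 4) :
    Nonempty (G ≃* MulAut (GL (Fin 3) F ⧸ Subgroup.center (GL (Fin 3) F))) := by
  let σ : F₀ ≃+* F := FiniteField.ringEquivOfCardEq (by rw [hF₀, hF])
  let eSL : Matrix.SpecialLinearGroup (Fin 3) F₀ ≃* Matrix.SpecialLinearGroup (Fin 3) F :=
    MulEquiv.ofBijective (Matrix.SpecialLinearGroup.map (σ : F₀ →+* F))
      ⟨fun a b h => Subtype.ext (Matrix.ext fun i j => σ.injective (by
          simpa using congrArg (fun t : Matrix.SpecialLinearGroup (Fin 3) F => t.1 i j) h)),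
        fun b => ⟨Matrix.SpecialLinearGroup.map (σ.symm : F →+* F₀) b,
          Subtype.ext (Matrix.ext fun i j => by simp)⟩⟩
  let ePSL : PSLn 3 F₀ ≃* PSLn 3 F :=
    QuotientGroup.congr _ _ eSL (by
      ext x
      constructor
      · rintro ⟨y, hy, rfl⟩
        refine Subgroup.mem_center_iff.2 fun t => ?_
        obtain ⟨t, rfl⟩ := eSL.surjective t
        exact ((map_mul eSL t y).symm.trans (congrArg eSL (Subgroup.mem_center_iff.1 hy t))).trans
          (map_mul eSL y t)
      · intro hx
        refine ⟨eSL.symm x, Subgroup.mem_center_iff.2 fun t => eSL.injective ?_, eSL.apply_symm_apply x⟩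
        rw [map_mul, map_mul, eSL.apply_symm_apply]
        exact Subgroup.mem_center_iff.1 hx _)
  let e' : L ≃* PSLn 3 F := e.trans ePSL
  let φ : G →* MulAut L := MulAut.conjNormal
  have hφ : Function.Injective φ := by
    refine (injective_iff_map_eq_one _).2 fun g hg => ?_
    have : g ∈ centralizer (L : Set G) := mem_centralizer_iff.2 fun x hx => by
      have h := congrArg (fun t : MulAut L => ((t ⟨x, hx⟩ : L) : G)) hg
      simp only [φ, MulAut.conjNormal_apply, MulAut.one_apply] at h
      exact (mul_inv_eq_iff_eq_mul.1 h).symm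
    rwa [hC, mem_bot] at this
  obtain ⟨eA⟩ := mulAut_psl_pgl hF
  let Φ := (MulAut.congr e').toMonoidHom.comp φ
  have hΦ : Function.Injective Φ := (MulAut.congr e').injective.comp hφ
  haveI : Finite (MulAut (PSLn 3 F)) := inferInstance
  have hle : Nat.card (MulAut (PSLn 3 F)) ≤ Nat.card G := by
    rw [card_mulAut_psl34 hF, ← Nat.card_congr e'.toEquiv]
    exact hcard
  exact ⟨(MulEquiv.ofBijective Φ
    ((Nat.bijective_iff_injective_and_card Φ).2
      ⟨hΦ, le_antisymm (Nat.card_le_card_of_injective Φ hΦ) hle⟩)).trans eA⟩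

end Cfsg.Agent.PGammaThreeFour
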