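import Cfsg.Agent.PGammaThreeFour.Defs
import Mathlib

/-!
# First consequences of the data of the involution centraliser
-/

set_option autoImplicit false

namespace Cfsg.Agent.PGammaThreeFour

open Subgroup

variable {G : Type*} [Group G]

theorem mem_cent {z h : G} : h ∈ centralizer ({z} : Set G) ↔ h * z = z * h :=
  mem_centralizer_singleton_iff

theorem mul_self_of_orderOf_two {y : G} (hy : orderOf y = 2) : y * y = 1 := by
  rw [← sq, ← hy]; exact pow_orderOf_eq_one y

theorem orderOf_two_of_sq {y : G} (h : y * y = 1) (h1 : y ≠ 1) : orderOf y = 2 :=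
  orderOf_eq_prime (by rw [sq]; exact h) h1

theorem conj_mem_of_normal {H N : Subgroup G} (h : H ≤ normalizer (N : Set G)) {g x : G}
    (hg : g ∈ H) (hx : x ∈ N) : g * x * g⁻¹ ∈ N :=
  (mem_normalizer_iff.1 (h hg) x).1 hx

namespace HData

variable {z : G} (D : HData z)
include D

theorem U_le_H : D.U ≤ centralizer ({z} : Set G) := D.U_le.trans D.K_le

theorem z_mem_H : z ∈ centralizer ({z} : Set G) := mem_cent.2 rfl

theorem u_comm : D.u * z = z * D.u := mem_cent.1 (D.U_le_H D.u_mem)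

theorem u_sq' : D.u * D.u = 1 := mul_self_of_orderOf_two D.hu

theorem z_sq' : z * z = 1 := mul_self_of_orderOf_two D.hz

theorem z_ne_one : z ≠ 1 := fun h => by have := D.hz; simp [h] at this

theorem u_ne_one : D.u ≠ 1 := fun h => by have := D.hu; simp [h] at this

theorem zu_ne_one : z * D.u ≠ 1 := fun h => D.u_ne (by
  rw [← one_mul D.u, ← D.z_sq', mul_assoc, h, mul_one])

theorem zu_mem : z * D.u ∈ D.U := mul_mem D.z_mem D.u_mem

theorem wSet_subset : wSet z D.u ⊆ (D.U : Set G) := by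
  rintro x (rfl | rfl | rfl | rfl)
  exacts [one_mem _, D.z_mem, D.u_mem, D.zu_mem]

theorem finite_K : Finite D.K := Nat.finite_of_card_ne_zero (by rw [D.card_K]; norm_num)

theorem finite_U : Finite D.U := Nat.finite_of_card_ne_zero (by rw [D.card_U]; norm_num)

theorem finite_H : Finite (centralizer ({z} : Set G)) :=
  Nat.finite_of_card_ne_zero (by rw [D.card_H]; norm_num)

theorem U_le_normalizer : D.K ≤ normalizer (D.U : Set G) := D.K_le.trans D.U_normal

theorem index_U : D.U.relIndex D.K = 3 := by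
  have h := Subgroup.card_mul_index (D.U.subgroupOf D.K)
  rw [Nat.card_congr (Subgroup.subgroupOfEquivOfLe D.U_le).toEquiv, D.card_U, D.card_K] at h
  show (D.U.subgroupOf D.K).index = 3
  omega

/-- An element of `K` whose order is a power of two lies in `U`. -/
theorem mem_U_of_two_power {k : G} (hk : k ∈ D.K) {n : ℕ} (hn : k ^ (2 ^ n) = 1) : k ∈ D.U := by
  haveI := normal_subgroupOf_of_le_normalizer D.U_le_normalizer
  have h3 : k ^ 3 ∈ D.U := by
    have h := (D.U.subgroupOf D.K).pow_index_mem ⟨k, hk⟩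
    rw [show (D.U.subgroupOf D.K).index = 3 from D.index_U] at h
    simpa [mem_subgroupOf] using h
  obtain ⟨a, b, hab⟩ : ∃ a b : ℤ, (3 : ℤ) * a + (2 ^ n : ℕ) * b = 1 :=
    ⟨_, _, (Int.gcd_eq_gcd_ab 3 (2 ^ n : ℕ)).symm.trans (by
      have hg : Int.gcd (3 : ℤ) ((2 ^ n : ℕ) : ℤ) = 1 := by
        rw [show (3 : ℤ) = ((3 : ℕ) : ℤ) from rfl, Int.gcd_natCast_natCast]
        exact Nat.Coprime.pow_right n (by decide : Nat.Coprime 3 2)
      exact_mod_cast hg)⟩
  have : k = (k ^ 3) ^ a * (k ^ (2 ^ n)) ^ b := by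
    rw [← zpow_natCast k 3, ← zpow_natCast k (2 ^ n), ← zpow_mul, ← zpow_mul, ← zpow_add]
    push_cast at hab ⊢
    rw [hab, zpow_one]
  rw [this, hn, one_zpow, mul_one]
  exact zpow_mem h3 a

theorem involution_mem_U {k : G} (hk : k ∈ D.K) (h : orderOf k = 2) : k ∈ D.U :=
  D.mem_U_of_two_power hk (n := 1) (by rw [pow_one, ← h]; exact pow_orderOf_eq_one k)

theorem comm_mem {g h : G} (hg : g ∈ centralizer ({z} : Set G))
    (hh : h ∈ centralizer ({z} : Set G)) : g * h * g⁻¹ * h⁻¹ ∈ D.K := by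
  have e2 : g * h * g⁻¹ * h⁻¹ = (g * h * (g * h)) * (h⁻¹ * (g⁻¹ * g⁻¹) * h) * (h⁻¹ * h⁻¹) := by
    group
  rw [e2]
  refine mul_mem (mul_mem (D.sq_mem _ (mul_mem hg hh)) ?_) (D.sq_mem _ (inv_mem hh))
  have := conj_mem_of_normal D.K_normal (inv_mem hh) (D.sq_mem _ (inv_mem hg))
  simpa using this

/-- The cosets of `K` in `H`. -/
theorem cases_pair {x y : G} (hx : x ∈ centralizer ({z} : Set G)) (hxK : x ∉ D.K)
    (hy : y ∈ centralizer ({z} : Set G)) (hyK : y ∉ D.K) (hxy : y * x ∉ D.K) (h : G)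
    (hh : h ∈ centralizer ({z} : Set G)) :
    h ∈ D.K ∨ x * h ∈ D.K ∨ y * h ∈ D.K ∨ y * x * h ∈ D.K := by
  haveI := D.finite_H
  haveI := normal_subgroupOf_of_le_normalizer D.K_normal
  set M := D.K.subgroupOf (centralizer ({z} : Set G)) with hM
  have hidx : M.index = 4 := by
    have h := Subgroup.card_mul_index M
    rw [Nat.card_congr (Subgroup.subgroupOfEquivOfLe D.K_le).toEquiv, D.card_K, D.card_H] at h
    omega
  classical
  let A : ↥(centralizer ({z} : Set G)) := ⟨x, hx⟩
  let B : ↥(centralizer ({z} : Set G)) := ⟨y, hy⟩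
  let X : ↥(centralizer ({z} : Set G)) := ⟨h, hh⟩
  have hsq : ∀ q : ↥(centralizer ({z} : Set G)) ⧸ M, q * q = 1 := by
    intro q
    induction q using QuotientGroup.induction_on with
    | _ w => exact (QuotientGroup.eq_one_iff (w * w)).2 (D.sq_mem w w.2)
  set qA : ↥(centralizer ({z} : Set G)) ⧸ M := QuotientGroup.mk A with hqA
  set qB : ↥(centralizer ({z} : Set G)) ⧸ M := QuotientGroup.mk B with hqB
  have hA1 : qA ≠ 1 := fun e => hxK ((QuotientGroup.eq_one_iff A).1 e)
  have hB1 : qB ≠ 1 := fun e => hyK ((QuotientGroup.eq_one_iff B).1 e)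
  have hAB1 : qB * qA ≠ 1 := fun e => hxy ((QuotientGroup.eq_one_iff (B * A)).1 e)
  have hAB : qA ≠ qB := fun e => hAB1 (by rw [e, hsq])
  have hcard : ({1, qA, qB, qB * qA} : Finset _).card = 4 := by
    rw [Finset.card_insert_of_notMem, Finset.card_insert_of_notMem,
      Finset.card_insert_of_notMem, Finset.card_singleton]
    · simpa using fun e : qB = qB * qA => hA1 (left_eq_mul.1 e)
    · simp only [Finset.mem_insert, Finset.mem_singleton, not_or]
      exact ⟨hAB, fun e => hB1 (right_eq_mul.1 e)⟩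
    · simp only [Finset.mem_insert, Finset.mem_singleton, not_or]
      exact ⟨hA1.symm, hB1.symm, hAB1.symm⟩
  haveI := Fintype.ofFinite (↥(centralizer ({z} : Set G)) ⧸ M)
  have huniv : ({1, qA, qB, qB * qA} : Finset _) = Finset.univ := by
    apply Finset.eq_univ_of_card
    rw [hcard, ← Nat.card_eq_fintype_card]
    exact hidx.symm
  have hX : (QuotientGroup.mk X : ↥(centralizer ({z} : Set G)) ⧸ M) ∈
      ({1, qA, qB, qB * qA} : Finset _) := huniv ▸ Finset.mem_univ _
  simp only [Finset.mem_insert, Finset.mem_singleton] at hX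
  rcases hX with e | e | e | e
  · exact Or.inl ((QuotientGroup.eq_one_iff X).1 e)
  · refine Or.inr (Or.inl ((QuotientGroup.eq_one_iff (N := M) (A * X)).1 ?_))
    rw [QuotientGroup.mk_mul, e, ← hqA, hsq]
  · refine Or.inr (Or.inr (Or.inl ((QuotientGroup.eq_one_iff (N := M) (B * X)).1 ?_)))
    rw [QuotientGroup.mk_mul, e, ← hqB, hsq]
  · refine Or.inr (Or.inr (Or.inr ((QuotientGroup.eq_one_iff (N := M) (B * A * X)).1 ?_)))
    rw [QuotientGroup.mk_mul, QuotientGroup.mk_mul, e, ← hqA, ← hqB, hsq]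

end HData

end Cfsg.Agent.PGammaThreeFour
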