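import Mathlib.GroupTheory.Sylow
import Mathlib.GroupTheory.Solvable

/-!
# The involution centraliser of the automorphism group of `PGL₃(4)`: interface

`HData z` records what the recognition of `H = C_G(z)` (an extraspecial group of order 32 of minus type
extended by `S₄`, acting faithfully) gives to the rest of the proof of S3237:
`W = {1, z, u, zu}`, a normal subgroup `U` of order 64 with centre `W`, `K = U⟨ρ⟩` of order 192 with
`H/K` a four-group, the involutions outside `U`, and the two possible shapes of the involutions of `U`.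
-/

set_option autoImplicit false

namespace Cfsg.Agent.PGammaThreeFour

open Subgroup

variable {G : Type*} [Group G]

/-- The four elements `1, z, u, zu`. -/
def wSet (z u : G) : Set G := {1, z, u, z * u}

/-- All involutions of `U` lie in `W`, and `z`, `u` have different numbers of square roots in `U`. -/
def ThreeShape (z u : G) (U : Subgroup G) : Prop :=
  (∀ y ∈ U, orderOf y = 2 → y ∈ wSet z u) ∧
    Nat.card {x : G // x ∈ U ∧ x * x = z} ≠ Nat.card {x : G // x ∈ U ∧ x * x = u}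

/-- Properties of one of the two elementary abelian subgroups of order 16 of `U`. -/
structure Piece (z u : G) (U K A : Subgroup G) : Prop where
  le : A ≤ U
  w_mem : wSet z u ⊆ (A : Set G)
  card : Nat.card A = 16
  sq : ∀ a ∈ A, a * a = 1
  normal : K ≤ normalizer (A : Set G)
  cent : ∀ y ∈ A, y ∉ wSet z u → K ⊓ centralizer {y} = A
  trans : ∀ y ∈ A, y ∉ wSet z u → ∀ y' ∈ A, y' ∉ wSet z u → ∃ k ∈ K, k * y * k⁻¹ = y'

/-- The involutions of `U` fill two elementary abelian subgroups of order 16 swapped by `H`. -/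
structure Pair (z u : G) (U K A₁ A₂ : Subgroup G) : Prop where
  p₁ : Piece z u U K A₁
  p₂ : Piece z u U K A₂
  inter : ((A₁ ⊓ A₂ : Subgroup G) : Set G) = wSet z u
  join : A₁ ⊔ A₂ = U
  invol : ∀ y ∈ U, orderOf y = 2 → y ∈ A₁ ∨ y ∈ A₂
  swap : ∃ s ∈ centralizer ({z} : Set G), A₁.map (MulAut.conj s).toMonoidHom = A₂

/-- The facts about `H = C_G(z)` used by the proof. -/
structure HData (z : G) where
  /-- the second central involution of `U` -/
  u : G
  /-- the subgroup of order 64 -/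
  U : Subgroup G
  /-- `K = U⟨ρ⟩` -/
  K : Subgroup G
  /-- an element of order 3 of `K` -/
  ρ : G
  /-- an involution of `H ∖ K` -/
  a : G
  /-- an involution of `H` outside `K ∪ aK` -/
  b : G
  hz : orderOf z = 2
  hu : orderOf u = 2
  u_ne : u ≠ z
  card_H : Nat.card (centralizer ({z} : Set G)) = 768
  solvable : Group.IsSolvable (centralizer ({z} : Set G))
  odd_normal : ∀ N : Subgroup G, N ≤ centralizer {z} →
    centralizer ({z} : Set G) ≤ normalizer (N : Set G) → N ≠ ⊥ → z ∈ N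
  K_le : K ≤ centralizer ({z} : Set G)
  U_le : U ≤ K
  card_U : Nat.card U = 64
  card_K : Nat.card K = 192
  U_normal : centralizer ({z} : Set G) ≤ normalizer (U : Set G)
  K_normal : centralizer ({z} : Set G) ≤ normalizer (K : Set G)
  sq_mem : ∀ h ∈ centralizer ({z} : Set G), h * h ∈ K
  z_mem : z ∈ U
  u_mem : u ∈ U
  z_sq : ∃ p ∈ U, p * p = z
  u_sq : ∃ p ∈ U, p * p = u
  center : ∀ x ∈ U, ((∀ y ∈ U, x * y = y * x) ↔ x ∈ wSet z u)
  K_cent : ∀ k ∈ K, k * u = u * k
  u_conj : ∀ h ∈ centralizer ({z} : Set G), h * u * h⁻¹ = u ∨ h * u * h⁻¹ = z * u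
  u_move : ∃ h ∈ centralizer ({z} : Set G), h * u * h⁻¹ = z * u
  ρ_mem : ρ ∈ K
  ρ_order : orderOf ρ = 3
  ρ_free : ∀ x ∈ U, ρ * x * ρ⁻¹ * x⁻¹ ∈ wSet z u → x ∈ wSet z u
  sylow_center : ∀ S : Subgroup G, S ≤ centralizer {z} → Nat.card S = 256 →
    ∀ x ∈ S, (∀ y ∈ S, x * y = y * x) → x = 1 ∨ x = z
  a_mem : a ∈ centralizer ({z} : Set G)
  a_order : orderOf a = 2
  a_notMem : a ∉ K
  b_mem : b ∈ centralizer ({z} : Set G)
  b_order : orderOf b = 2
  b_notMem : b ∉ K
  ab_notMem : a * b ∉ K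
  outer_sq : ∀ y ∈ centralizer ({z} : Set G), orderOf y = 2 → y ∉ K →
    (∀ p ∈ centralizer ({z} : Set G), p * y = y * p → orderOf (p * p) = 2 → p * p = z) ∧
      ∃ p ∈ centralizer ({z} : Set G), p * y = y * p ∧ p * p = z
  inner_sq : ∀ y ∈ U, orderOf y = 2 →
    ∃ Q : Subgroup G, Q ≤ centralizer {z} ⊓ centralizer {y} ∧ IsPGroup 2 Q ∧
      ∃ p ∈ Q, ∃ q ∈ Q, orderOf (p * p) = 2 ∧ orderOf (q * q) = 2 ∧ p * p ≠ q * q
  shape : ThreeShape z u U ∨ ∃ A₁ A₂ : Subgroup G, Pair z u U K A₁ A₂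

end Cfsg.Agent.PGammaThreeFour
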