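import Cfsg.Agent.Fg24.InvolD8.KleinOrder

/-!
# Groups with a self-centralizing four group permuted transitively by its normalizer
-/

namespace Cfsg.Agent.PGammaThreeFour

open Subgroup

universe u

variable {X : Type u} [Group X] [Finite X] {W : Subgroup X}

/-- An odd order subgroup normalized by the four group is trivial. -/
theorem fsc_odd_trivial (hW : Nat.card W = 4) (hsq : ∀ w ∈ W, w * w = 1)
    (hC : ∀ w ∈ W, w ≠ 1 → centralizer ({w} : Set X) ≤ W) {N : Subgroup X} (hN : N.Normal)
    (hodd : Nat.card N % 2 = 1) : N = ⊥ := by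
  classical
  have hNW : ∀ n ∈ N, n ∈ W → n = 1 := by
    intro n hn hw
    have h2 : orderOf n ∣ 2 := orderOf_dvd_of_pow_eq_one (by rw [pow_two]; exact hsq n hw)
    have hd : orderOf n ∣ Nat.card N := N.orderOf_dvd_natCard hn
    rcases (Nat.dvd_prime Nat.prime_two).mp h2 with h | h
    · exact orderOf_eq_one_iff.mp h
    · rw [h] at hd; omega
  have hinv : ∀ w ∈ W, w ≠ 1 → ∀ n ∈ N, w * n * w⁻¹ = n⁻¹ := by
    intro w hw hw1
    have hw2 : w * w = 1 := hsq w hw
    let f : N → N := fun n =>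
      ⟨n.1⁻¹ * (w * n.1 * w⁻¹), mul_mem (inv_mem n.2) (hN.conj_mem _ n.2 w)⟩
    have hf : Function.Injective f := by
      intro a b h
      have h' : a.1⁻¹ * (w * a.1 * w⁻¹) = b.1⁻¹ * (w * b.1 * w⁻¹) := congrArg Subtype.val h
      have hfx : w * (a.1 * b.1⁻¹) * w⁻¹ = a.1 * b.1⁻¹ := by
        calc w * (a.1 * b.1⁻¹) * w⁻¹
            = a.1 * (a.1⁻¹ * (w * a.1 * w⁻¹)) * (w * b.1 * w⁻¹)⁻¹ := by group
          _ = a.1 * b.1⁻¹ := by rw [h']; group
      refine Subtype.ext (mul_inv_eq_one.mp (hNW _ (mul_mem a.2 (inv_mem b.2)) ?_))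
      exact hC w hw hw1 (mem_centralizer_singleton_iff.mpr (mul_inv_eq_iff_eq_mul.mp hfx).symm)
    intro n hn
    obtain ⟨a, ha⟩ := (Finite.injective_iff_surjective.mp hf) ⟨n, hn⟩
    have ha' : a.1⁻¹ * (w * a.1 * w⁻¹) = n := congrArg Subtype.val ha
    have hww : w * (w * a.1 * w⁻¹) * w⁻¹ = a.1 := by
      rw [show w * (w * a.1 * w⁻¹) * w⁻¹ = (w * w) * a.1 * (w * w)⁻¹ by group, hw2, one_mul,
        inv_one, mul_one]
    rw [← ha', show w * (a.1⁻¹ * (w * a.1 * w⁻¹)) * w⁻¹ =
      (w * a.1 * w⁻¹)⁻¹ * (w * (w * a.1 * w⁻¹) * w⁻¹) by group, hww]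
    group
  obtain ⟨a, ha1⟩ : ∃ a : W, a ≠ 1 := by
    have : Nontrivial W := Finite.one_lt_card_iff_nontrivial.mp (by omega)
    exact exists_ne 1
  obtain ⟨b, hb⟩ : ∃ b : W, b ∉ zpowers a := by
    by_contra h
    push Not at h
    have he : zpowers a = ⊤ := top_le_iff.mp fun x _ => h x
    have hc := Nat.card_zpowers a
    rw [he, card_top, hW] at hc
    have h2 : orderOf a ∣ 2 := orderOf_dvd_of_pow_eq_one (by
      rw [pow_two]; exact Subtype.ext (hsq a.1 a.2))
    rw [← hc] at h2
    norm_num at h2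
  refine (eq_bot_iff_forall N).mpr fun n hn => hNW n hn ?_
  have ha : a.1 ≠ 1 := fun h => ha1 (Subtype.ext h)
  have hb1 : b.1 ≠ 1 := fun h => hb (by rw [show b = 1 from Subtype.ext h]; exact one_mem _)
  have hab : a.1 * b.1 ≠ 1 := fun h => hb (by
    rw [show b = a⁻¹ from Subtype.ext (eq_inv_of_mul_eq_one_right h)]
    exact inv_mem (mem_zpowers a))
  refine hC _ (mul_mem a.2 b.2) hab (mem_centralizer_singleton_iff.mpr ?_)
  have h1 : a.1 * (b.1 * n * b.1⁻¹) * a.1⁻¹ = n := by
    rw [hinv _ b.2 hb1 n hn, hinv _ a.2 ha _ (inv_mem hn), inv_inv]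
  calc n * (a.1 * b.1) = a.1 * (b.1 * n * b.1⁻¹) * a.1⁻¹ * (a.1 * b.1) := by rw [h1]
    _ = a.1 * b.1 * n := by group

/-- A four group that is the centralizer of each of its involutions and whose normalizer is
transitive on them lies in `A₄` or in a simple group of order `60`. -/
theorem four_self_cent (W : Subgroup X) (hW : Nat.card W = 4) (hsq : ∀ w ∈ W, w * w = 1)
    (hC : ∀ w ∈ W, w ≠ 1 → Subgroup.centralizer ({w} : Set X) ≤ W)
    (hd : ∀ w ∈ W, w ≠ 1 → ∀ w' ∈ W, w' ≠ 1 →
      ∃ d ∈ Subgroup.normalizer (W : Set X), d * w * d⁻¹ = w') :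
    (Nat.card X = 12 ∧ W.Normal) ∨ (Nat.card X = 60 ∧ IsSimpleGroup X) := by
  classical
  have : Fact (Nat.Prime 2) := ⟨Nat.prime_two⟩
  have : Fact (Nat.Prime 5) := ⟨by norm_num⟩
  have hWc : ∀ a ∈ W, ∀ b ∈ W, a * b = b * a := by
    intro a ha b hb
    have h := hsq _ (mul_mem ha hb)
    calc a * b = a * (a * b * (a * b)) * b := by rw [h, mul_one]
      _ = (a * a) * (b * a) * (b * b) := by group
      _ = b * a := by rw [hsq a ha, hsq b hb, one_mul, mul_one]
  have hWle : ∀ w ∈ W, W ≤ centralizer ({w} : Set X) := fun w hw x hx =>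
    mem_centralizer_singleton_iff.mpr (hWc x hx w hw)
  obtain ⟨w, hw1⟩ : ∃ w : W, w ≠ 1 := by
    have : Nontrivial W := Finite.one_lt_card_iff_nontrivial.mp (by omega)
    exact exists_ne 1
  have hw0 : w.1 ≠ 1 := fun h => hw1 (Subtype.ext h)
  have hworder : orderOf w.1 = 2 :=
    orderOf_eq_prime (by rw [pow_two]; exact hsq _ w.2) hw0
  have hCw : centralizer ({w.1} : Set X) = W := le_antisymm (hC _ w.2 hw0) (hWle _ w.2)
  -- the four group is a Sylow subgroup
  have hWp : IsPGroup 2 W := IsPGroup.of_card (n := 2) (by rw [hW]; norm_num)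
  obtain ⟨P, hP⟩ := hWp.exists_le_sylow
  have hPW : (P : Subgroup X) = W := by
    refine le_antisymm ?_ hP
    have : Nontrivial (P : Subgroup X) :=
      ⟨⟨⟨w.1, hP w.2⟩, 1, fun h => hw0 (congrArg Subtype.val h)⟩⟩
    have := P.2.center_nontrivial
    obtain ⟨z, hz⟩ := exists_ne (1 : center (P : Subgroup X))
    have hzc : ∀ x ∈ (P : Subgroup X), x * z.1.1 = z.1.1 * x := fun x hx =>
      congrArg Subtype.val (mem_center_iff.mp z.2 ⟨x, hx⟩)
    have hzW : z.1.1 ∈ W := by
      rw [← hCw, mem_centralizer_singleton_iff]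
      exact (hzc _ (hP w.2)).symm
    exact fun x hx => hC _ hzW (fun h => hz (Subtype.ext (Subtype.ext h)))
      (mem_centralizer_singleton_iff.mpr (hzc x hx))
  have hidx : ¬ 2 ∣ W.index := hPW ▸ P.not_dvd_index
  have hodd : Odd W.index := Nat.odd_iff.mpr (Nat.two_dvd_ne_zero.mp hidx)
  have hG : Nat.card X = 4 * W.index := by rw [← hW, card_mul_index]
  -- there is no normal complement
  have hnc : ¬ ∃ N : Subgroup X, N.Normal ∧ Nat.card N = W.index := by
    rintro ⟨N, hN, hNc⟩
    have hNindex : N.index = 4 := by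
      have h := N.card_mul_index
      rw [hNc, hG, mul_comm 4] at h
      exact Nat.eq_of_mul_eq_mul_left hodd.pos h
    have hab : ∀ a b : X ⧸ N, a * b = b * a :=
      IsPGroup.commutative_of_card_eq_prime_sq (p := 2)
        (by rw [← index_eq_card, hNindex]; norm_num)
    obtain ⟨w', hw', hne⟩ : ∃ w' : W, w' ≠ 1 ∧ w' ≠ w := by
      by_contra h
      push Not at h
      have hsub : Nat.card W ≤ 2 := by
        have hs : Function.Surjective (![1, w] : Fin 2 → W) := fun x => by
          rcases eq_or_ne x 1 with h1 | h1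
          · exact ⟨0, h1.symm⟩
          · exact ⟨1, (h x h1).symm⟩
        simpa using Nat.card_le_card_of_surjective _ hs
      omega
    obtain ⟨d, -, hdw⟩ := hd _ w.2 hw0 _ w'.2 fun h => hw' (Subtype.ext h)
    apply hne
    have hmem : w'.1 * w.1⁻¹ ∈ N := by
      rw [← hdw, ← QuotientGroup.eq_one_iff]
      simp only [QuotientGroup.mk_mul, QuotientGroup.mk_inv]
      rw [hab (d : X ⧸ N) w.1, mul_inv_cancel_right, mul_inv_cancel]
    have h1 : orderOf (w'.1 * w.1⁻¹) ∣ 2 := orderOf_dvd_of_pow_eq_one (by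
      rw [pow_two]; exact hsq _ (mul_mem w'.2 (inv_mem w.2)))
    have h2 := N.orderOf_dvd_natCard hmem
    rw [hNc] at h2
    rcases (Nat.dvd_prime Nat.prime_two).mp h1 with h | h
    · exact Subtype.ext (mul_inv_eq_one.mp (orderOf_eq_one_iff.mp h))
    · rw [h] at h2; exact absurd h2 hidx
  have hcard : W.index = 3 ∨ W.index = 15 := by
    refine Fg24.InvolD8.card_klein_selfcentralizing W.index hodd hG hnc P w.1
      (hP w.2) hworder ?_
    rw [hCw, hW]
  -- the normalizer has order twelve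
  set M : Subgroup X := normalizer (W : Set X) with hM
  have hMcard : Nat.card M = 12 := by
    let f : M → {x : W // x ≠ 1} := fun d =>
      ⟨⟨d.1 * w.1 * d.1⁻¹, (mem_normalizer_iff.mp d.2 w.1).mp w.2⟩, fun h => hw0
        (conj_eq_one_iff.mp (congrArg Subtype.val h : d.1 * w.1 * d.1⁻¹ = 1))⟩
    have hs : ∀ x : {x : W // x ≠ 1}, ∃ d : M, f d = x := by
      intro x
      obtain ⟨d, hdM, hdx⟩ := hd _ w.2 hw0 _ x.1.2 fun h => x.2 (Subtype.ext h)
      exact ⟨⟨d, hdM⟩, Subtype.ext (Subtype.ext hdx)⟩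
    choose g hg using hs
    have hfW : ∀ (d : M) (c : W), f (d * ⟨c.1, le_normalizer c.2⟩) = f d := by
      intro d c
      refine Subtype.ext (Subtype.ext ?_)
      change d.1 * c.1 * w.1 * (d.1 * c.1)⁻¹ = d.1 * w.1 * d.1⁻¹
      rw [mul_assoc d.1 c.1, hWc _ c.2 _ w.2]
      group
    let Φ : {x : W // x ≠ 1} × W → M := fun p => g p.1 * ⟨p.2.1, le_normalizer p.2.2⟩
    have hΦ : Function.Bijective Φ := by
      refine ⟨?_, ?_⟩
      · rintro ⟨x, c⟩ ⟨y, e⟩ h
        have h1 : f (Φ (x, c)) = f (Φ (y, e)) := congrArg f h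
        simp only [Φ, hfW, hg] at h1
        subst h1
        have h2 : (g x).1 * c.1 = (g x).1 * e.1 := congrArg Subtype.val h
        exact Prod.ext rfl (Subtype.ext (mul_left_cancel h2))
      · intro d
        have he : (g (f d)).1⁻¹ * d.1 ∈ W := by
          rw [← hCw, mem_centralizer_singleton_iff]
          have h1 : (g (f d)).1 * w.1 * (g (f d)).1⁻¹ = d.1 * w.1 * d.1⁻¹ :=
            congrArg (fun x : {x : W // x ≠ 1} => x.1.1) (hg (f d))
          calc (g (f d)).1⁻¹ * d.1 * w.1
              = (g (f d)).1⁻¹ * (d.1 * w.1 * d.1⁻¹) * d.1 := by group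
            _ = w.1 * ((g (f d)).1⁻¹ * d.1) := by rw [← h1]; group
        refine ⟨(f d, ⟨_, he⟩), Subtype.ext ?_⟩
        change (g (f d)).1 * ((g (f d)).1⁻¹ * d.1) = d.1
        rw [mul_inv_cancel_left]
    rw [← Nat.card_eq_of_bijective Φ hΦ, Nat.card_prod, hW]
    have h3 : Nat.card {x : W // x ≠ 1} = 3 := by
      have : Fintype W := Fintype.ofFinite W
      rw [Nat.card_eq_fintype_card, Fintype.card_subtype_compl, Fintype.card_subtype_eq,
        ← Nat.card_eq_fintype_card, hW]
    rw [h3]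
  rcases hcard with h | h
  · left
    have hX : Nat.card X = 12 := by rw [hG, h]
    refine ⟨hX, normalizer_eq_top_iff.mp ?_⟩
    exact eq_top_of_card_eq _ (by rw [← hM, hMcard, hX])
  · right
    have hX : Nat.card X = 60 := by rw [hG, h]
    refine ⟨hX, ?_⟩
    have : Nontrivial X := Finite.one_lt_card_iff_nontrivial.mp (by omega)
    refine ⟨fun N hN => ?_⟩
    rcases Nat.mod_two_eq_zero_or_one (Nat.card N) with he | ho
    swap
    · exact Or.inl (fsc_odd_trivial hW hsq hC hN ho)
    right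
    have : N.Normal := hN
    have hWN : W ≤ N := by
      obtain ⟨x, hx⟩ := exists_prime_orderOf_dvd_card' (G := N) 2
        (Nat.dvd_of_mod_eq_zero he)
      have hxp : IsPGroup 2 (zpowers x.1) := IsPGroup.of_card (n := 1)
        (by rw [Nat.card_zpowers, orderOf_coe, hx, pow_one])
      obtain ⟨S, hS⟩ := hxp.exists_le_sylow
      obtain ⟨g, hg⟩ := MulAction.exists_smul_eq X S P
      have hgW : g * x.1 * g⁻¹ ∈ W := by
        rw [← hPW, ← hg]
        exact ⟨x.1, hS (mem_zpowers _), rfl⟩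
      have hgN : g * x.1 * g⁻¹ ∈ N := hN.conj_mem _ x.2 g
      have hne : g * x.1 * g⁻¹ ≠ 1 := fun h => by
        rw [conj_eq_one_iff] at h
        rw [show x = 1 from Subtype.ext h, orderOf_one] at hx
        omega
      intro c hc
      rcases eq_or_ne c 1 with rfl | hc1
      · exact one_mem _
      · obtain ⟨d, -, hdc⟩ := hd _ hgW hne _ hc hc1
        rw [← hdc]
        exact hN.conj_mem _ hgN d
    -- Frattini
    have hWNp : IsPGroup 2 (W.subgroupOf N) := hWp.comap_subtype
    obtain ⟨Q, hQ⟩ := hWNp.exists_le_sylow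
    have hQW : (Q : Subgroup N).map N.subtype = W := by
      refine le_antisymm ?_ fun c hc => ⟨⟨c, hWN hc⟩, hQ hc, rfl⟩
      rw [← hPW]
      exact (P.3 (Q.2.map _) (hPW ▸ fun c hc => ⟨⟨c, hWN hc⟩, hQ hc, rfl⟩)).le
    have hsup : M ⊔ N = ⊤ := by
      rw [hM, ← hQW]
      exact Sylow.normalizer_sup_eq_top Q
    have hrel : N.index = N.relIndex M := by
      rw [← relIndex_sup_right (H := M) (K := N), hsup, relIndex_top_right]
    have hmul : Nat.card (N ⊓ M : Subgroup X) * N.relIndex M = 12 := by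
      rw [← hMcard, ← Nat.card_congr (subgroupOfEquivOfLe (inf_le_right : N ⊓ M ≤ M)).toEquiv,
        inf_subgroupOf_right]
      exact card_mul_index _
    have h4 : 4 ∣ Nat.card (N ⊓ M : Subgroup X) :=
      hW ▸ card_dvd_of_le (le_inf hWN le_normalizer)
    have hNX := N.card_mul_index
    rw [hrel, hX] at hNX
    obtain ⟨e, he4⟩ := h4
    rw [he4, mul_assoc] at hmul
    have hcases : N.relIndex M = 1 ∨ N.relIndex M = 3 := by
      have : N.relIndex M ∣ 3 := ⟨e, by rw [mul_comm]; omega⟩
      exact (Nat.dvd_prime (by norm_num)).mp this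
    rcases hcases with h1 | h1
    · rw [h1, mul_one] at hNX
      exact eq_top_of_card_eq _ (by rw [hNX, hX])
    · exfalso
      rw [h1] at hNX
      have hN20 : Nat.card N = 20 := by omega
      let R : Sylow 5 N := default
      have hR : Nat.card (R : Subgroup N) = 5 := by
        obtain ⟨k, hk⟩ := IsPGroup.iff_card.mp R.2
        have hmulR := (R : Subgroup N).card_mul_index
        rw [hN20, hk] at hmulR
        have hnd := R.not_dvd_index
        rcases k with _ | _ | k
        · rw [pow_zero, one_mul] at hmulR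
          omega
        · rw [hk]; norm_num
        · rw [pow_succ, pow_succ] at hmulR
          have h25 : 25 ∣ 20 := ⟨5 ^ k * (R : Subgroup N).index, by rw [← hmulR]; ring⟩
          omega
      have hn : Nat.card (Sylow 5 N) = 1 := by
        have h5 : Nat.card (Sylow 5 N) ∣ 4 := by
          have := (R : Subgroup N).card_mul_index
          rw [hR, hN20] at this
          have hi : (R : Subgroup N).index = 4 := by omega
          exact hi ▸ Sylow.card_dvd_index R
        have hmod := card_sylow_modEq_one 5 N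
        have hle := Nat.le_of_dvd (by norm_num) h5
        generalize Nat.card (Sylow 5 N) = n at hmod hle h5
        interval_cases n <;> revert hmod <;> decide
      have := (Nat.card_eq_one_iff_unique.mp hn).1
      have : (R : Subgroup N).Normal := Sylow.normal_of_subsingleton R
      have := Sylow.characteristic_of_normal R inferInstance
      have hbot := fsc_odd_trivial hW hsq hC
        (N := (R : Subgroup N).map N.subtype) inferInstance
        (by rw [card_subtype, hR])
      rw [map_eq_bot_iff_of_injective _ N.subtype_injective] at hbot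
      rw [hbot, card_bot] at hR
      omega

end Cfsg.Agent.PGammaThreeFour
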