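import Cfsg.Agent.PGammaThreeFour.Basics
import Cfsg.Agent.Invol.IsolatedApps
import Cfsg.Agent.Core.PCore

/-!
# The odd core, and the case of an isolated involution
-/

set_option autoImplicit false

namespace Cfsg.Agent.PGammaThreeFour

open Subgroup

variable {G : Type*} [Group G] [Finite G]

namespace HData

variable {z : G} (D : HData z)
include D

theorem inverts_odd {O : Subgroup G} [O.Normal] (hO : Odd (Nat.card O)) :
    ∀ x ∈ O, z * x * z⁻¹ = x⁻¹ := by
  classical
  have hfix : ∀ x ∈ O, z * x = x * z → x = 1 := by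
    intro x hx hxc
    by_contra hne
    have hz : z ∈ O ⊓ centralizer {z} := D.odd_normal _ inf_le_right (fun h hh => by
      rw [mem_normalizer_iff]
      intro y
      simp only [Subgroup.mem_inf]
      constructor
      · rintro ⟨hy, hy'⟩
        exact ⟨Subgroup.Normal.conj_mem ‹_› y hy h,
          mul_mem (mul_mem hh hy') (inv_mem hh)⟩
      · rintro ⟨hy, hy'⟩
        constructor
        · have := Subgroup.Normal.conj_mem ‹_› _ hy h⁻¹
          simpa [mul_assoc] using this
        · have := mul_mem (mul_mem (inv_mem hh) hy') hh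
          simpa [mul_assoc] using this) (fun h => hne (by
        have : x ∈ O ⊓ centralizer ({z} : Set G) := ⟨hx, mem_cent.2 hxc.symm⟩
        rwa [h, mem_bot] at this))
    have h2 : orderOf z ∣ Nat.card O :=
      Subgroup.orderOf_dvd_natCard O (Subgroup.mem_inf.1 hz).1
    rw [D.hz] at h2
    exact (Nat.not_even_iff_odd.2 hO) (even_iff_two_dvd.2 h2)
  -- `x ↦ x⁻¹ zxz⁻¹` is injective, and its values are inverted
  let f : O → O := fun x => ⟨(x : G)⁻¹ * (z * x * z⁻¹),
    mul_mem (inv_mem x.2) (Subgroup.Normal.conj_mem ‹_› _ x.2 z)⟩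
  have hinj : Function.Injective f := by
    intro a b h
    have h' : (a : G)⁻¹ * (z * a * z⁻¹) = (b : G)⁻¹ * (z * b * z⁻¹) := congrArg Subtype.val h
    have hc : z * ((b : G) * (a : G)⁻¹) * z⁻¹ = (b : G) * (a : G)⁻¹ := by
      calc z * ((b : G) * (a : G)⁻¹) * z⁻¹
          = b * ((b : G)⁻¹ * (z * b * z⁻¹)) * ((a : G)⁻¹ * (z * a * z⁻¹))⁻¹ * (a : G)⁻¹ := by group
        _ = _ := by rw [← h']; group
    exact Subtype.ext (mul_inv_eq_one.1 (hfix _ (mul_mem b.2 (inv_mem a.2))
      (mul_inv_eq_iff_eq_mul.1 hc))).symm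
  intro x hx
  obtain ⟨y, hy⟩ := (Finite.injective_iff_surjective.1 hinj) ⟨x, hx⟩
  have hy' : (y : G)⁻¹ * (z * y * z⁻¹) = x := congrArg Subtype.val hy
  rw [← hy']
  have hzz := D.z_sq'
  have hzi : z⁻¹ = z := inv_eq_of_mul_eq_one_right hzz
  simp only [hzi, mul_inv_rev, inv_inv, mul_assoc, hzz, mul_one]

theorem comm_of_odd {O : Subgroup G} [O.Normal] (hO : Odd (Nat.card O)) :
    ∀ x ∈ O, ∀ y ∈ O, x * y = y * x := by
  intro x hx y hy
  have h := D.inverts_odd hO _ (mul_mem hx hy)
  rw [show z * (x * y) * z⁻¹ = (z * x * z⁻¹) * (z * y * z⁻¹) by group, D.inverts_odd hO x hx,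
    D.inverts_odd hO y hy, mul_inv_rev] at h
  calc x * y = (y⁻¹ * x⁻¹)⁻¹ := by group
    _ = (x⁻¹ * y⁻¹)⁻¹ := by rw [← h]
    _ = y * x := by group

theorem odd_oddCore : Odd (Nat.card (Cfsg.oddCore G)) :=
  Nat.coprime_two_right.1 (Core.coprime_card_pPrimeCore (p := 2) (G := G))

theorem oddCore_comm : IsMulCommutative ↥(Cfsg.oddCore G) :=
  ⟨⟨fun x y => Subtype.ext (D.comm_of_odd D.odd_oddCore x x.2 y y.2)⟩⟩

/-- If `z` is isolated in a normal subgroup `N` containing it, then `N` is solvable. -/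
theorem solvable_of_isolated (N : Subgroup G) [N.Normal] (hzN : z ∈ N)
    (hiso : ∀ g ∈ N, g * z * g⁻¹ ∈ centralizer ({z} : Set G) → g * z * g⁻¹ = z) :
    Group.IsSolvable N := by
  haveI := D.solvable
  set zN : N := ⟨z, hzN⟩
  have hz : Cfsg.IsIsolatedInvolution zN := by
    refine ⟨?_, fun g hg => Subtype.ext (hiso g g.2 (mem_cent.2 ?_))⟩
    · rw [← D.hz]; exact (orderOf_injective N.subtype N.subtype_injective zN).symm
    · exact (congrArg Subtype.val hg.eq).symm
  set O := (Cfsg.oddCore N).map N.subtype with hOdef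
  haveI : O.Normal := ConjAct.normal_of_characteristic_of_normal
  have hOodd : Odd (Nat.card O) := by
    rw [Nat.card_congr (equivMapOfInjective _ _ N.subtype_injective).symm.toEquiv]
    exact Nat.coprime_two_right.1 (Core.coprime_card_pPrimeCore (p := 2) (G := N))
  have hcomm : ∀ a b : Cfsg.oddCore N, a * b = b * a := fun a b => Subtype.ext (Subtype.ext
    (D.comm_of_odd hOodd _ ⟨a, a.2, rfl⟩ _ ⟨b, b.2, rfl⟩))
  haveI : Group.IsSolvable (Cfsg.oddCore N) := Group.isSolvable_of_comm hcomm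
  set H' := (centralizer ({z} : Set G)).subgroupOf N
  haveI : Group.IsSolvable H' := Group.isSolvable_of_isSolvable_injective
    (f := (((N.subtype).comp H'.subtype).codRestrict (centralizer ({z} : Set G)) fun x => x.2))
    (fun a b h => Subtype.ext (Subtype.ext (congrArg (fun t : centralizer ({z} : Set G) => (t : G)) h)))
  haveI : Group.IsSolvable (N ⧸ Cfsg.oddCore N) := by
    refine Group.isSolvable_of_surjective (f := (QuotientGroup.mk' (Cfsg.oddCore N)).comp H'.subtype) ?_
    intro q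
    induction q using QuotientGroup.induction_on with
    | _ g =>
      obtain ⟨o, ho, hc⟩ := Invol.isolated_decomp hz g
      refine ⟨⟨o⁻¹ * g, mem_cent.2 (congrArg Subtype.val hc.eq)⟩, ?_⟩
      show QuotientGroup.mk (o⁻¹ * g) = QuotientGroup.mk g
      rw [QuotientGroup.mk_mul, (QuotientGroup.eq_one_iff (o⁻¹)).2 (inv_mem ho), one_mul]
  exact Group.isSolvable_of_ker_le_range (Cfsg.oddCore N).subtype
    (QuotientGroup.mk' (Cfsg.oddCore N)) (by simp)

end HData

end Cfsg.Agent.PGammaThreeFour
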