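import Cfsg.Agent.PGammaThreeFour.Peel
import Cfsg.Agent.PGammaThreeFour.OddCore

/-!
# Fusion in `W`
-/

set_option autoImplicit false

namespace Cfsg.Agent.PGammaThreeFour

open Subgroup

variable {G : Type*} [Group G]

theorem orderOf_conj {g x : G} : orderOf (g * x * g⁻¹) = orderOf x :=
  orderOf_injective (MulAut.conj g).toMonoidHom (MulAut.conj g).injective x

theorem conj_eq_of_commute {g x : G} (h : g * x = x * g) : g * x * g⁻¹ = x := by
  rw [h, mul_inv_cancel_right]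

theorem commute_of_conj_eq {g x : G} (h : g * x * g⁻¹ = x) : g * x = x * g :=
  mul_inv_eq_iff_eq_mul.1 h

theorem mem_normalizer_of_conj_mem {H : Subgroup G} [Finite H] {x : G}
    (h : ∀ k ∈ H, x * k * x⁻¹ ∈ H) : x ∈ normalizer (H : Set G) := by
  rw [mem_normalizer_iff]
  intro y
  refine ⟨fun hy => h y hy, fun hy => ?_⟩
  have hinj : Function.Injective (fun k : H => (⟨x * k * x⁻¹, h k k.2⟩ : H)) := fun a b hab =>
    Subtype.ext (mul_left_cancel (mul_right_cancel (congrArg Subtype.val hab)))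
  obtain ⟨k, hk⟩ := Finite.injective_iff_surjective.1 hinj ⟨_, hy⟩
  have := mul_left_cancel (mul_right_cancel (congrArg Subtype.val hk))
  exact this ▸ k.2

theorem ncard_wSet_le (z u : G) : Set.ncard (wSet z u) ≤ 4 := by
  have h1 := Set.ncard_insert_le (1 : G) {z, u, z * u}
  have h2 := Set.ncard_insert_le z {u, z * u}
  have h3 := Set.ncard_insert_le u {z * u}
  rw [Set.ncard_singleton] at h3
  unfold wSet
  omega

variable [Finite G]

namespace HData

variable {z : G} (D : HData z)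
include D

theorem card_two_subgroup {N : Subgroup G} [N.Normal] (hNK : N ⊓ centralizer {z} = D.K)
    {R : Subgroup G} (hR : IsPGroup 2 R) (hRN : R ≤ N) : Nat.card R ≤ 64 := by
  haveI : Fact (Nat.Prime 2) := ⟨Nat.prime_two⟩
  obtain ⟨T, hT⟩ := hR.exists_le_sylow
  obtain ⟨S, hS⟩ := D.exists_sylow_le
  obtain ⟨g, hg⟩ := MulAction.exists_smul_eq G T S
  have hle : R.map (MulAut.conj g).toMonoidHom ≤ D.U := by
    rintro _ ⟨x, hx, rfl⟩
    have hxS : g * x * g⁻¹ ∈ (S : Subgroup G) := by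
      rw [← hg, Sylow.coe_subgroup_smul]; exact ⟨x, hT hx, rfl⟩
    obtain ⟨n, hn⟩ := S.2 ⟨_, hxS⟩
    refine D.mem_U_of_two_power (hNK ▸ ⟨Subgroup.Normal.conj_mem ‹_› x (hRN hx) g, hS hxS⟩)
      (n := n) ?_
    exact congrArg Subtype.val hn
  have := Subgroup.card_le_card_group (H := R)
  calc Nat.card R = Nat.card (R.map (MulAut.conj g).toMonoidHom) :=
        (Nat.card_congr (equivMapOfInjective _ _ (MulAut.conj g).injective).toEquiv)
    _ ≤ Nat.card D.U := Subgroup.card_le_of_le hle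
    _ = 64 := D.card_U

theorem eq_zu_of_wSet {x : G} (hx : x ∈ wSet z D.u) (hx2 : orderOf x = 2) :
    x = z ∨ x = D.u ∨ x = z * D.u := by
  rcases hx with rfl | h | h | h
  · simp at hx2
  exacts [Or.inl h, Or.inr (Or.inl h), Or.inr (Or.inr h)]

theorem wSet_orderOf {x : G} (hx : x ∈ wSet z D.u) (h1 : x ≠ 1) : orderOf x = 2 := by
  refine orderOf_two_of_sq ?_ h1
  rcases hx with rfl | rfl | rfl | rfl
  · simp
  · exact D.z_sq'
  · exact D.u_sq'
  · rw [mul_assoc, ← mul_assoc D.u, D.u_comm, mul_assoc z, D.u_sq', mul_one, D.z_sq']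

variable {N : Subgroup G} [N.Normal] (hNK : N ⊓ centralizer {z} = D.K)
include hNK

theorem K_le_N : D.K ≤ N := hNK ▸ inf_le_left

theorem mem_K_of {x : G} (hx : x ∈ N) (hc : x * z = z * x) : x ∈ D.K :=
  hNK ▸ (⟨hx, mem_cent.2 hc⟩ : x ∈ N ⊓ centralizer ({z} : Set G))

theorem conj_u (A₁ A₂ : Subgroup G) (P : Pair z D.u D.U D.K A₁ A₂)
    {g : G} (hg : g ∈ N) {y : G} (hy : y ∈ A₁) (hyW : y ∉ wSet z D.u) (hgy : g * z * g⁻¹ = y) :
    ∃ g ∈ N, g * z * g⁻¹ = D.u := by
  classical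
  haveI : Fact (Nat.Prime 2) := ⟨Nat.prime_two⟩
  by_contra hno
  push Not at hno
  have hno' : ∀ g ∈ N, g * z * g⁻¹ ≠ z * D.u := by
    intro g hg e
    obtain ⟨h, hh, he⟩ := D.u_move
    refine hno (h⁻¹ * g * h) ?_ ?_
    · have := Subgroup.Normal.conj_mem ‹N.Normal› g hg h⁻¹
      simpa using this
    · have hz : h * z * h⁻¹ = z := conj_eq_of_commute (mem_cent.1 hh)
      calc h⁻¹ * g * h * z * (h⁻¹ * g * h)⁻¹ = h⁻¹ * (g * (h * z * h⁻¹) * g⁻¹) * h := by group
        _ = h⁻¹ * (z * D.u) * h := by rw [hz, e]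
        _ = D.u := by rw [← he]; group
  have hall : ∀ y' ∈ A₁, y' ∉ wSet z D.u → ∃ g ∈ N, g * z * g⁻¹ = y' := by
    intro y' hy' hyW'
    obtain ⟨k, hk, rfl⟩ := P.p₁.trans y hy hyW y' hy' hyW'
    exact ⟨k * g, mul_mem (D.K_le_N hNK hk) hg, by rw [← hgy]; group⟩
  -- a 2-element of `C_N(y)` normalising `A₁` and moving `z`
  set C := N ⊓ centralizer ({y} : Set G) with hC
  have hAC : A₁ ≤ C := le_inf ((P.p₁.le.trans D.U_le).trans (D.K_le_N hNK)) fun a ha =>
    mem_cent.2 (by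
      have := P.p₁.cent y hy hyW
      rw [← this] at ha
      exact mem_cent.1 ha.2)
  have hUg : (D.U.map (MulAut.conj g).toMonoidHom) ≤ C := by
    rintro _ ⟨x, hx, rfl⟩
    refine ⟨Subgroup.Normal.conj_mem ‹_› x (D.K_le_N hNK (D.U_le hx)) g, mem_cent.2 ?_⟩
    show g * x * g⁻¹ * y = y * (g * x * g⁻¹)
    rw [← hgy, show g * x * g⁻¹ * (g * z * g⁻¹) = g * (x * z) * g⁻¹ by group,
      mem_cent.1 (D.U_le_H hx)]
    group
  have hA2 : IsPGroup 2 A₁ := IsPGroup.of_card (n := 4) P.p₁.card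
  obtain ⟨R, hR⟩ := (hA2.comap_subtype (K := C)).exists_le_sylow
  have hRcard : 64 ≤ Nat.card R := by
    have h1 : 2 ^ 6 ∣ Nat.card C := by
      have := Subgroup.card_dvd_of_le hUg
      rw [← Nat.card_congr (equivMapOfInjective _ _ (MulAut.conj g).injective).toEquiv,
        D.card_U] at this
      exact this
    exact Nat.le_of_dvd Nat.card_pos (R.pow_dvd_card_of_pow_dvd_card h1)
  have hlt : A₁.subgroupOf C < (R : Subgroup C) := by
    refine lt_of_le_of_ne hR fun e => ?_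
    rw [← e, Nat.card_congr (subgroupOfEquivOfLe hAC).toEquiv, P.p₁.card] at hRcard
    omega
  haveI : Group.IsNilpotent (R : Subgroup C) := R.2.isNilpotent
  have hlt' : (A₁.subgroupOf C).subgroupOf (R : Subgroup C) < ⊤ := by
    rw [lt_top_iff_ne_top]; intro h; exact hlt.not_ge (subgroupOf_eq_top.1 h)
  obtain ⟨r, hr, hr'⟩ := SetLike.exists_of_lt (Group.normalizerCondition_of_isNilpotent _ hlt')
  set s : G := ((r : C) : G) with hs
  have hsN : s ∈ N := (r : C).2.1
  have hsy : s * y = y * s := mem_cent.1 (r : C).2.2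
  have hsA : s ∉ A₁ := fun h => hr' h
  have hnorm : ∀ a ∈ A₁, s * a * s⁻¹ ∈ A₁ := fun a ha =>
    (mem_normalizer_iff.1 hr ⟨⟨a, hAC ha⟩, hR ha⟩).1 ha
  have hnorm' : ∀ a ∈ A₁, s⁻¹ * a * s ∈ A₁ := fun a ha => by
    have := (mem_normalizer_iff.1 (inv_mem hr) ⟨⟨a, hAC ha⟩, hR ha⟩).1 ha
    simpa [mem_subgroupOf] using this
  have hz : s * z * s⁻¹ ≠ z := fun h => hsA (by
    rw [← P.p₁.cent y hy hyW]
    exact ⟨D.mem_K_of hNK hsN (commute_of_conj_eq h), mem_cent.2 hsy⟩)
  -- `s` permutes the pair `u, zu`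
  have hset : ∀ v, v = D.u ∨ v = z * D.u → s * v * s⁻¹ = D.u ∨ s * v * s⁻¹ = z * D.u := by
    intro v hv
    have hvW : v ∈ wSet z D.u := by rcases hv with rfl | rfl <;> simp [wSet]
    have hv1 : v ≠ 1 := by
      rcases hv with rfl | rfl
      exacts [D.u_ne_one, D.zu_ne_one]
    have hvA : v ∈ A₁ := P.p₁.w_mem hvW
    have hnv : ∀ g ∈ N, g * z * g⁻¹ ≠ v := by
      rcases hv with rfl | rfl
      exacts [hno, hno']
    by_cases hw : s * v * s⁻¹ ∈ wSet z D.u
    · rcases D.eq_zu_of_wSet hw (by rw [orderOf_conj]; exact D.wSet_orderOf hvW hv1) with h | h | h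
      · exfalso
        refine hnv s⁻¹ (inv_mem hsN) ?_
        rw [inv_inv, ← h]; group
      · exact Or.inl h
      · exact Or.inr h
    · exfalso
      obtain ⟨g', hg', he⟩ := hall _ (hnorm v hvA) hw
      refine hnv (s⁻¹ * g') (mul_mem (inv_mem hsN) hg') ?_
      calc s⁻¹ * g' * z * (s⁻¹ * g')⁻¹ = s⁻¹ * (g' * z * g'⁻¹) * s := by group
        _ = v := by rw [he]; group
  apply hz
  have hne : s * D.u * s⁻¹ ≠ s * (z * D.u) * s⁻¹ := fun h => by
    have := mul_left_cancel (mul_right_cancel h)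
    exact D.z_ne_one (right_eq_mul.1 this)
  have hprod : s * z * s⁻¹ = (s * (z * D.u) * s⁻¹) * (s * D.u * s⁻¹)⁻¹ := by group
  have hui : D.u⁻¹ = D.u := inv_eq_of_mul_eq_one_right D.u_sq'
  have hzi : z⁻¹ = z := inv_eq_of_mul_eq_one_right D.z_sq'
  rcases hset D.u (Or.inl rfl) with h1 | h1 <;>
    rcases hset (z * D.u) (Or.inr rfl) with h2 | h2
  · exact absurd (h1.trans h2.symm) hne
  · rw [hprod, h1, h2]; group
  · rw [hprod, h1, h2, mul_inv_rev, hui, hzi, ← mul_assoc, D.u_sq', one_mul]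
  · exact absurd (h1.trans h2.symm) hne

/-- In a non-solvable `N`, the involution `z` is conjugate to `u`. -/
theorem exists_conj_u (hns : ¬ Group.IsSolvable N) : ∃ g ∈ N, g * z * g⁻¹ = D.u := by
  by_contra hno
  apply hns
  refine D.solvable_of_isolated N (D.K_le_N hNK (D.U_le D.z_mem)) fun g hg hc => ?_
  by_contra hne
  have hK : g * z * g⁻¹ ∈ D.K :=
    D.mem_K_of hNK (Subgroup.Normal.conj_mem ‹_› z (D.K_le_N hNK (D.U_le D.z_mem)) g)
      (mem_cent.1 hc)
  have h2 : orderOf (g * z * g⁻¹) = 2 := by rw [orderOf_conj]; exact D.hz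
  have hU := D.involution_mem_U hK h2
  have hW : g * z * g⁻¹ ∉ wSet z D.u := by
    intro hw
    rcases D.eq_zu_of_wSet hw h2 with h | h | h
    · exact hne h
    · exact hno ⟨g, hg, h⟩
    · obtain ⟨h', hh', he⟩ := D.u_move
      refine hno ⟨h'⁻¹ * g * h', by simpa using Subgroup.Normal.conj_mem ‹N.Normal› g hg h'⁻¹, ?_⟩
      have hz : h' * z * h'⁻¹ = z := conj_eq_of_commute (mem_cent.1 hh')
      calc h'⁻¹ * g * h' * z * (h'⁻¹ * g * h')⁻¹
          = h'⁻¹ * (g * (h' * z * h'⁻¹) * g⁻¹) * h' := by group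
        _ = h'⁻¹ * (z * D.u) * h' := by rw [hz, h]
        _ = D.u := by rw [← he]; group
  rcases D.shape with ⟨h3, -⟩ | ⟨A₁, A₂, P⟩
  · exact hW (h3 _ hU h2)
  · rcases P.invol _ hU h2 with hA | hA
    · exact hno (D.conj_u hNK A₁ A₂ P hg hA hW rfl)
    · obtain ⟨s, hs, hsA⟩ := P.swap
      rw [← hsA] at hA
      obtain ⟨y, hy, hys⟩ := hA
      have hys' : s * y * s⁻¹ = g * z * g⁻¹ := hys
      refine hno (D.conj_u hNK A₁ A₂ P (g := s⁻¹ * g * s)
        (by simpa using Subgroup.Normal.conj_mem ‹N.Normal› g hg s⁻¹) hy ?_ ?_)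
      · intro hyW
        apply hW
        rw [← hys']
        have hu := D.u_conj s hs
        have hz : s * z * s⁻¹ = z := conj_eq_of_commute (mem_cent.1 hs)
        rcases hyW with rfl | rfl | rfl | rfl
        · simp [wSet]
        · rw [hz]; simp [wSet]
        · rcases hu with h | h <;> rw [h] <;> simp [wSet]
        · rw [show s * (z * D.u) * s⁻¹ = (s * z * s⁻¹) * (s * D.u * s⁻¹) by group, hz]
          rcases hu with h | h <;> rw [h] <;> simp [wSet, ← mul_assoc, D.z_sq']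
      · have hz : s * z * s⁻¹ = z := conj_eq_of_commute (mem_cent.1 hs)
        calc s⁻¹ * g * s * z * (s⁻¹ * g * s)⁻¹ = s⁻¹ * (g * (s * z * s⁻¹) * g⁻¹) * s := by group
          _ = s⁻¹ * (g * z * g⁻¹) * s := by rw [hz]
          _ = y := by rw [← hys']; group

/-- The cycle: an element of `N_N(K)` permuting `z, u, zu` cyclically. -/
theorem exists_three_cycle (hns : ¬ Group.IsSolvable N) :
    ∃ g ∈ N, g ∈ normalizer (D.K : Set G) ∧ g ∈ normalizer (D.U : Set G) ∧
      g * z * g⁻¹ = D.u ∧ g * D.u * g⁻¹ = z * D.u := by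
  obtain ⟨g, hg, hgu⟩ := D.exists_conj_u hNK hns
  haveI := D.finite_K
  have hconjK : ∀ k ∈ D.K, g⁻¹ * k * g ∈ D.K := fun k hk =>
    D.mem_K_of hNK (by simpa using Subgroup.Normal.conj_mem ‹N.Normal› k (D.K_le_N hNK hk) g⁻¹) (by
      calc g⁻¹ * k * g * z = g⁻¹ * (k * (g * z * g⁻¹)) * g := by group
        _ = g⁻¹ * ((g * z * g⁻¹) * k) * g := by rw [hgu, D.K_cent k hk]
        _ = z * (g⁻¹ * k * g) := by group)
  have hnK : g ∈ normalizer (D.K : Set G) := by
    have hi : g⁻¹ ∈ normalizer (D.K : Set G) :=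
      mem_normalizer_of_conj_mem (by simpa using hconjK)
    simpa using inv_mem hi
  have hnU : g ∈ normalizer (D.U : Set G) := by
    have hi : g ∈ normalizer (D.U : Set G) := by
      refine mem_normalizer_of_conj_mem fun x hx => ?_
      have hxK : g * x * g⁻¹ ∈ D.K := (mem_normalizer_iff.1 hnK x).1 (D.U_le hx)
      haveI := D.finite_U
      have hp : IsPGroup 2 D.U := IsPGroup.of_card (n := 6) (by rw [D.card_U]; norm_num)
      obtain ⟨n, hn⟩ := hp ⟨x, hx⟩
      have hn' : x ^ 2 ^ n = 1 := congrArg Subtype.val hn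
      exact D.mem_U_of_two_power hxK (n := n) (by rw [conj_pow, hn', mul_one, mul_inv_cancel])
    exact hi
  refine ⟨g, hg, hnK, hnU, hgu, ?_⟩
  have hv : g * D.u * g⁻¹ ∈ wSet z D.u := by
    refine (D.center _ ((mem_normalizer_iff.1 hnU _).1 D.u_mem)).1 fun x hx => ?_
    have hx' : g⁻¹ * x * g ∈ D.U := by
      have := (mem_normalizer_iff.1 (inv_mem hnU) x).1 hx
      simpa using this
    have hc := ((D.center D.u D.u_mem).2 (by simp [wSet])) _ hx'
    calc g * D.u * g⁻¹ * x = g * (D.u * (g⁻¹ * x * g)) * g⁻¹ := by group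
      _ = g * ((g⁻¹ * x * g) * D.u) * g⁻¹ := by rw [hc]
      _ = x * (g * D.u * g⁻¹) := by group
  rcases D.eq_zu_of_wSet hv (by rw [orderOf_conj]; exact D.hu) with h | h | h
  swap
  · exact absurd (mul_left_cancel (mul_right_cancel (h.trans hgu.symm))) D.u_ne
  swap
  · exact h
  -- a swap gives a 2-subgroup of order 128
  exfalso
  haveI : Fact (Nat.Prime 2) := ⟨Nat.prime_two⟩
  have hg2 : g * g ∈ D.K := D.mem_K_of hNK (mul_mem hg hg) (commute_of_conj_eq (by
    calc g * g * z * (g * g)⁻¹ = g * (g * z * g⁻¹) * g⁻¹ := by group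
      _ = z := by rw [hgu, h]))
  have hgK : g ∉ D.K := fun hk => D.u_ne (by
    rw [← hgu, conj_eq_of_commute (mem_cent.1 (D.K_le hk))])
  -- `g³` has the same properties, and its image in `N(U)/U` has order 2
  set k := g ^ 3 with hkdef
  have h6 : g ^ 6 ∈ D.U := by
    haveI := normal_subgroupOf_of_le_normalizer D.U_le_normalizer
    have := (D.U.subgroupOf D.K).pow_index_mem ⟨g * g, hg2⟩
    rw [show (D.U.subgroupOf D.K).index = 3 from D.index_U, mem_subgroupOf] at this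
    simp only [SubmonoidClass.coe_pow] at this
    rwa [← pow_two, ← pow_mul] at this
  have hkU : k ∉ D.U := fun hk => hgK (by
    have : g = k * (g * g)⁻¹ := by rw [hkdef]; group
    rw [this]; exact mul_mem (D.U_le hk) (inv_mem hg2))
  have hkN : k ∈ normalizer (D.U : Set G) := pow_mem hnU 3
  have hR2 : IsPGroup 2 ↥(D.U ⊔ zpowers k) := by
    intro x
    have hxn : (x : G) ∈ normalizer (D.U : Set G) :=
      sup_le Subgroup.le_normalizer (zpowers_le.2 hkN) x.2
    obtain ⟨a, ha, b, ⟨n, rfl⟩, hab⟩ :=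
      (Coprime.mem_sup_of_le_normalizer (zpowers_le.2 hkN)).1 x.2
    have hx2 : (x : G) * x ∈ D.U := by
      rw [← hab]
      have e : a * k ^ n * (a * k ^ n) = a * (k ^ n * a * (k ^ n)⁻¹) * ((k * k) ^ n) := by
        rw [(Commute.refl k).mul_zpow]; group
      rw [e]
      refine mul_mem (mul_mem ha ((mem_normalizer_iff.1 (zpow_mem hkN n) a).1 ha)) (zpow_mem ?_ n)
      rw [hkdef, ← pow_add]; exact h6
    have hU2 : IsPGroup 2 D.U := IsPGroup.of_card (n := 6) (by rw [D.card_U]; norm_num)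
    obtain ⟨m, hm⟩ := hU2 ⟨_, hx2⟩
    refine ⟨m + 1, Subtype.ext ?_⟩
    have hm' : ((x : G) * x) ^ 2 ^ m = 1 := congrArg Subtype.val hm
    simpa [pow_succ', pow_mul, pow_two] using hm'
  have hle := D.card_two_subgroup hNK hR2
    (sup_le ((D.U_le).trans (D.K_le_N hNK)) (zpowers_le.2 (pow_mem hg 3)))
  have hlt : D.U < D.U ⊔ zpowers k := by
    refine lt_of_le_of_ne le_sup_left fun e => hkU ?_
    rw [e]; exact mem_sup_right (mem_zpowers k)
  exact hlt.ne (Subgroup.eq_of_le_of_card_ge hlt.le (by rw [D.card_U]; exact hle))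

theorem pair_of_nonsolvable (hns : ¬ Group.IsSolvable N) :
    ∃ A₁ A₂, Pair z D.u D.U D.K A₁ A₂ := by
  rcases D.shape with ⟨-, h⟩ | h
  · exfalso
    obtain ⟨g, -, -, hgU, hgu, -⟩ := D.exists_three_cycle hNK hns
    apply h
    refine Nat.card_congr (Equiv.subtypeEquiv (MulAut.conj g).toEquiv fun x => ?_)
    have hm : x ∈ D.U ↔ g * x * g⁻¹ ∈ D.U := mem_normalizer_iff.1 hgU x
    have hs : x * x = z ↔ g * x * g⁻¹ * (g * x * g⁻¹) = D.u := by
      rw [← hgu, show g * x * g⁻¹ * (g * x * g⁻¹) = g * (x * x) * g⁻¹ by group, mul_left_inj,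
        mul_right_inj]
    exact and_congr hm hs
  · exact h

omit hNK in
theorem rel_trans {A : Subgroup G} {g g' y : G}
    (hW : ∀ w ∈ wSet z D.u, g * w * g⁻¹ ∈ wSet z D.u)
    (hA : ∀ a ∈ wSet z D.u, ∀ b ∈ wSet z D.u, a * b ∈ wSet z D.u) (_ : y ∈ A)
    (h : g' * y * g'⁻¹ * y⁻¹ ∈ wSet z D.u) (h2 : g * y * g⁻¹ * y⁻¹ ∈ wSet z D.u) :
    g * g' * y * (g * g')⁻¹ * y⁻¹ ∈ wSet z D.u := by
  rw [show g * g' * y * (g * g')⁻¹ * y⁻¹ =
    (g * (g' * y * g'⁻¹ * y⁻¹) * g⁻¹) * (g * y * g⁻¹ * y⁻¹) by group]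
  exact hA _ (hW _ h) _ h2

theorem exists_h (hns : ¬ Group.IsSolvable N) : ∃ A₁ A₂, Pair z D.u D.U D.K A₁ A₂ ∧
    ∃ h ∈ N, orderOf h = 3 ∧ h * D.ρ = D.ρ * h ∧ h ∈ normalizer (D.K : Set G) ∧
      h ∈ normalizer (D.U : Set G) ∧ h ∈ normalizer (A₁ : Set G) ∧
      h ∈ normalizer (A₂ : Set G) ∧ h * z * h⁻¹ = D.u ∧ h * D.u * h⁻¹ = z * D.u := by
  classical
  haveI : Fact (Nat.Prime 3) := ⟨Nat.prime_three⟩
  obtain ⟨A₁, A₂, P⟩ := D.pair_of_nonsolvable hNK hns
  obtain ⟨g, hg, hgK, hgU, hgz, hgu⟩ := D.exists_three_cycle hNK hns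
  refine ⟨A₁, A₂, P, ?_⟩
  have hgzu : g * (z * D.u) * g⁻¹ = z := by
    rw [show g * (z * D.u) * g⁻¹ = (g * z * g⁻¹) * (g * D.u * g⁻¹) by group, hgz, hgu,
      ← mul_assoc, D.u_comm, mul_assoc, D.u_sq', mul_one]
  have hg3 : g ^ 3 ∈ D.K := D.mem_K_of hNK (pow_mem hg 3) (commute_of_conj_eq (by
    calc g ^ 3 * z * (g ^ 3)⁻¹ = g * (g * (g * z * g⁻¹) * g⁻¹) * g⁻¹ := by
          rw [pow_succ, pow_two]; group
      _ = z := by rw [hgz, hgu, hgzu]))
  have hzne : ∀ k ∈ D.K, k * z * k⁻¹ = z := fun k hk => conj_eq_of_commute (mem_cent.1 (D.K_le hk))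
  have hune : ∀ k ∈ D.K, k * D.u * k⁻¹ = D.u := fun k hk => conj_eq_of_commute (D.K_cent k hk)
  have hzune : ∀ k ∈ D.K, k * (z * D.u) * k⁻¹ = z * D.u := fun k hk => by
    rw [show k * (z * D.u) * k⁻¹ = (k * z * k⁻¹) * (k * D.u * k⁻¹) by group, hzne k hk, hune k hk]
  have hgnK : g ∉ D.K := fun h => D.u_ne (hgz.symm.trans (hzne g h))
  set L := D.K ⊔ zpowers g with hL
  have hLn : L ≤ normalizer (D.K : Set G) := sup_le Subgroup.le_normalizer (zpowers_le.2 hgK)
  have hLN : L ≤ N := sup_le (D.K_le_N hNK) (zpowers_le.2 hg)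
  have hLU : L ≤ normalizer (D.U : Set G) := sup_le D.U_le_normalizer (zpowers_le.2 hgU)
  have hcases : ∀ x ∈ L, x ∈ D.K ∨ (∃ k ∈ D.K, x = k * g) ∨ (∃ k ∈ D.K, x⁻¹ = k * g) := by
    intro x hx
    obtain ⟨k, hk, y, ⟨n, rfl⟩, rfl⟩ :=
      (Coprime.mem_sup_of_le_normalizer (zpowers_le.2 hgK)).1 hx
    have hn := Int.emod_add_ediv_mul n 3
    have he : ∀ m : ℤ, g ^ (3 * m) ∈ D.K := fun m => by
      rw [zpow_mul]; exact zpow_mem (by exact_mod_cast hg3) m
    have : n % 3 = 0 ∨ n % 3 = 1 ∨ n % 3 = 2 := by omega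
    rcases this with h | h | h
    · left
      show k * g ^ n ∈ D.K
      rw [show n = 3 * (n / 3) by omega]
      exact mul_mem hk (he _)
    · refine Or.inr (Or.inl ⟨k * g ^ (3 * (n / 3)), mul_mem hk (he _), ?_⟩)
      show k * g ^ n = _
      rw [mul_assoc, ← zpow_add_one, show 3 * (n / 3) + 1 = n by omega]
    · refine Or.inr (Or.inr ⟨g ^ (-n) * k⁻¹ * (g ^ (-n))⁻¹ * g ^ (-(3 * (n / 3) + 3)),
        mul_mem ((mem_normalizer_iff.1 (zpow_mem hgK _) _).1 (inv_mem hk)) ?_, ?_⟩)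
      · rw [show -(3 * (n / 3) + 3) = 3 * (-(n / 3) - 1) by ring]
        exact he _
      · show (k * g ^ n)⁻¹ = _
        rw [mul_assoc, ← zpow_add_one, show -(3 * (n / 3) + 3) + 1 = -n by omega]
        group
  have hcard : 9 ∣ Nat.card L := by
    haveI : (D.K.subgroupOf L).Normal := normal_subgroupOf_of_le_normalizer hLn
    have h1 := Subgroup.card_mul_index (D.K.subgroupOf L)
    rw [Nat.card_congr (subgroupOfEquivOfLe (le_sup_left : D.K ≤ L)).toEquiv, D.card_K] at h1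
    have h3 : orderOf (QuotientGroup.mk (⟨g, mem_sup_right (mem_zpowers g)⟩ : L) :
        L ⧸ D.K.subgroupOf L) = 3 := by
      refine orderOf_eq_prime ?_ fun h => hgnK ?_
      · rw [← QuotientGroup.mk_pow, QuotientGroup.eq_one_iff, mem_subgroupOf]
        exact hg3
      · exact (QuotientGroup.eq_one_iff (N := D.K.subgroupOf L) _).1 h
    have h4 : 3 ∣ (D.K.subgroupOf L).index := h3 ▸ orderOf_dvd_natCard _
    obtain ⟨c, hc⟩ := h4
    exact ⟨64 * c, by rw [← h1, hc]; ring⟩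
  have hρL : D.ρ ∈ L := mem_sup_left D.ρ_mem
  have hρp : IsPGroup 3 (zpowers (⟨D.ρ, hρL⟩ : L)) := by
    refine IsPGroup.of_card (n := 1) ?_
    rw [Nat.card_zpowers, pow_one, ← D.ρ_order]
    exact (orderOf_injective L.subtype L.subtype_injective _).symm
  obtain ⟨R, hR⟩ := hρp.exists_le_sylow
  obtain ⟨n, hn⟩ := IsPGroup.iff_card.1 R.2
  have h9 : 3 ^ 2 ∣ Nat.card R := R.pow_dvd_card_of_pow_dvd_card hcard
  have hRK : ∀ x ∈ (R : Subgroup L), (x : G) ∈ D.K → (x : G) ^ 3 = 1 := by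
    intro x hx hxK
    obtain ⟨m, hm⟩ := R.2 ⟨x, hx⟩
    have hm' : (x : G) ^ 3 ^ m = 1 := by
      have := congrArg (fun t : (R : Subgroup L) => (((t : L)) : G)) hm
      simpa using this
    haveI := D.finite_K
    have h192 : orderOf (x : G) ∣ 192 := D.card_K ▸ Subgroup.orderOf_dvd_natCard D.K hxK
    obtain ⟨j, -, hj⟩ := (Nat.dvd_prime_pow Nat.prime_three).1 (orderOf_dvd_of_pow_eq_one hm')
    rw [hj] at h192
    have hj1 : j ≤ 1 := by
      by_contra hc
      have := (pow_dvd_pow 3 (show 2 ≤ j by omega)).trans h192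
      norm_num at this
    rw [← orderOf_dvd_iff_pow_eq_one, hj]
    exact pow_dvd_pow 3 hj1
  -- `R` is abelian of order 9
  set RK := (D.K.subgroupOf L).subgroupOf (R : Subgroup L) with hRKdef
  have hidx : RK.index ≤ 3 := by
    haveI : (D.K.subgroupOf L).Normal := normal_subgroupOf_of_le_normalizer hLn
    rw [hRKdef]
    refine le_trans (Nat.le_of_dvd (Nat.pos_of_ne_zero Subgroup.index_ne_zero_of_finite)
      (Subgroup.relIndex_dvd_index_of_normal _ _)) ?_
    have hle : ∀ q : L ⧸ D.K.subgroupOf L, q ∈ ({1, QuotientGroup.mk ⟨g, mem_sup_right (mem_zpowers g)⟩,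
        (QuotientGroup.mk ⟨g, mem_sup_right (mem_zpowers g)⟩)⁻¹} : Finset _) := by
      intro q
      induction q using QuotientGroup.induction_on with
      | _ x =>
        simp only [Finset.mem_insert, Finset.mem_singleton]
        rcases hcases _ x.2 with h | ⟨k, hk, h⟩ | ⟨k, hk, h⟩
        · exact Or.inl ((QuotientGroup.eq_one_iff x).2 h)
        · refine Or.inr (Or.inl ?_)
          have : x = ⟨k, mem_sup_left hk⟩ * ⟨g, mem_sup_right (mem_zpowers g)⟩ := Subtype.ext h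
          rw [this, QuotientGroup.mk_mul, (QuotientGroup.eq_one_iff _).2 (show
            (⟨k, mem_sup_left hk⟩ : L) ∈ D.K.subgroupOf L from hk), one_mul]
        · refine Or.inr (Or.inr ?_)
          have : x⁻¹ = ⟨k, mem_sup_left hk⟩ * ⟨g, mem_sup_right (mem_zpowers g)⟩ := Subtype.ext h
          rw [← inv_inv x, this, QuotientGroup.mk_inv, QuotientGroup.mk_mul,
            (QuotientGroup.eq_one_iff _).2 (show (⟨k, mem_sup_left hk⟩ : L) ∈ D.K.subgroupOf L from hk),
            one_mul]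
    haveI := Fintype.ofFinite (L ⧸ D.K.subgroupOf L)
    rw [Subgroup.index_eq_card, Nat.card_eq_fintype_card]
    exact (Finset.card_le_card (fun q _ => hle q)).trans Finset.card_le_three
  have hRKcard : Nat.card RK ∣ 3 := by
    haveI : IsPGroup 3 RK → True := fun _ => trivial
    obtain ⟨m, hm⟩ := IsPGroup.iff_card.1 (R.2.to_subgroup RK)
    rw [hm]
    refine (pow_dvd_pow 3 (?_ : m ≤ 1)).trans dvd_rfl
    by_contra hc
    let f : RK →* D.K :=
      (((L.subtype).comp (R : Subgroup L).subtype).comp RK.subtype).codRestrict D.K fun x => x.2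
    have hf : Function.Injective f := fun a b h =>
      Subtype.ext (Subtype.ext (Subtype.ext (congrArg (fun t : D.K => (t : G)) h)))
    have := Subgroup.card_dvd_of_injective f hf
    rw [hm, D.card_K] at this
    have := (pow_dvd_pow 3 (show 2 ≤ m by omega)).trans this
    norm_num at this
  have hn2 : n = 2 := by
    have h1 := Subgroup.card_mul_index RK
    rw [hn] at h9 h1
    have h2 : 3 ^ n ≤ 3 ^ 2 := by
      rw [← h1]
      calc Nat.card RK * RK.index ≤ 3 * 3 := Nat.mul_le_mul (Nat.le_of_dvd (by norm_num) hRKcard) hidx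
        _ = 3 ^ 2 := by norm_num
    have h3 := Nat.le_of_dvd (by positivity) h9
    rw [Nat.pow_le_pow_iff_right (by norm_num)] at h2 h3
    omega
  have habel : ∀ a ∈ (R : Subgroup L), ∀ b ∈ (R : Subgroup L), a * b = b * a := by
    intro a ha b hb
    have := (IsPGroup.commutative_of_card_eq_prime_sq (p := 3) (G := (R : Subgroup L)) (by rw [hn, hn2]))
    exact congrArg Subtype.val (this ⟨a, ha⟩ ⟨b, hb⟩)
  obtain ⟨x, hx, hxK⟩ : ∃ x ∈ (R : Subgroup L), (x : G) ∉ D.K := by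
    by_contra hc
    push Not at hc
    have : RK = ⊤ := eq_top_iff.2 fun x _ => hc x x.2
    rw [this, Subgroup.card_top, hn, hn2] at hRKcard
    norm_num at hRKcard
  -- an element `h` of `R` in `Kg`
  obtain ⟨h, hhR, k, hk, hhk⟩ : ∃ h ∈ (R : Subgroup L), ∃ k ∈ D.K, (h : G) = k * g := by
    rcases hcases _ x.2 with hh | ⟨k, hk, hh⟩ | ⟨k, hk, hh⟩
    · exact absurd hh hxK
    · exact ⟨x, hx, k, hk, hh⟩
    · exact ⟨x⁻¹, inv_mem hx, k, hk, hh⟩
  have hhz : (h : G) * z * (h : G)⁻¹ = D.u := by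
    rw [hhk, show k * g * z * (k * g)⁻¹ = k * (g * z * g⁻¹) * k⁻¹ by group, hgz, hune k hk]
  have hhu : (h : G) * D.u * (h : G)⁻¹ = z * D.u := by
    rw [hhk, show k * g * D.u * (k * g)⁻¹ = k * (g * D.u * g⁻¹) * k⁻¹ by group, hgu, hzune k hk]
  have hcomm : (h : G) * D.ρ = D.ρ * h :=
    congrArg Subtype.val (habel h hhR ⟨D.ρ, hρL⟩ (hR (mem_zpowers _)))
  have hWh : ∀ w ∈ wSet z D.u, (h : G) * w * (h : G)⁻¹ ∈ wSet z D.u := by
    rintro w (hw | hw | hw | hw) <;> rw [hw]
    · simp [wSet]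
    · rw [hhz]; simp [wSet]
    · rw [hhu]; simp [wSet]
    · rw [show (h : G) * (z * D.u) * (h : G)⁻¹ = ((h : G) * z * (h : G)⁻¹) * ((h : G) * D.u * (h : G)⁻¹)
        by group, hhz, hhu, ← mul_assoc, D.u_comm, mul_assoc, D.u_sq', mul_one]
      simp [wSet]
  have hWc : ∀ w, (h : G) * w * (h : G)⁻¹ ∈ wSet z D.u → w ∈ wSet z D.u := by
    intro w hw
    have hwU : w ∈ D.U :=
      (mem_normalizer_iff.1 (hLU h.2) w).2 (D.wSet_subset hw)
    refine (D.center w hwU).1 fun y hy => ?_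
    have hc := (D.center _ (D.wSet_subset hw)).2 hw ((h : G) * y * (h : G)⁻¹)
      ((mem_normalizer_iff.1 (hLU h.2) y).1 hy)
    calc w * y = (h : G)⁻¹ * (((h : G) * w * (h : G)⁻¹) * ((h : G) * y * (h : G)⁻¹)) * h := by group
      _ = (h : G)⁻¹ * (((h : G) * y * (h : G)⁻¹) * ((h : G) * w * (h : G)⁻¹)) * h := by rw [hc]
      _ = y * w := by group
  -- `h` permutes `A₁, A₂`
  have hfix : ∀ A A' : Subgroup G, Piece z D.u D.U D.K A → Piece z D.u D.U D.K A' →
      (∀ y ∈ D.U, orderOf y = 2 → y ∈ A ∨ y ∈ A') → A ≠ A' →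
      ((A ⊓ A' : Subgroup G) : Set G) = wSet z D.u → (h : G) ∈ normalizer (A : Set G) := by
    intro A A' pA pA' hinv hne hint
    have himg : ∀ B : Subgroup G, Piece z D.u D.U D.K B →
        B.map (MulAut.conj (h : G)).toMonoidHom = A ∨ B.map (MulAut.conj (h : G)).toMonoidHom = A' := by
      intro B pB
      obtain ⟨y, hy, hyW⟩ : ∃ y ∈ B, y ∉ wSet z D.u := by
        by_contra hc
        push Not at hc
        have h1 : Nat.card B ≤ Nat.card (↑(wSet z D.u) : Set G) :=
          Nat.card_le_card_of_injective (fun b => ⟨b.1, hc b b.2⟩)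
            fun a b e => Subtype.ext (congrArg Subtype.val e :)
        have h2 : Nat.card (↑(wSet z D.u) : Set G) ≤ 4 := by
          rw [Nat.card_coe_set_eq]
          exact ncard_wSet_le z D.u
        rw [pB.card] at h1
        omega
      have hy2 : orderOf y = 2 := orderOf_two_of_sq (pB.sq y hy) fun e => hyW (by simp [e, wSet])
      have hyU : (h : G) * y * (h : G)⁻¹ ∈ D.U := (mem_normalizer_iff.1 (hLU h.2) y).1 (pB.le hy)
      have hyW' : (h : G) * y * (h : G)⁻¹ ∉ wSet z D.u := fun e => hyW (hWc y e)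
      have key : ∀ C : Subgroup G, Piece z D.u D.U D.K C → (h : G) * y * (h : G)⁻¹ ∈ C →
          B.map (MulAut.conj (h : G)).toMonoidHom = C := by
        intro C pC hC
        refine Subgroup.eq_of_le_of_card_ge ?_ ?_
        · rintro _ ⟨b, hb, rfl⟩
          rw [← pC.cent _ hC hyW']
          refine ⟨(mem_normalizer_iff.1 (hLn h.2) b).1 (D.U_le (pB.le hb)), mem_cent.2 ?_⟩
          show (h : G) * b * (h : G)⁻¹ * ((h : G) * y * (h : G)⁻¹) = _
          have hb' : b * y = y * b := by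
            rw [← pB.cent y hy hyW] at hb
            exact mem_cent.1 hb.2
          rw [show (h : G) * b * (h : G)⁻¹ * ((h : G) * y * (h : G)⁻¹) = h * (b * y) * (h : G)⁻¹
            by group, hb']
          simp [mul_assoc]
        · rw [← Nat.card_congr (equivMapOfInjective _ _ (MulAut.conj (h : G)).injective).toEquiv,
            pB.card, pC.card]
      rcases hinv _ hyU (by rw [orderOf_conj]; exact hy2) with hC | hC
      · exact Or.inl (key A pA hC)
      · exact Or.inr (key A' pA' hC)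
    have hmap : ∀ B C : Subgroup G, B.map (MulAut.conj (h : G)).toMonoidHom = C →
        ∀ b, b ∈ B ↔ (h : G) * b * (h : G)⁻¹ ∈ C := by
      rintro B C rfl b
      exact ⟨fun hb => ⟨b, hb, rfl⟩, fun ⟨c, hc, e⟩ => (MulAut.conj (h : G)).injective e ▸ hc⟩
    rcases himg A pA with e | e
    · exact mem_normalizer_iff.2 (hmap A A e)
    · exfalso
      rcases himg A' pA' with e' | e'
      · -- a swap: `h³ ∈ K` would swap too
        apply hne
        refine Subgroup.eq_of_le_of_card_ge (fun a ha => ?_) (by rw [pA.card, pA'.card])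
        have h1 := (hmap A A' e a).1 ha
        have h2 := (hmap A' A e' _).1 h1
        have h3 := (hmap A A' e _).1 h2
        have hK3 : (h : G) ^ 3 ∈ D.K := D.mem_K_of hNK (pow_mem (hLN h.2) 3) (commute_of_conj_eq (by
          calc (h : G) ^ 3 * z * ((h : G) ^ 3)⁻¹
              = (h : G) * ((h : G) * ((h : G) * z * (h : G)⁻¹) * (h : G)⁻¹) * (h : G)⁻¹ := by
                rw [pow_succ, pow_two]; group
            _ = z := by
              rw [hhz, hhu, show (h : G) * (z * D.u) * (h : G)⁻¹ =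
                ((h : G) * z * (h : G)⁻¹) * ((h : G) * D.u * (h : G)⁻¹) by group, hhz, hhu,
                ← mul_assoc, D.u_comm, mul_assoc, D.u_sq', mul_one]))
        have h4 := (mem_normalizer_iff.1 (pA'.normal hK3) a).2
        refine h4 ?_
        convert h3 using 1
        rw [pow_succ, pow_two]; group
      · apply hne
        have := (Subgroup.map_injective (MulAut.conj (h : G)).injective) (e.trans e'.symm)
        exact this
  have hne : A₁ ≠ A₂ := by
    intro e
    have h1 := P.inter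
    rw [← e, inf_idem] at h1
    have h2 := P.p₁.card
    have : Nat.card A₁ ≤ 4 := by
      show Nat.card ((A₁ : Set G) : Type _) ≤ 4
      rw [h1, Nat.card_coe_set_eq]
      exact ncard_wSet_le z D.u
    omega
  have hn1 := hfix A₁ A₂ P.p₁ P.p₂ P.invol hne P.inter
  have hn2' := hfix A₂ A₁ P.p₂ P.p₁ (fun y a b => (P.invol y a b).symm) hne.symm
    (by rw [inf_comm]; exact P.inter)
  refine ⟨h, hLN h.2, ?_, hcomm, hLn h.2, hLU h.2, hn1, hn2', hhz, hhu⟩
  -- `h` has order 3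
  have hK3 : (h : G) ^ 3 ∈ D.K := D.mem_K_of hNK (pow_mem (hLN h.2) 3) (commute_of_conj_eq (by
    calc (h : G) ^ 3 * z * ((h : G) ^ 3)⁻¹
        = (h : G) * ((h : G) * ((h : G) * z * (h : G)⁻¹) * (h : G)⁻¹) * (h : G)⁻¹ := by
          rw [pow_succ, pow_two]; group
      _ = z := by
        rw [hhz, hhu, show (h : G) * (z * D.u) * (h : G)⁻¹ =
          ((h : G) * z * (h : G)⁻¹) * ((h : G) * D.u * (h : G)⁻¹) by group, hhz, hhu,
          ← mul_assoc, D.u_comm, mul_assoc, D.u_sq', mul_one]))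
  refine orderOf_eq_prime ?_ fun e => ?_
  swap
  · have := hhz
    rw [e, one_mul, inv_one, mul_one] at this
    exact D.u_ne this.symm
  by_contra h3
  -- `h³ = ρ^±` acts freely on `A₁/W`, impossible for a cube
  have hWmul : ∀ a ∈ wSet z D.u, ∀ b ∈ wSet z D.u, a * b ∈ wSet z D.u := fun a ha b hb =>
    (D.center _ (mul_mem (D.wSet_subset ha) (D.wSet_subset hb))).1 fun y hy => by
      rw [mul_assoc, ((D.center b (D.wSet_subset hb)).2 hb) y hy, ← mul_assoc,
        ((D.center a (D.wSet_subset ha)).2 ha) y hy, mul_assoc]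
  obtain ⟨y, hy, d, hd1, hd3, hd⟩ : ∃ y ∈ A₁, ∃ d : ℕ, 1 ≤ d ∧ d ≤ 3 ∧ y ∉ wSet z D.u ∧
      (h : G) ^ d * y * ((h : G) ^ d)⁻¹ * y⁻¹ ∈ wSet z D.u := by
    let W' := Subgroup.closure (wSet z D.u)
    have hW' : ∀ a, a ∈ W' → a ∈ wSet z D.u := by
      intro a ha
      induction ha using Subgroup.closure_induction with
      | mem x hx => exact hx
      | one => simp [wSet]
      | mul a b _ _ iha ihb => exact hWmul a iha b ihb
      | inv a _ iha =>
        have : a⁻¹ = a := by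
          rcases eq_or_ne a 1 with rfl | hne
          · simp
          · exact inv_eq_of_mul_eq_one_right (mul_self_of_orderOf_two (D.wSet_orderOf iha hne))
        rw [this]; exact iha
    obtain ⟨y₀, hy₀, hy₀W⟩ : ∃ y ∈ A₁, y ∉ wSet z D.u := by
      by_contra hc
      push Not at hc
      have h1 : Nat.card A₁ ≤ Nat.card W' :=
        Subgroup.card_le_of_le fun a ha => Subgroup.subset_closure (hc a ha)
      have h2 : Nat.card W' ≤ Nat.card (↑(wSet z D.u) : Set G) :=
        Nat.card_le_card_of_injective (fun b => ⟨b.1, hW' b b.2⟩)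
          fun a b e => Subtype.ext (congrArg Subtype.val e :)
      rw [Nat.card_coe_set_eq, P.p₁.card] at *
      have := ncard_wSet_le z D.u
      omega
    have hpA : ∀ i : ℕ, (h : G) ^ i * y₀ * ((h : G) ^ i)⁻¹ ∈ A₁ := fun i =>
      (mem_normalizer_iff.1 (pow_mem hn1 i) y₀).1 hy₀
    have hpW : ∀ i : ℕ, (h : G) ^ i * y₀ * ((h : G) ^ i)⁻¹ ∉ wSet z D.u := by
      intro i
      induction i with
      | zero => simpa using hy₀W
      | succ i ih =>
        intro hi
        apply ih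
        apply hWc
        convert hi using 1
        rw [pow_succ']; group
    let WA := W'.subgroupOf A₁
    let f : Fin 4 → {q : A₁ ⧸ WA // q ≠ QuotientGroup.mk 1} := fun i =>
      ⟨QuotientGroup.mk ⟨_, hpA i⟩, fun e => hpW i (hW' _ (by
        have := QuotientGroup.eq.1 e
        rw [mem_subgroupOf, mul_one, Subgroup.coe_inv, inv_mem_iff] at this
        exact this))⟩
    have hc4 : Nat.card (A₁ ⧸ WA) ≤ 4 := by
      have h1 := Subgroup.card_mul_index WA
      have h2 : 4 ≤ Nat.card WA := by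
        have hW4 : ({1, z, D.u, z * D.u} : Finset G).card = 4 := by
          rw [Finset.card_insert_of_notMem, Finset.card_insert_of_notMem,
            Finset.card_insert_of_notMem, Finset.card_singleton]
          · simpa using D.z_ne_one
          · simp only [Finset.mem_insert, Finset.mem_singleton, not_or]
            exact ⟨D.u_ne.symm, fun e => D.u_ne_one (left_eq_mul.1 e)⟩
          · simp only [Finset.mem_insert, Finset.mem_singleton, not_or]
            exact ⟨D.z_ne_one.symm, D.u_ne_one.symm, D.zu_ne_one.symm⟩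
        rw [← hW4, ← Nat.card_eq_finsetCard]
        refine Nat.card_le_card_of_injective (fun x => (⟨⟨x.1, P.p₁.w_mem ?_⟩,
          Subgroup.subset_closure ?_⟩ : WA)) fun a b e => ?_
        · exact (by simpa only [Finset.mem_insert, Finset.mem_singleton] using x.2 :
            (x : G) = 1 ∨ (x : G) = z ∨ (x : G) = D.u ∨ (x : G) = z * D.u)
        · exact (by simpa only [Finset.mem_insert, Finset.mem_singleton] using x.2 :
            (x : G) = 1 ∨ (x : G) = z ∨ (x : G) = D.u ∨ (x : G) = z * D.u)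
        · exact Subtype.ext (congrArg (fun t : WA => ((t : A₁) : G)) e)
      rw [P.p₁.card] at h1
      show WA.index ≤ 4
      nlinarith [h1, h2]
    obtain ⟨i, j, hij, he⟩ : ∃ i j : Fin 4, i < j ∧ f i = f j := by
      have hlt : Nat.card {q : A₁ ⧸ WA // q ≠ QuotientGroup.mk 1} < Nat.card (Fin 4) := by
        rw [Nat.card_fin]
        refine lt_of_lt_of_le ?_ hc4
        haveI := Fintype.ofFinite (A₁ ⧸ WA)
        rw [Nat.card_eq_fintype_card, Nat.card_eq_fintype_card]
        exact Fintype.card_subtype_lt (x := (QuotientGroup.mk 1 : A₁ ⧸ WA)) (by simp)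
      obtain ⟨i, j, hne', he⟩ : ∃ i j : Fin 4, i ≠ j ∧ f i = f j := by
        by_contra hc
        push Not at hc
        exact hlt.not_ge (Nat.card_le_card_of_injective f fun a b e => by
          by_contra hne'; exact hc a b hne' e)
      rcases lt_or_gt_of_ne hne' with h | h
      exacts [⟨i, j, h, he⟩, ⟨j, i, h, he.symm⟩]
    refine ⟨_, hpA i, (j : ℕ) - i, by omega, by omega, hpW i, hW' _ ?_⟩
    have := QuotientGroup.eq.1 (congrArg Subtype.val he.symm)
    rw [mem_subgroupOf] at this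
    simp only [Subgroup.coe_mul, Subgroup.coe_inv] at this
    have e : (h : G) ^ ((j : ℕ) - i) * ((h : G) ^ (i : ℕ) * y₀ * ((h : G) ^ (i : ℕ))⁻¹) *
        ((h : G) ^ ((j : ℕ) - i))⁻¹ = (h : G) ^ (j : ℕ) * y₀ * ((h : G) ^ (j : ℕ))⁻¹ := by
      conv_rhs => rw [show (j : ℕ) = ((j : ℕ) - i) + i by omega, pow_add]
      group
    rw [e]
    have hA : ∀ a ∈ A₁, a⁻¹ = a := fun a ha => inv_eq_of_mul_eq_one_right (P.p₁.sq a ha)
    rw [hA _ (hpA j)] at this
    rw [hA _ (hpA i)]
    exact this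
  have hiter : ∀ g' : G, (∀ w ∈ wSet z D.u, g' * w * g'⁻¹ ∈ wSet z D.u) →
      g' * y * g'⁻¹ * y⁻¹ ∈ wSet z D.u → ∀ m : ℕ, g' ^ m * y * (g' ^ m)⁻¹ * y⁻¹ ∈ wSet z D.u := by
    intro g' hg' hy' m
    induction m with
    | zero => simp [wSet]
    | succ m ih =>
      rw [pow_succ']
      exact D.rel_trans hg' hWmul hy ih hy'
  have hWd : ∀ m : ℕ, ∀ w ∈ wSet z D.u, (h : G) ^ m * w * ((h : G) ^ m)⁻¹ ∈ wSet z D.u := by
    intro m
    induction m with
    | zero => intro w hw; simpa using hw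
    | succ m ih =>
      intro w hw
      rw [show (h : G) ^ (m + 1) * w * ((h : G) ^ (m + 1))⁻¹ =
        (h : G) * ((h : G) ^ m * w * ((h : G) ^ m)⁻¹) * (h : G)⁻¹ by rw [pow_succ']; group]
      exact hWh _ (ih w hw)
  have h9' : (h : G) ^ 9 = 1 := by
    have h1 : (⟨h, hhR⟩ : (R : Subgroup L)) ^ 9 = 1 := by
      rw [show (9 : ℕ) = 3 ^ 2 from rfl, ← hn2, ← hn]
      exact pow_card_eq_one'
    have := congrArg (fun t : (R : Subgroup L) => (((t : L)) : G)) h1
    simpa using this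
  -- `h³` has order 3 in `K`, so `ρ` is a power of it
  obtain ⟨e, he⟩ : ∃ e : ℕ, D.ρ = (h : G) ^ (3 * e) := by
    haveI : Finite RK := inferInstance
    let t : RK := ⟨⟨h ^ 3, pow_mem hhR 3⟩, by
      show ((h : L) ^ 3 : L) ∈ D.K.subgroupOf L
      rw [mem_subgroupOf]; simpa using hK3⟩
    let r : RK := ⟨⟨⟨D.ρ, hρL⟩, hR (mem_zpowers _)⟩, D.ρ_mem⟩
    have ht : t ≠ 1 := fun e => h3 (by
      have := congrArg (fun t : RK => ((((t : (R : Subgroup L))) : L) : G)) e
      simpa [t] using this)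
    have hc3 : Nat.card RK = 3 := (Nat.dvd_prime Nat.prime_three).1 hRKcard |>.resolve_left fun h1 =>
      ht (Finite.card_le_one_iff_subsingleton.1 h1.le |>.elim t 1)
    have hgen : zpowers t = ⊤ := zpowers_eq_top_of_prime_card hc3 ht
    have : r ∈ zpowers t := hgen ▸ mem_top r
    obtain ⟨e, he⟩ := (isOfFinOrder_of_finite t).mem_powers_iff_mem_zpowers.2 this
    refine ⟨e, ?_⟩
    have := congrArg (fun t : RK => ((((t : (R : Subgroup L))) : L) : G)) he
    simp only [t, r, SubmonoidClass.coe_pow] at this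
    rw [pow_mul]
    exact this.symm
  have hρy : D.ρ * y * D.ρ⁻¹ * y⁻¹ ∈ wSet z D.u := by
    rw [he]
    have h6 := hiter _ (hWd d) hd.2 (6 / d * (2 * e))
    have : ((h : G) ^ d) ^ (6 / d * (2 * e)) = (h : G) ^ (3 * e) := by
      have h12 : (h : G) ^ (12 * e) = (h : G) ^ (3 * e) := by
        rw [show 12 * e = 9 * e + 3 * e by ring, pow_add, pow_mul, h9', one_pow, one_mul]
      rw [← pow_mul, ← h12]
      congr 1
      interval_cases d <;> omega
    rwa [this] at h6
  exact hd.1 (D.ρ_free y (P.p₁.le hy) hρy)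

end HData

end Cfsg.Agent.PGammaThreeFour
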