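import Cfsg.Agent.CITPair.Main
import Cfsg.Agent.MaxClass.Class

/-!
# A simple CIT group with nonabelian Sylow 2-subgroups of order 64 and 2-rank 4 is `PSL(3, 4)`

If the Sylow subgroups are TI, then their at least fifteen involutions are central and are permuted
transitively by the normalizer, so the commutator of the Sylow subgroup cannot have order two; as
its centre has index four, it has.  A configuration with `q = 2` has a self-centralizing four-group,
which a group of order 64 with an elementary subgroup of order 16 does not have.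
-/

set_option autoImplicit false

namespace Cfsg.Agent.PGammaThreeFour

open Subgroup
open scoped commutatorElement

universe u

section Small

variable {X : Type u} [Group X] [Finite X] (hX : Nat.card X = 64)
  (hna : ∃ a b : X, a * b ≠ b * a) {A : Subgroup X} (hA : Nat.card A = 16)
include hX hna hA

/-- With a large centre the commutators of two elements take one nontrivial value. -/
theorem commutator_unique_64 (hAZ : A ≤ center X) :
    ∃ z : X, z ≠ 1 ∧ z * z = 1 ∧ ∀ a b : X, a * b * a⁻¹ * b⁻¹ = 1 ∨ a * b * a⁻¹ * b⁻¹ = z := by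
  classical
  obtain ⟨x, y, hxy⟩ := hna
  set Z := center X with hZdef
  have hx : x ∉ Z := fun h => hxy (mem_center_iff.1 h y).symm
  have hy : y ∉ Z := fun h => hxy (mem_center_iff.1 h x)
  have hidx : Nat.card (X ⧸ Z) ≤ 4 := by
    have h := card_mul_index Z
    rw [hX, index_eq_card] at h
    have := hA ▸ card_le_of_le hAZ
    nlinarith
  let π : X →* X ⧸ Z := QuotientGroup.mk' Z
  have hπ : ∀ a, π a = 1 ↔ a ∈ Z := fun a => QuotientGroup.eq_one_iff a
  have hcomm : ∀ a b, π a = π b → ∀ c, Commute b c → Commute a c := fun a b e c hbc => by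
    have h : a * b⁻¹ ∈ Z := (hπ _).1 (by rw [map_mul, map_inv, e, mul_inv_cancel])
    have := (show Commute (a * b⁻¹) c from (mem_center_iff.1 h c).symm).mul_left hbc
    rwa [inv_mul_cancel_right] at this
  have n1 : π x ≠ 1 := fun h => hx ((hπ _).1 h)
  have n2 : π y ≠ 1 := fun h => hy ((hπ _).1 h)
  have n3 : π x ≠ π y := fun h => hxy (hcomm x y h y (Commute.refl y))
  have n4 : π x * π y ≠ 1 := fun h => hxy (by
    have h' : π x = π y⁻¹ := by rw [map_inv]; exact eq_inv_of_mul_eq_one_left h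
    exact hcomm x y⁻¹ h' y (Commute.refl y).inv_left)
  have n5 : π x * π y ≠ π x := fun h => n2 (mul_eq_left.1 h)
  have n6 : π x * π y ≠ π y := fun h => n1 (mul_eq_right.1 h)
  haveI := Fintype.ofFinite (X ⧸ Z)
  have hcover : ∀ q : X ⧸ Z, q = 1 ∨ q = π x ∨ q = π y ∨ q = π x * π y := by
    intro q
    have hc : ({1, π x, π y, π x * π y} : Finset (X ⧸ Z)).card = 4 := by
      rw [Finset.card_insert_of_notMem, Finset.card_insert_of_notMem, Finset.card_pair n6.symm]
      · simp [n3, n5.symm]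
      · simp [n1.symm, n2.symm, n4.symm]
    have hu := Finset.eq_univ_of_card _ (le_antisymm (Finset.card_le_univ _)
      (by rw [hc, ← Nat.card_eq_fintype_card]; exact hidx))
    have := hu.symm ▸ Finset.mem_univ q
    simpa using this
  have hyx : π y * π x = π x * π y := by
    rcases hcover (π y * π x) with h | h | h | h
    · exact absurd (mul_eq_one_comm.1 h) n4
    · exact absurd (mul_eq_right.1 h) n2
    · exact absurd (mul_eq_left.1 h) n1
    · exact h
  set z := x * y * x⁻¹ * y⁻¹ with hz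
  have hzZ : z ∈ Z := (hπ _).1 (by
    rw [hz, map_mul, map_mul, map_mul, map_inv, map_inv, ← hyx, mul_inv_cancel_right, mul_inv_cancel])
  have hzc : ∀ a, Commute a z := fun a => mem_center_iff.1 hzZ a
  have hz1 : z ≠ 1 := fun h => hxy (by rwa [hz, mul_inv_eq_one, mul_inv_eq_iff_eq_mul] at h)
  have hxx : x * x ∈ Z := by
    rcases hcover (π x * π x) with h | h | h | h
    · exact (hπ _).1 (by rw [map_mul]; exact h)
    · exact absurd (mul_eq_left.1 h) n1
    · exact absurd (hcomm y (x * x) (by rw [map_mul]; exact h.symm) x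
        ((Commute.refl x).mul_left (Commute.refl x))).eq.symm hxy
    · exact absurd (mul_left_cancel h) n3
  have key : x * y = z * (y * x) := by rw [hz]; group
  have hz2 : z * z = 1 := by
    have e : x * x * y = z * z * (y * (x * x)) := by
      rw [mul_assoc, key, ← mul_assoc, (hzc x).eq, mul_assoc z x, ← mul_assoc x y x, key]
      simp only [mul_assoc]
    rw [mem_center_iff.1 hxx y] at e
    exact (mul_eq_right.1 e.symm)
  have key' : y * x = z * (x * y) := by rw [key, ← mul_assoc, hz2, one_mul]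
  let comm : X → X → X := fun a b => a * b * a⁻¹ * b⁻¹
  have hcl : ∀ a b c, c ∈ Z → comm (a * c) b = comm a b ∧ comm a (b * c) = comm a b := fun a b c hc => by
    have h : ∀ w, Commute c w := fun w => (mem_center_iff.1 hc w).symm
    constructor
    · show a * c * b * (a * c)⁻¹ * b⁻¹ = a * b * a⁻¹ * b⁻¹
      rw [mul_inv_rev, mul_assoc a c b, (h b).eq, ← mul_assoc a b c, mul_assoc (a * b) c,
        mul_inv_cancel_left]
    · show a * (b * c) * a⁻¹ * (b * c)⁻¹ = a * b * a⁻¹ * b⁻¹
      rw [mul_inv_rev, ← mul_assoc a b c, mul_assoc (a * b) c, (h a⁻¹).eq, ← mul_assoc (a * b) a⁻¹ c,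
        ← mul_assoc, mul_inv_cancel_right]
  have hval : ∀ a b c, a * b = c * (b * a) → comm a b = c := fun a b c e => by
    show a * b * a⁻¹ * b⁻¹ = c
    rw [e]; group
  have hrep : ∀ a, ∃ r c, c ∈ Z ∧ a = r * c ∧ (r = 1 ∨ r = x ∨ r = y ∨ r = x * y) := fun a => by
    obtain ⟨r, hr, e⟩ : ∃ r, (r = 1 ∨ r = x ∨ r = y ∨ r = x * y) ∧ π a = π r := by
      rcases hcover (π a) with h | h | h | h
      · exact ⟨1, Or.inl rfl, by rw [h, map_one]⟩
      · exact ⟨x, Or.inr (Or.inl rfl), h⟩
      · exact ⟨y, Or.inr (Or.inr (Or.inl rfl)), h⟩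
      · exact ⟨x * y, Or.inr (Or.inr (Or.inr rfl)), by rw [h, map_mul]⟩
    exact ⟨r, r⁻¹ * a, (hπ _).1 (by rw [map_mul, map_inv, e, inv_mul_cancel]), (mul_inv_cancel_left r a).symm, hr⟩
  refine ⟨z, hz1, hz2, fun a b => ?_⟩
  obtain ⟨r, c, hc, rfl, hr⟩ := hrep a
  obtain ⟨s, d, hd, rfl, hs⟩ := hrep b
  show comm (r * c) (s * d) = 1 ∨ comm (r * c) (s * d) = z
  rw [(hcl r (s * d) c hc).1, (hcl r s d hd).2]
  have hself : ∀ w, comm w w = 1 := fun w => hval w w 1 (one_mul _).symm
  have hone : ∀ w, comm 1 w = 1 ∧ comm w 1 = 1 := fun w => ⟨hval 1 w 1 (by simp), hval w 1 1 (by simp)⟩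
  rcases hr with hr | hr | hr | hr <;> rcases hs with hs | hs | hs | hs <;> rw [hr, hs]
  all_goals first
    | exact Or.inl (hone _).1
    | exact Or.inl (hone _).2
    | exact Or.inl (hself _)
    | skip
  · exact Or.inr (hval x y z key)
  · refine Or.inr (hval x (x * y) z ?_)
    rw [mul_assoc x y x, ← mul_assoc z, ← (hzc x).eq, mul_assoc x z, ← key]
  · exact Or.inr (hval y x z key')
  · refine Or.inr (hval y (x * y) z ?_)
    rw [← mul_assoc, key']
    simp only [mul_assoc]
  · refine Or.inr (hval (x * y) x z ?_)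
    rw [mul_assoc x y x, key', ← mul_assoc x z, (hzc x).eq]
    simp only [mul_assoc]
  · refine Or.inr (hval (x * y) y z ?_)
    rw [← mul_assoc y x y, key', ← mul_assoc z, ← mul_assoc z z, hz2, one_mul]

/-- No self-centralizing four-group. -/
theorem no_four_64 (hAsq : ∀ a ∈ A, a * a = 1) {V : Subgroup X} (hV : Nat.card V = 4)
    (hVsq : ∀ v ∈ V, v * v = 1) (hC : ∀ x, (∀ v ∈ V, Commute x v) → x ∈ V) : False := by
  classical
  have hp : IsPGroup 2 X := IsPGroup.of_card (n := 6) (by rw [hX]; norm_num)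
  haveI : Fact (Nat.Prime 2) := ⟨Nat.prime_two⟩
  haveI : Nontrivial X := Finite.one_lt_card_iff_nontrivial.1 (by omega)
  obtain ⟨z, hzZ, hz1⟩ := (center X).nontrivial_iff_exists_ne_one.1 hp.center_nontrivial
  have hzV : z ∈ V := hC z fun v _ => (mem_center_iff.1 hzZ v).symm
  obtain ⟨x, y, hxy⟩ := hna
  have hne : commutator X ≠ ⊥ := fun h => by
    refine hxy (commutatorElement_eq_one_iff_commute.1 (mem_bot.1 (h ▸ ?_)))
    exact commutator_mem_commutator (mem_top x) (mem_top y)
  set K := commutator X with hK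
  have hKidx := MaxClass.four_le_index_commutator hp hne
  have hKle : Nat.card K ≤ 16 := by
    have h := card_mul_index K
    rw [hX] at h
    nlinarith
  obtain ⟨b, hbV, hbz, hb1⟩ : ∃ b ∈ V, b ∉ zpowers z ∧ b ≠ 1 := by
    have hlt : zpowers z < V := by
      refine lt_of_le_of_ne (zpowers_le.2 hzV) fun e => ?_
      have h4 : orderOf z = 4 := by rw [← Nat.card_zpowers, e, hV]
      have := Nat.le_of_dvd (by norm_num)
        (orderOf_dvd_of_pow_eq_one (show z ^ 2 = 1 by rw [pow_two]; exact hVsq z hzV))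
      omega
    obtain ⟨b, hb, hbn⟩ := SetLike.exists_of_lt hlt
    exact ⟨b, hb, hbn, fun e => hbn (e ▸ one_mem _)⟩
  have hVgen : closure {z, b} = V := by
    refine eq_of_le_of_card_ge ((closure_le V).2 (Set.insert_subset hzV (Set.singleton_subset_iff.2 hbV))) ?_
    have h1 : zpowers z ≤ closure {z, b} := zpowers_le.2 (subset_closure (Set.mem_insert _ _))
    have h2 : zpowers z ≠ closure {z, b} := fun e =>
      hbz (e ▸ subset_closure (Set.mem_insert_of_mem _ (Set.mem_singleton b)))
    have hd := card_dvd_of_le ((closure_le V).2 (Set.insert_subset hzV (Set.singleton_subset_iff.2 hbV)))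
    have hlt := (card_le_of_le h1).lt_of_ne fun e => h2 (eq_of_le_of_card_ge h1 e.ge)
    have hz2 : 1 < Nat.card (zpowers z) := by
      rw [Nat.card_zpowers]
      exact lt_of_le_of_ne (orderOf_pos z) (Ne.symm (orderOf_eq_one_iff.not.2 hz1))
    rw [hV] at hd ⊢
    have := Nat.le_of_dvd (by norm_num) hd
    interval_cases Nat.card (closure {z, b} : Subgroup X) <;> omega
  have hCb : ∀ g : X, Commute g b → g ∈ V := fun g hg => hC g fun v hv => by
    rw [← hVgen] at hv
    have hle : closure {z, b} ≤ centralizer ({g} : Set X) := (closure_le _).2 (by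
      rintro w (rfl | rfl)
      · exact mem_centralizer_singleton_iff.2 (mem_center_iff.1 hzZ g).symm
      · exact mem_centralizer_singleton_iff.2 hg.symm)
    exact (mem_centralizer_singleton_iff.1 (hle hv)).symm
  -- the conjugates of `b`
  haveI := Fintype.ofFinite X
  have hcl : 16 ≤ (MulAction.orbit (ConjAct X) b).ncard := by
    have h := MulAction.index_stabilizer (ConjAct X) b
    have hs : Nat.card (MulAction.stabilizer (ConjAct X) b) ≤ 4 := by
      rw [← hV]
      refine Nat.card_le_card_of_injective (fun g => (⟨ConjAct.ofConjAct g.1, hCb _ ?_⟩ : V)) ?_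
      · have := g.2
        rw [MulAction.mem_stabilizer_iff, ConjAct.smul_def] at this
        exact mul_inv_eq_iff_eq_mul.1 this
      · intro g g' e
        have h' := congrArg Subtype.val e
        exact Subtype.ext (ConjAct.ofConjAct.injective h')
    have h2 := card_mul_index (MulAction.stabilizer (ConjAct X) b)
    rw [show Nat.card (ConjAct X) = 64 from hX, h] at h2
    nlinarith
  have hsub : MulAction.orbit (ConjAct X) b ⊆ (fun k => k * b) '' (K : Set X) := by
    rintro _ ⟨g, rfl⟩
    refine ⟨⁅ConjAct.ofConjAct g, b⁆, commutator_mem_commutator (mem_top _) (mem_top _), ?_⟩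
    show _ * b = g • b
    rw [ConjAct.smul_def, commutatorElement_def, inv_mul_cancel_right]
  have himg : ((fun k => k * b) '' (K : Set X)).ncard = Nat.card K := by
    rw [Set.ncard_image_of_injective _ (mul_left_injective b), ← Nat.card_coe_set_eq]
    rfl
  have heq : MulAction.orbit (ConjAct X) b = (fun k => k * b) '' (K : Set X) :=
    Set.eq_of_subset_of_ncard_le hsub (by omega)
  have hbK : b ∉ K := fun hb => by
    have : (1 : X) ∈ MulAction.orbit (ConjAct X) b := heq ▸ ⟨b⁻¹, inv_mem hb, inv_mul_cancel b⟩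
    obtain ⟨g, hg⟩ := this
    have hg' : g • b = 1 := hg
    rw [ConjAct.smul_def, conj_eq_one_iff] at hg'
    exact hb1 hg'
  have hb2 : b * b = 1 := hVsq b hbV
  have hKA : ∀ w ∈ A, w ∈ K → w ∈ V := fun w hwA hwK => by
    obtain ⟨g, hg⟩ : w * b ∈ MulAction.orbit (ConjAct X) b := heq ▸ ⟨w, hwK, rfl⟩
    have hg' : g • b = w * b := hg
    have h1 : (w * b) * (w * b) = 1 := by
      rw [← hg', ← smul_mul', hb2, smul_one]
    refine hCb w ?_
    have h2 : b * w = w⁻¹ * b⁻¹ := eq_mul_inv_iff_mul_eq.2 (eq_inv_of_mul_eq_one_right (by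
      simpa [mul_assoc] using h1))
    have hwi : w⁻¹ = w := inv_eq_of_mul_eq_one_left (hAsq w hwA)
    have hbi : b⁻¹ = b := inv_eq_of_mul_eq_one_left hb2
    rw [hwi, hbi] at h2
    exact h2.symm
  have hAK : Nat.card (K ⊓ A : Subgroup X) ≤ 2 := by
    have hle : K ⊓ A ≤ V := fun w hw => hKA w hw.2 hw.1
    have hlt : K ⊓ A ≠ V := fun e => hbK ((e.symm ▸ hbV : b ∈ K ⊓ A).1)
    have hd := card_dvd_of_le hle
    have hlt' := (card_le_of_le hle).lt_of_ne fun e => hlt (eq_of_le_of_card_ge hle e.ge)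
    rw [hV] at hd hlt'
    interval_cases Nat.card (K ⊓ A : Subgroup X) <;> omega
  have h1 : K.relIndex A ≤ K.index :=
    Nat.le_of_dvd (Nat.pos_of_ne_zero index_ne_zero_of_finite) (relIndex_dvd_index_of_normal K A)
  have h2 : Nat.card (K ⊓ A : Subgroup X) * K.relIndex A = 16 := by
    have h := relIndex_mul_relIndex (⊥ : Subgroup X) (K ⊓ A) A bot_le inf_le_right
    rw [Subgroup.relIndex_bot_left, Subgroup.relIndex_bot_left, inf_relIndex_right, hA] at h
    exact h
  have h3 := card_mul_index K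
  have h4 : 16 ≤ Nat.card K := by rw [← himg, ← heq]; exact hcl
  rw [hX] at h3
  nlinarith

end Small

/-- The identification of a simple CIT group by its Sylow 2-subgroup. -/
theorem psl_of_cit {M : Type u} [Group M] [Finite M] [IsSimpleGroup M]
    (hCIT : ∀ t : M, orderOf t = 2 → IsPGroup 2 (Subgroup.centralizer ({t} : Set M)))
    (U : Subgroup M) (hU : Nat.card U = 64) (hS : ¬ 128 ∣ Nat.card M)
    (hnab : ∃ a ∈ U, ∃ b ∈ U, a * b ≠ b * a)
    (A : Subgroup M) (hAU : A ≤ U) (hA : Nat.card A = 16) (hAsq : ∀ a ∈ A, a * a = 1) :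
    ∃ (F : Type) (_ : Field F) (_ : Fintype F), Fintype.card F = 4 ∧
      Nonempty (M ≃* Matrix.ProjectiveSpecialLinearGroup (Fin 3) F) := by
  classical
  haveI : Fact (Nat.Prime 2) := ⟨Nat.prime_two⟩
  obtain ⟨p, hp, q, hq, hpq⟩ := hnab
  have hna : ∃ a b : M, a * b ≠ b * a := ⟨p, q, hpq⟩
  have hnaU : ∃ a b : U, a * b ≠ b * a := ⟨⟨p, hp⟩, ⟨q, hq⟩, fun h => hpq (congrArg Subtype.val h)⟩
  have hA' : Nat.card (A.subgroupOf U) = 16 :=
    (Nat.card_congr (subgroupOfEquivOfLe hAU).toEquiv).trans hA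
  have hAsq' : ∀ a ∈ A.subgroupOf U, a * a = 1 := fun a ha => Subtype.ext (hAsq a ha)
  obtain ⟨S, hUS⟩ := (IsPGroup.of_card (p := 2) (n := 6) (by rw [hU]; norm_num) : IsPGroup 2 U).exists_le_sylow
  have hSU : (S : Subgroup M) = U := by
    refine (eq_of_le_of_card_ge hUS ?_).symm
    obtain ⟨n, hn⟩ := S.2.exists_card_eq
    rw [hn, hU]
    by_contra hlt
    refine hS ((pow_dvd_pow 2 ?_ : 2 ^ 7 ∣ 2 ^ n).trans (hn ▸ card_subgroup_dvd_card _))
    exact (Nat.pow_lt_pow_iff_right (by norm_num : 1 < 2)).1 (not_le.1 hlt : 2 ^ 6 < 2 ^ n)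
  by_cases hTI : ∀ g : M, g ∉ normalizer ((S : Subgroup M) : Set M) →
      (S : Subgroup M) ⊓ CITPair.cj g (S : Subgroup M) = ⊥
  · exfalso
    have H : SuzukiTI.Hyp U := hSU ▸ CITPair.hyp_of_ti hCIT hna S hTI
    have hinv : ∀ a ∈ A, a ≠ 1 → Fg24.CT.Inv2 a := fun a ha h1 => ⟨h1, hAsq a ha⟩
    have hAZ : A.subgroupOf U ≤ center U := fun a ha => mem_center_iff.2 fun b => by
      rcases eq_or_ne (a : M) 1 with h1 | h1
      · rw [show a = 1 from Subtype.ext h1, mul_one, one_mul]
      · exact Subtype.ext (H.commute a.2 (hinv _ ha h1) b.2).eq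
    obtain ⟨z, hz1, hz2, hz⟩ := commutator_unique_64 hU hnaU hA' hAZ
    obtain ⟨x, y, hxy⟩ := hnaU
    have hzxy : x * y * x⁻¹ * y⁻¹ = z := (hz x y).resolve_left fun h =>
      hxy (by rwa [mul_inv_eq_one, mul_inv_eq_iff_eq_mul] at h)
    obtain ⟨a, haA, ha1, haz⟩ : ∃ a ∈ A, a ≠ 1 ∧ a ≠ (z : M) := by
      by_contra! hall
      have hsub : (A : Set M) ⊆ {1, (z : M)} := fun a ha => by
        rcases eq_or_ne a 1 with h | h
        · exact Or.inl h
        · exact Or.inr (hall a ha h)
      have h16 : (A : Set M).ncard = 16 := (Nat.card_coe_set_eq _).symm.trans hA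
      have := (Set.ncard_le_ncard hsub).trans (Set.ncard_insert_le _ _)
      rw [h16, Set.ncard_singleton] at this
      omega
    obtain ⟨m, hm, hma⟩ := H.trans_invol z.2 ⟨fun h => hz1 (Subtype.ext h), congrArg Subtype.val hz2⟩
      (hAU haA) (hinv a haA ha1)
    have hmem : ∀ u : U, m * u * m⁻¹ ∈ U := fun u => (mem_normalizer_iff.1 hm u).1 u.2
    have e : ((⟨_, hmem x⟩ * ⟨_, hmem y⟩ * (⟨_, hmem x⟩ : U)⁻¹ * (⟨_, hmem y⟩ : U)⁻¹ : U) : M) = a := by
      rw [← hma, ← hzxy]
      simp only [Subgroup.coe_mul, Subgroup.coe_inv]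
      group
    rcases hz ⟨_, hmem x⟩ ⟨_, hmem y⟩ with h | h
    · rw [h] at e; exact ha1 e.symm
    · rw [h] at e; exact haz e.symm
  · push Not at hTI
    obtain ⟨T, V, V', q', C⟩ := CITPair.exists_config hCIT hna S hTI
    rcases Nat.lt_or_ge q' 3 with h | h
    · exfalso
      obtain rfl : q' = 2 := by have := C.par.two_le; omega
      have h4 : Nat.card V = 4 := by rw [C.eqV, C.par.cardV]
      obtain ⟨P, hP⟩ := (C.par.two.to_le C.par.Qle).exists_le_sylow
      obtain ⟨g, hg⟩ := MulAction.exists_smul_eq M P S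
      have hgV : ∀ v ∈ V, g * v * g⁻¹ ∈ U := fun v hv => by
        rw [← hSU, ← hg, Sylow.coe_subgroup_smul]
        exact ⟨v, hP hv, rfl⟩
      let W : Subgroup U := (V.map (MulAut.conj g).toMonoidHom).subgroupOf U
      have hW : Nat.card W = 4 := by
        rw [Nat.card_congr (subgroupOfEquivOfLe ?_).toEquiv, card_map_of_injective (MulAut.conj g).injective, h4]
        rintro _ ⟨v, hv, rfl⟩
        exact hgV v hv
      refine no_four_64 hU hnaU hA' hAsq' hW ?_ fun x hx => ?_
      · rintro a ⟨v, hv, hva⟩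
        apply Subtype.ext
        show (a : M) * a = 1
        have hva' : g * v * g⁻¹ = (a : M) := hva
        rw [← hva', conj_mul, C.exp hv, mul_one, mul_inv_cancel]
      · refine ⟨g⁻¹ * (x : M) * g, ?_, by simp [mul_assoc]⟩
        have hcv : ∀ v ∈ V, Commute (g⁻¹ * (x : M) * g) v := fun v hv => by
          have h1 : Commute (x : M) (g * v * g⁻¹) :=
            congrArg Subtype.val (hx ⟨_, hgV v hv⟩ ⟨v, hv, rfl⟩).eq
          have := (Commute.conj_iff g⁻¹).2 h1
          simpa [mul_assoc] using this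
        refine C.par.loc.mem_of_centralizes hCIT (mem_normalizer_iff.2 fun w => ⟨fun hw => ?_, fun hw => ?_⟩)
          fun v hv => hcv v (CITPair.VV_le V hv)
        · rw [(hcv w hw).eq, mul_inv_cancel_right]; exact hw
        · have h1 := (hcv _ hw).eq
          have h2 : w = g⁻¹ * (x : M) * g * w * (g⁻¹ * (x : M) * g)⁻¹ :=
            mul_left_cancel (a := g⁻¹ * (x : M) * g) (by
              rw [h1, inv_mul_cancel_right])
          exact h2 ▸ hw
    · obtain rfl : q' = 4 := C.q_eq_four hCIT h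
      exact CITPairFour.psl34 hCIT C

end Cfsg.Agent.PGammaThreeFour
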