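import Cfsg.Agent.PGammaThreeFour.Rho
import Cfsg.Agent.PGammaThreeFour.Identify
import Cfsg.Agent.PGammaThreeFour.IdentifyAut
import Cfsg.Agent.S0820

/-!
# A group with the involution centraliser of `Aut(PGL₃(4))`: assembly
-/

set_option autoImplicit false

namespace Cfsg.Agent.PGammaThreeFour

open Subgroup

universe u

namespace HData

variable {G : Type u} [Group G] [Finite G] {z : G} (D : HData z)
include D

theorem oddCore_eq_bot (hns : ¬ Group.IsSolvable G) : Cfsg.oddCore G = ⊥ := by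
  obtain ⟨N, hN, hNK, -, hsol⟩ := D.exists_peel
  haveI := hN
  obtain ⟨A₁, A₂, -, h, -, -, -, -, -, -, -, hhz, hhu⟩ :=
    D.exists_h hNK (fun e => hns (hsol e))
  haveI : (Cfsg.oddCore G).Normal := Core.pPrimeCore_normal
  have hinv := D.inverts_odd (O := Cfsg.oddCore G) D.odd_oddCore
  have hconj : ∀ g : G, ∀ x ∈ Cfsg.oddCore G,
      (g * z * g⁻¹) * x * (g * z * g⁻¹)⁻¹ = x⁻¹ := by
    intro g x hx
    have hy := hinv (g⁻¹ * x * g) (by
      simpa using Subgroup.Normal.conj_mem inferInstance x hx g⁻¹)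
    calc g * z * g⁻¹ * x * (g * z * g⁻¹)⁻¹ = g * (z * (g⁻¹ * x * g) * z⁻¹) * g⁻¹ := by group
      _ = x⁻¹ := by rw [hy]; group
  rw [eq_bot_iff]
  intro x hx
  have hu := hconj h x hx
  rw [hhz] at hu
  have hv := hconj (h * h) x hx
  rw [show h * h * z * (h * h)⁻¹ = h * (h * z * h⁻¹) * h⁻¹ by group, hhz, hhu] at hv
  have hfix : z * D.u * x * (z * D.u)⁻¹ = x := by
    rw [show z * D.u * x * (z * D.u)⁻¹ = z * (D.u * x * D.u⁻¹) * z⁻¹ by group, hu]
    rw [hinv _ (inv_mem hx), inv_inv]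
  have hxx : x ^ 2 = 1 := by
    rw [pow_two]
    have := hfix.symm.trans hv
    rw [eq_inv_iff_mul_eq_one] at this
    exact this
  have h2 : orderOf x ∣ 2 := orderOf_dvd_of_pow_eq_one hxx
  have hodd : Odd (orderOf x) := Odd.of_dvd_nat D.odd_oddCore (Subgroup.orderOf_dvd_natCard _ hx)
  rw [mem_bot, ← orderOf_eq_one_iff]
  rcases (Nat.dvd_prime Nat.prime_two).1 h2 with e | e
  · exact e
  · rw [e] at hodd; exact absurd hodd (by decide)

theorem z_mem_of_normal (hO : Cfsg.oddCore G = ⊥) {M : Subgroup G} [M.Normal] (hM : M ≠ ⊥) :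
    z ∈ M := by
  have h2 : 2 ∣ Nat.card M := by
    by_contra h
    exact hM (Invol.eq_bot_of_odd hO M h)
  by_contra hzM
  have hbot : M ⊓ centralizer ({z} : Set G) = ⊥ := by
    by_contra hne
    refine hzM (D.odd_normal _ inf_le_right (fun g hg => ?_) hne).1
    exact Subgroup.inf_normalizer_le_normalizer_inf
      ⟨by rw [Subgroup.normalizer_eq_top]; trivial, Subgroup.le_normalizer hg⟩
  -- `z` has no fixed point on `M ∖ 1`, so `|M|` is odd
  let σ : M → M := fun m => ⟨z * m * z⁻¹, Subgroup.Normal.conj_mem ‹_› _ m.2 z⟩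
  have hinv : Function.Involutive σ := fun m => Subtype.ext (by
    show z * (z * m * z⁻¹) * z⁻¹ = m
    rw [show z * (z * m * z⁻¹) * z⁻¹ = (z * z) * m * (z * z)⁻¹ by group, D.z_sq']
    group)
  have hfix : ∀ m : M, σ m = m → m = 1 := by
    intro m hm
    have : (m : G) ∈ M ⊓ centralizer ({z} : Set G) :=
      ⟨m.2, mem_cent.2 (commute_of_conj_eq (congrArg Subtype.val hm)).symm⟩
    rw [hbot, mem_bot] at this
    exact Subtype.ext this
  have hpar := tt_invol_parity σ hinv
  have hone : Nat.card {m // σ m = m} = 1 :=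
    Nat.card_eq_one_iff_unique.2 ⟨⟨fun a b => Subtype.ext ((hfix _ a.2).trans (hfix _ b.2).symm)⟩,
      ⟨⟨1, Subtype.ext (by simp [σ])⟩⟩⟩
  rw [hone] at hpar
  omega

theorem main (hns : ¬ Group.IsSolvable G) {F : Type*} [Field F] [Fintype F]
    (hF : Fintype.card F = 4) :
    Nonempty (G ≃* MulAut (GL (Fin 3) F ⧸ Subgroup.center (GL (Fin 3) F))) := by
  classical
  haveI : Fact (Nat.Prime 2) := ⟨Nat.prime_two⟩
  have hO := D.oddCore_eq_bot hns
  obtain ⟨N, hN, hNK, -, hsol⟩ := D.exists_peel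
  haveI := hN
  have hnsN : ¬ Group.IsSolvable N := fun e => hns (hsol e)
  obtain ⟨A₁, A₂, P⟩ := D.pair_of_nonsolvable hNK hnsN
  obtain ⟨M₃, hM₃, hM₃i, hρ₃⟩ := D.exists_index_three_sub hNK hnsN
  -- a minimal normal subgroup
  have hntriv : Nontrivial G := ⟨⟨z, 1, D.z_ne_one⟩⟩
  obtain ⟨M, ⟨hMn, hMne⟩, hMmin⟩ := (Set.toFinite {M : Subgroup G | M.Normal ∧ M ≠ ⊥}).exists_minimal
    ⟨⊤, inferInstance, top_ne_bot⟩
  haveI := hMn
  have hmin : ∀ L : Subgroup G, L.Normal → L ≤ M → L = ⊥ ∨ L = M := fun L hL hLM => by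
    by_cases h : L = ⊥
    · exact Or.inl h
    · exact Or.inr (le_antisymm hLM (hMmin ⟨hL, h⟩ hLM))
  have hzM := D.z_mem_of_normal hO hMne
  have hzN : z ∈ N := D.K_le_N hNK (D.U_le D.z_mem)
  have hMN : M ≤ N := by
    rcases hmin (M ⊓ N) inferInstance inf_le_left with h | h
    · exact absurd ((h ▸ (⟨hzM, hzN⟩ : z ∈ M ⊓ N) : z ∈ (⊥ : Subgroup G))) (by simpa using D.z_ne_one)
    · exact h ▸ inf_le_right
  have hinvM : ∀ t ∈ N, orderOf t = 2 → t ∈ M := fun t ht ht2 => by
    obtain ⟨g, -, rfl⟩ := D.isConj_invol hNK hnsN ht ht2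
    exact Subgroup.Normal.conj_mem ‹_› z hzM g
  have hAM : ∀ A : Subgroup G, Piece z D.u D.U D.K A → A ≤ M := fun A pA a ha => by
    rcases eq_or_ne a 1 with rfl | h1
    · exact one_mem _
    · exact hinvM a (D.K_le_N hNK (D.U_le (pA.le ha))) (orderOf_two_of_sq (pA.sq a ha) h1)
  have hUM : D.U ≤ M := P.join ▸ sup_le (hAM _ P.p₁) (hAM _ P.p₂)
  obtain ⟨a, b, ha, hb, hab⟩ : ∃ a b, a ∈ D.U ∧ b ∈ D.U ∧ a * b ≠ b * a := by
    by_contra hc
    push Not at hc
    have : Nat.card D.U ≤ Nat.card ((wSet z D.u : Set G) : Type _) :=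
      Nat.card_le_card_of_injective
        (fun x => ⟨x.1, (D.center x.1 x.2).1 fun y hy => hc x.1 y x.2 hy⟩)
        fun p q e => Subtype.ext (congrArg Subtype.val e :)
    rw [D.card_U, Nat.card_coe_set_eq] at this
    have := ncard_wSet_le z D.u
    omega
  have hperf : ⁅M, M⁆ = M := by
    rcases hmin ⁅M, M⁆ inferInstance (commutator_le_self M) with h | h
    · exfalso
      apply hab
      rw [eq_bot_iff, commutator_le] at h
      have := h a (hUM ha) b (hUM hb)
      rw [mem_bot, commutatorElement_eq_one_iff_mul_comm] at this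
      exact this
    · exact h
  have hMK : ∀ x ∈ M, x ∈ centralizer ({z} : Set G) → x ∈ D.U := by
    intro x hx hxH
    have hxK : x ∈ D.K := hNK ▸ (⟨hMN hx, hxH⟩ : x ∈ N ⊓ centralizer ({z} : Set G))
    by_contra hxU
    -- then `ρ ∈ M ≤ M₃`
    have hρM : D.ρ ∈ M := by
      haveI := normal_subgroupOf_of_le_normalizer D.U_le_normalizer
      haveI : Fact (Nat.Prime 3) := ⟨Nat.prime_three⟩
      have hne : (QuotientGroup.mk ⟨x, hxK⟩ : D.K ⧸ D.U.subgroupOf D.K) ≠ 1 := fun e =>
        hxU ((QuotientGroup.eq_one_iff (N := D.U.subgroupOf D.K) _).1 e)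
      have htop := zpowers_eq_top_of_prime_card
        (show Nat.card (D.K ⧸ D.U.subgroupOf D.K) = 3 from D.index_U) hne
      obtain ⟨n, hn⟩ : QuotientGroup.mk ⟨D.ρ, D.ρ_mem⟩ ∈
          zpowers (QuotientGroup.mk ⟨x, hxK⟩ : D.K ⧸ D.U.subgroupOf D.K) := htop ▸ mem_top _
      have hm := QuotientGroup.eq.1 ((QuotientGroup.mk_zpow _ _ n).trans hn)
      rw [mem_subgroupOf] at hm
      simp only [Subgroup.coe_mul, Subgroup.coe_inv, SubgroupClass.coe_zpow] at hm
      have := mul_mem (zpow_mem hx n) (hUM hm)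
      rwa [mul_inv_cancel_left] at this
    apply hρ₃
    haveI := hM₃
    haveI : Fact (Nat.Prime 3) := ⟨Nat.prime_three⟩
    have hcomm : ∀ p q : N ⧸ M₃, p * q = q * p := by
      haveI : IsCyclic (N ⧸ M₃) := isCyclic_of_prime_card (p := 3) (by rw [← hM₃i]; rfl)
      exact fun p q => (IsCyclic.isMulCommutative.is_comm).comm p q
    have hle : M ≤ M₃.map N.subtype := by
      rw [← hperf, commutator_le]
      intro p hp q hq
      refine ⟨⟨_, mul_mem (mul_mem (mul_mem (hMN hp) (hMN hq)) (inv_mem (hMN hp)))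
        (inv_mem (hMN hq))⟩, ?_, rfl⟩
      refine (QuotientGroup.eq_one_iff _).1 ?_
      show QuotientGroup.mk ((⟨p, hMN hp⟩ : N) * ⟨q, hMN hq⟩ * (⟨p, hMN hp⟩)⁻¹ * (⟨q, hMN hq⟩)⁻¹) = 1
      rw [QuotientGroup.mk_mul, QuotientGroup.mk_mul, QuotientGroup.mk_mul, hcomm _ (QuotientGroup.mk
        (⟨q, hMN hq⟩ : N)), QuotientGroup.mk_inv, QuotientGroup.mk_inv, mul_inv_cancel_right,
        mul_inv_cancel]
    obtain ⟨w, hw, he⟩ := hle hρM
    have : w = ⟨D.ρ, D.K_le_N hNK D.ρ_mem⟩ := Subtype.ext he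
    exact this ▸ hw
  -- all centralisers of involutions of `M` are 2-groups
  have hCIT : ∀ t : M, orderOf t = 2 → IsPGroup 2 (centralizer ({t} : Set M)) := by
    intro t ht
    have ht' : orderOf (t : G) = 2 := by
      rw [← ht]; exact orderOf_injective M.subtype M.subtype_injective t
    obtain ⟨g, -, hg⟩ := D.isConj_invol hNK hnsN (hMN t.2) ht'
    intro x
    have hxU : g⁻¹ * ((x : M) : G) * g ∈ D.U := by
      refine hMK _ (by simpa using Subgroup.Normal.conj_mem ‹M.Normal› _ (x : M).2 g⁻¹)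
        (mem_cent.2 ?_)
      have hc : ((x : M) : G) * t = t * ((x : M) : G) := congrArg Subtype.val (mem_cent.1 x.2)
      calc g⁻¹ * ((x : M) : G) * g * z = g⁻¹ * (((x : M) : G) * (g * z * g⁻¹)) * g := by group
        _ = g⁻¹ * ((g * z * g⁻¹) * ((x : M) : G)) * g := by rw [hg, hc]
        _ = z * (g⁻¹ * ((x : M) : G) * g) := by group
    have hU2 : IsPGroup 2 D.U := IsPGroup.of_card (n := 6) (by rw [D.card_U]; norm_num)
    obtain ⟨n, hn⟩ := hU2 ⟨_, hxU⟩
    refine ⟨n, Subtype.ext (Subtype.ext ?_)⟩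
    have hn' : (g⁻¹ * ((x : M) : G) * g) ^ 2 ^ n = 1 := congrArg Subtype.val hn
    simp only [SubmonoidClass.coe_pow]
    have : ((x : M) : G) = g * (g⁻¹ * ((x : M) : G) * g) * g⁻¹ := by group
    rw [this, conj_pow, hn']
    simp
  -- `M` is simple
  have hMnt : Nontrivial M := ⟨⟨⟨z, hzM⟩, 1, fun e => D.z_ne_one (congrArg Subtype.val e)⟩⟩
  have hno2 : ∀ L : Subgroup M, L.Normal → IsPGroup 2 L → L = ⊥ := by
    intro L hL hL2
    set R := (Cfsg.pCore 2 M).map M.subtype
    haveI : R.Normal := ConjAct.normal_of_characteristic_of_normal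
    rcases hmin R inferInstance (map_subtype_le _) with h | h
    · have hle : L ≤ Cfsg.pCore 2 M := Core.le_pCore hL2
      rw [eq_bot_iff]
      intro x hx
      have : (x : G) ∈ R := ⟨x, hle hx, rfl⟩
      rw [h, mem_bot] at this
      exact mem_bot.2 (Subtype.ext this)
    · exfalso
      have hp : IsPGroup 2 M := h ▸ (Core.pCore_isPGroup.map _)
      haveI : Group.IsNilpotent M := hp.isNilpotent
      haveI : Group.IsSolvable M := inferInstance
      have hd := Group.IsSolvable.commutator_lt_top_of_nontrivial M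
      apply hd.ne
      apply Subgroup.map_injective M.subtype_injective
      rw [map_subtype_commutator, hperf, ← MonoidHom.range_eq_map, M.range_subtype]
  have hodd : ∀ L : Subgroup M, L.Normal → ¬ 2 ∣ Nat.card L → L = ⊥ := by
    intro L hL h2
    set R := (Cfsg.oddCore M).map M.subtype
    haveI : R.Normal := ConjAct.normal_of_characteristic_of_normal
    have hR : R = ⊥ := Invol.eq_bot_of_odd hO R (by
      rw [← Nat.card_congr (equivMapOfInjective _ _ M.subtype_injective).toEquiv]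
      exact (Nat.prime_two.coprime_iff_not_dvd).1
        (Core.coprime_card_pPrimeCore (p := 2) (G := M)).symm)
    have hle : L ≤ Cfsg.oddCore M :=
      Core.le_pPrimeCore (p := 2) (Nat.prime_two.coprime_iff_not_dvd.2 h2).symm
    rw [eq_bot_iff]
    intro x hx
    have : (x : G) ∈ R := ⟨x, hle hx, rfl⟩
    rw [hR, mem_bot] at this
    exact mem_bot.2 (Subtype.ext this)
  haveI hsimp : IsSimpleGroup M := by
    refine ⟨fun L hL => ?_⟩
    by_contra hc
    push Not at hc
    obtain ⟨hL1, hL2⟩ := hc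
    -- a minimal normal subgroup of `M`
    obtain ⟨K₁, ⟨hK₁n, hK₁ne, hK₁L⟩, hK₁min⟩ :=
      (Set.toFinite {K : Subgroup M | K.Normal ∧ K ≠ ⊥ ∧ K ≤ L}).exists_minimal ⟨L, hL, hL1, le_rfl⟩
    haveI := hK₁n
    obtain ⟨⟨t, htK⟩, ht'⟩ := exists_prime_orderOf_dvd_card' (G := K₁) 2 (by
      by_contra h; exact hK₁ne (hodd K₁ hK₁n h))
    have ht : orderOf t = 2 := by
      rw [← ht']; exact orderOf_injective K₁.subtype K₁.subtype_injective ⟨t, htK⟩
    -- some conjugate of `K₁` meets it trivially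
    obtain ⟨g, hg⟩ : ∃ g : G, (K₁.map (MulAut.conjNormal g : MulAut M).toMonoidHom) ≠ K₁ := by
      by_contra hall
      push Not at hall
      haveI : (K₁.map M.subtype).Normal := ⟨by
        rintro _ ⟨k, hk, rfl⟩ g
        have hm : (MulAut.conjNormal g : MulAut M) k ∈ K₁ := by
          have h0 : (MulAut.conjNormal g : MulAut M) k ∈
              K₁.map (MulAut.conjNormal g : MulAut M).toMonoidHom := ⟨k, hk, rfl⟩
          rwa [hall g] at h0
        exact ⟨_, hm, by simp [MulAut.conjNormal_apply]⟩⟩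
      rcases hmin (K₁.map M.subtype) inferInstance (map_subtype_le _) with h | h
      · rw [Subgroup.map_eq_bot_iff_of_injective _ M.subtype_injective] at h
        exact hK₁ne h
      · apply hL2
        rw [eq_top_iff]
        intro x _
        have : (x : G) ∈ K₁.map M.subtype := h.symm ▸ x.2
        obtain ⟨k, hk, hkx⟩ := this
        exact hK₁L (Subtype.ext hkx ▸ hk)
    set φ := (MulAut.conjNormal g : MulAut M)
    set K₂ := K₁.map φ.toMonoidHom
    haveI : K₂.Normal := hK₁n.map _ φ.surjective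
    have hcap : K₁ ⊓ K₂ = ⊥ := by
      by_contra hne
      have h12 : K₁ ≤ K₁ ⊓ K₂ := hK₁min ⟨inferInstance, hne, inf_le_left.trans hK₁L⟩ inf_le_left
      apply hg
      refine (Subgroup.eq_of_le_of_card_ge (h12.trans inf_le_right) ?_).symm
      exact (Nat.card_congr (equivMapOfInjective K₁ φ.toMonoidHom φ.injective).toEquiv).ge
    have hK₂c : K₂ ≤ centralizer ({t} : Set M) := fun y hy => mem_cent.2
      (Subgroup.commute_of_normal_of_disjoint K₁ K₂ hK₁n inferInstance (disjoint_iff.2 hcap) t y htK hy).symm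
    have hK₂2 : IsPGroup 2 K₂ := (hCIT t ht).to_le hK₂c
    have h2bot := hno2 K₂ inferInstance hK₂2
    exact hK₁ne ((Subgroup.map_eq_bot_iff_of_injective (f := φ.toMonoidHom) K₁ φ.injective).1 h2bot)
  -- `M ≅ PSL₃(4)`
  have hMU : Nat.card (M ⊓ centralizer ({z} : Set G) : Subgroup G) = 64 := by
    rw [← D.card_U]
    congr 2
    exact le_antisymm (fun x hx => hMK x hx.1 hx.2) (le_inf hUM D.U_le_H)
  have hS : ¬ 128 ∣ Nat.card M := by
    intro h
    obtain ⟨R⟩ : Nonempty (Sylow 2 M) := inferInstance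
    have h7 : 2 ^ 7 ∣ Nat.card R := R.pow_dvd_card_of_pow_dvd_card (by simpa using h)
    have := D.card_two_subgroup hNK (R.2.map M.subtype) ((map_subtype_le _).trans hMN)
    rw [← Nat.card_congr (equivMapOfInjective _ _ M.subtype_injective).toEquiv] at this
    have := Nat.le_of_dvd Nat.card_pos h7
    omega
  obtain ⟨F₀, iF, iFF, hF₀, ⟨e⟩⟩ := psl_of_cit hCIT (D.U.subgroupOf M)
    (by rw [Nat.card_congr (subgroupOfEquivOfLe hUM).toEquiv, D.card_U]) hS
    ⟨⟨a, hUM ha⟩, ha, ⟨b, hUM hb⟩, hb, fun e => hab (congrArg Subtype.val e)⟩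
    (A₁.subgroupOf M) (fun x hx => P.p₁.le hx)
    (by rw [Nat.card_congr (subgroupOfEquivOfLe (hAM _ P.p₁)).toEquiv, P.p₁.card])
    (fun x hx => Subtype.ext (P.p₁.sq _ hx))
  have hC : centralizer (M : Set G) = ⊥ := by
    haveI : (centralizer (M : Set G)).Normal := Subgroup.normal_centralizer
    by_contra hne
    have hz := mem_centralizer_iff.1 (D.z_mem_of_normal hO hne)
    have hMU' : M ≤ D.U := fun x hx => hMK x hx (mem_cent.2 (hz x hx))
    haveI := D.finite_U
    have hp : IsPGroup 2 M := (IsPGroup.of_card (n := 6) (p := 2) (G := D.U)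
      (by rw [D.card_U]; norm_num)).to_le hMU'
    obtain h := hno2 ⊤ inferInstance (hp.to_subgroup ⊤)
    exact absurd h top_ne_bot
  -- `G = M C(z)`
  have hcard : 12 * Nat.card M ≤ Nat.card G := by
    set H := centralizer ({z} : Set G) with hH
    have hsup : M ⊔ H = ⊤ := by
      rw [eq_top_iff]
      intro g _
      have ht : orderOf (⟨g * z * g⁻¹, Subgroup.Normal.conj_mem ‹_› z hzM g⟩ : M) = 2 := by
        rw [← orderOf_injective M.subtype M.subtype_injective]
        exact orderOf_conj.trans D.hz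
      have hzo : orderOf (⟨z, hzM⟩ : M) = 2 := by
        rw [← orderOf_injective M.subtype M.subtype_injective]; exact D.hz
      have hc := S0820.result hF₀ (e ⟨z, hzM⟩) (e ⟨_, Subgroup.Normal.conj_mem ‹_› z hzM g⟩)
        (by rw [e.orderOf_eq]; exact hzo) (by rw [e.orderOf_eq]; exact ht)
      obtain ⟨m', hm'⟩ := isConj_iff.1 hc
      obtain ⟨m, rfl⟩ := e.surjective m'
      rw [← map_inv, ← map_mul, ← map_mul] at hm'
      have hmz : (m : G) * z * (m : G)⁻¹ = g * z * g⁻¹ := congrArg Subtype.val (e.injective hm')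
      have hmem : (m : G)⁻¹ * g ∈ H := mem_cent.2 (by
        calc (m : G)⁻¹ * g * z = (m : G)⁻¹ * (g * z * g⁻¹) * g := by group
          _ = z * ((m : G)⁻¹ * g) := by rw [← hmz]; group)
      rw [show g = (m : G) * ((m : G)⁻¹ * g) by group]
      exact mul_mem_sup m.2 hmem
    have h1 := Subgroup.card_mul_index (M.subgroupOf H)
    rw [← M.inf_subgroupOf_right, Nat.card_congr (subgroupOfEquivOfLe inf_le_right).toEquiv,
      hMU, D.card_H, inf_subgroupOf_right] at h1
    have h2 : (M.subgroupOf H).index = M.index := by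
      have h := Subgroup.relIndex_sup_right (K := M) (H := H)
      rw [sup_comm, hsup, Subgroup.relIndex_top_right] at h
      exact h.symm
    have h3 := Subgroup.card_mul_index M
    rw [← h3, ← h2]
    have : (M.subgroupOf H).index = 12 := by omega
    rw [this, mul_comm]
  exact mulEquiv_mulAut_pgl M hC hF₀ e hcard hF

end HData

end Cfsg.Agent.PGammaThreeFour
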