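import Cfsg.Agent.PGammaThreeFour.ModelData
import Mathlib.Algebra.Group.Basic
import Mathlib.Algebra.BigOperators.Group.List.Basic
import Mathlib.Data.Nat.Bitwise
import Mathlib.Data.Fintype.Card
import Mathlib.GroupTheory.Sylow

/-!
# The models of the involution centraliser

The generators: `0` is the central involution `z`, `1,…,4` the frame of the extraspecial group
(squares `z`, pairwise anticommuting), `5,6,7` the lifts of the transpositions.  A code `n < 768` stands for
the normal word `z ^ (n mod 2) · e ^ a · s`; the tables multiply codes on the right by generators, and are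
checked against a rewriting whose soundness is proved for every realisation of the relations.
-/

set_option autoImplicit false
set_option maxRecDepth 100000

namespace Cfsg.Agent.PGammaThreeFour.Model

/-- The transposition permuted by the lift `a`, on the frame. -/
def tau (a i : Nat) : Nat := if i = a - 4 then a - 3 else if i = a - 3 then a - 4 else i

/-- Normal words of the permutation part. -/
def sw (s : Nat) : List Nat :=
  (if s % 2 = 1 then [5] else []) ++
  (if s / 2 % 3 = 1 then [6] else if s / 2 % 3 = 2 then [6, 5] else []) ++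
  (if s / 6 = 1 then [7] else if s / 6 = 2 then [7, 6] else if s / 6 = 3 then [7, 6, 5] else [])

/-- The letters of a code. -/
def letters (n : Nat) : List Nat :=
  (if n / 2 % 2 = 1 then [1] else []) ++ (if n / 4 % 2 = 1 then [2] else []) ++
  (if n / 8 % 2 = 1 then [3] else []) ++ (if n / 16 % 2 = 1 then [4] else []) ++ sw (n / 32)

/-- The parity of a code. -/
def par (n : Nat) : Bool := n % 2 == 1

/-- Rewriting rules at the head of a word. -/
def rule (al be : Bool) : List Nat → Option (Bool × List Nat)
  | a :: b :: r =>
    if a = b ∧ 1 ≤ a ∧ a ≤ 7 then some (if a ≤ 4 then true else al, r)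
    else if 1 ≤ b ∧ b < a ∧ a ≤ 4 then some (true, b :: a :: r)
    else if 5 ≤ a ∧ a ≤ 7 ∧ 1 ≤ b ∧ b ≤ 4 then some (false, tau a b :: a :: r)
    else if a = 7 ∧ b = 5 then some (be, 5 :: 7 :: r)
    else match r with
      | c :: r' =>
        if a = 6 ∧ b = 5 ∧ c = 6 then some (al, 5 :: 6 :: 5 :: r')
        else if a = 7 ∧ b = 6 ∧ c = 7 then some (al, 6 :: 7 :: 6 :: r')
        else match r' with
          | d :: r'' =>
            if a = 7 ∧ b = 6 ∧ c = 5 ∧ d = 7 then some (xor be al, 6 :: 7 :: 6 :: 5 :: r'') else none
          | [] => none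
      | [] => none
  | _ => none

/-- One rewriting step. -/
def step (al be : Bool) : List Nat → Option (Bool × List Nat)
  | [] => none
  | a :: w =>
    match rule al be (a :: w) with
    | some p => some p
    | none =>
      match step al be w with
      | some p => some (p.1, a :: p.2)
      | none => none

/-- Rewriting with fuel. -/
def norm (al be : Bool) : Nat → Bool → List Nat → Bool × List Nat
  | 0, c, w => (c, w)
  | k + 1, c, w =>
    match step al be w with
    | none => (c, w)
    | some p => norm al be k (xor c p.1) p.2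

/-- Right multiplication by a generator. -/
def act (al be : Bool) (n g : Nat) : Nat := Nat.land (Nat.shiftRight (tab al be g) (10 * n)) 1023

/-- Multiplication by `z`. -/
def flip (n : Nat) : Nat := if n % 2 = 1 then n - 1 else n + 1

/-- Multiplication of codes. -/
def mul (al be : Bool) (n m : Nat) : Nat :=
  if m % 2 = 1 then flip ((letters m).foldl (act al be) n) else (letters m).foldl (act al be) n

/-- Membership in a bit set. -/
def mem (S n : Nat) : Bool := Nat.land (Nat.shiftRight S n) 1 == 1

/-- All statements of a list. -/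
def allB : List Nat → (Nat → Bool) → Bool
  | [], _ => true
  | a :: l, p => p a && allB l p

theorem allB_iff {l : List Nat} {p : Nat → Bool} : allB l p = true ↔ ∀ a ∈ l, p a = true := by
  induction l with
  | nil => simp [allB]
  | cons a l ih => simp [allB, ih]

/-- All codes below a bound. -/
def allLT : Nat → (Nat → Bool) → Bool
  | 0, _ => true
  | k + 1, p => p k && allLT k p

theorem allLT_iff {k : Nat} {p : Nat → Bool} : allLT k p = true ↔ ∀ n < k, p n = true := by
  induction k with
  | zero => simp [allLT]
  | succ k ih =>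
    simp only [allLT, Bool.and_eq_true, ih]
    exact ⟨fun h n hn => (Nat.lt_succ_iff_lt_or_eq.1 hn).elim (h.2 n) (fun e => e ▸ h.1),
      fun h => ⟨h k (Nat.lt_succ_self k), fun n hn => h n (Nat.lt_succ_of_lt hn)⟩⟩

/-- The tables agree with rewriting. -/
def okCode (al be : Bool) (n : Nat) : Bool :=
  (flip n < 768 : Bool) && (letters (flip n) == letters n) && (par (flip n) == !par n) &&
  allB (letters n) (fun g => decide (1 ≤ g ∧ g ≤ 7)) &&
  allB [1, 2, 3, 4, 5, 6, 7] (fun g =>
    (act al be n g < 768 : Bool) &&
      (norm al be 60 (par n) (letters n ++ [g]) == (par (act al be n g), letters (act al be n g))) &&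
      (act al be (act al be n g) g == if g ≤ 4 || al then flip n else n)) &&
  (flip (flip n) == n)

set_option maxHeartbeats 4000000 in
theorem okCodes (al be : Bool) : allLT 768 (okCode al be) = true := by
  cases al <;> cases be <;> decide +kernel

variable {H : Type*} [Group H]

/-- A realisation of the relations. -/
structure Rel (al be : Bool) (g : Nat → H) : Prop where
  zz : g 0 * g 0 = 1
  ne : g 0 ≠ 1
  zc : ∀ x, g 0 * x = x * g 0
  ee : ∀ i, 1 ≤ i → i ≤ 4 → g i * g i = g 0
  anti : ∀ i j, 1 ≤ i → i < j → j ≤ 4 → g j * g i = g 0 * (g i * g j)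
  te : ∀ a i, 5 ≤ a → a ≤ 7 → 1 ≤ i → i ≤ 4 → g a * g i = g (tau a i) * g a
  tt : ∀ a, 5 ≤ a → a ≤ 7 → g a * g a = if al then g 0 else 1
  b56 : g 6 * (g 5 * g 6) = (if al then g 0 else 1) * (g 5 * (g 6 * g 5))
  b67 : g 7 * (g 6 * g 7) = (if al then g 0 else 1) * (g 6 * (g 7 * g 6))
  far : g 7 * g 5 = (if be then g 0 else 1) * (g 5 * g 7)

variable {al be : Bool} {g : Nat → H}

/-- The element of a sign. -/
def zp (g : Nat → H) (c : Bool) : H := if c then g 0 else 1

/-- The value of a word. -/
def val (g : Nat → H) (w : List Nat) : H := (w.map g).prod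

/-- The value of a code. -/
def f (g : Nat → H) (n : Nat) : H := zp g (par n) * val g (letters n)

theorem val_cons (a : Nat) (w : List Nat) : val g (a :: w) = g a * val g w := by
  simp [val]

theorem val_nil : val g [] = 1 := rfl

theorem val_append (v w : List Nat) : val g (v ++ w) = val g v * val g w := by simp [val]

namespace Rel

variable (R : Rel al be g)
include R

theorem zp_xor (a b : Bool) : zp g (xor a b) = zp g a * zp g b := by
  cases a <;> cases b <;> simp [zp, R.zz]

theorem zp_comm (a : Bool) (x : H) : zp g a * x = x * zp g a := by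
  cases a
  · simp [zp]
  · exact R.zc x

theorem rule_sound {w w' : List Nat} {c : Bool} (h : rule al be w = some (c, w')) :
    val g w = zp g c * val g w' := by
  match w with
  | [] => simp [rule] at h
  | [_] => simp [rule] at h
  | a :: b :: r =>
    unfold rule at h
    dsimp only at h
    by_cases h1 : a = b ∧ 1 ≤ a ∧ a ≤ 7
    · rw [if_pos h1] at h
      simp only [Option.some.injEq, Prod.mk.injEq] at h
      obtain ⟨rfl, h1a, h1b⟩ := h1
      obtain ⟨rfl, rfl⟩ := h
      rw [val_cons, val_cons, ← mul_assoc]
      congr 1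
      by_cases ha : a ≤ 4
      · rw [R.ee a h1a ha, if_pos ha]; rfl
      · rw [R.tt a (by omega) h1b, if_neg ha]; rfl
    rw [if_neg h1] at h
    split_ifs at h with h2 h3 h4
    · simp only [Option.some.injEq, Prod.mk.injEq] at h
      obtain ⟨rfl, rfl⟩ := h
      obtain ⟨hb, hba, ha⟩ := h2
      rw [val_cons, val_cons, val_cons, val_cons, ← mul_assoc, R.anti b a hb hba ha]
      simp [zp, mul_assoc]
    · simp only [Option.some.injEq, Prod.mk.injEq] at h
      obtain ⟨rfl, rfl⟩ := h
      obtain ⟨ha, ha', hb, hb'⟩ := h3
      rw [val_cons, val_cons, val_cons, val_cons, ← mul_assoc, R.te a b ha ha' hb hb']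
      simp [zp, mul_assoc]
    · simp only [Option.some.injEq, Prod.mk.injEq] at h
      obtain ⟨rfl, rfl⟩ := h
      obtain ⟨rfl, rfl⟩ := h4
      rw [val_cons, val_cons, val_cons, val_cons, ← mul_assoc, R.far]
      simp [zp, mul_assoc]
    · match r with
      | [] => simp at h
      | c' :: r' =>
        dsimp only at h
        split_ifs at h with h5 h6
        · simp only [Option.some.injEq, Prod.mk.injEq] at h
          obtain ⟨rfl, rfl⟩ := h
          obtain ⟨rfl, rfl, rfl⟩ := h5
          simp only [val_cons, ← mul_assoc]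
          rw [mul_assoc (g 6), R.b56]
          simp [zp, mul_assoc]
        · simp only [Option.some.injEq, Prod.mk.injEq] at h
          obtain ⟨rfl, rfl⟩ := h
          obtain ⟨rfl, rfl, rfl⟩ := h6
          simp only [val_cons, ← mul_assoc]
          rw [mul_assoc (g 7), R.b67]
          simp [zp, mul_assoc]
        · match r' with
          | [] => simp at h
          | d :: r'' =>
            dsimp only at h
            split_ifs at h with h7
            · simp only [Option.some.injEq, Prod.mk.injEq] at h
              obtain ⟨rfl, rfl⟩ := h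
              obtain ⟨rfl, rfl, rfl, rfl⟩ := h7
              have e57 : g 5 * g 7 = zp g be * (g 7 * g 5) := by
                rw [R.far, ← mul_assoc]
                cases be <;> simp [zp, R.zz]
              have : g 7 * (g 6 * (g 5 * g 7)) =
                  zp g (xor be al) * (g 6 * (g 7 * (g 6 * g 5))) := by
                rw [e57, ← mul_assoc (g 6), ← R.zp_comm be (g 6), mul_assoc (zp g be), ← mul_assoc (g 7),
                  ← R.zp_comm be (g 7), mul_assoc (zp g be), show g 7 * (g 6 * (g 7 * g 5)) =
                    g 7 * (g 6 * g 7) * g 5 by simp [mul_assoc], R.b67, R.zp_xor]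
                simp [zp, mul_assoc]
              simp only [val_cons]
              calc g 7 * (g 6 * (g 5 * (g 7 * val g r''))) = g 7 * (g 6 * (g 5 * g 7)) * val g r'' := by
                    simp [mul_assoc]
                _ = _ := by rw [this]; simp [mul_assoc]

theorem step_sound : ∀ {w w' : List Nat} {c : Bool}, step al be w = some (c, w') →
    val g w = zp g c * val g w' := by
  intro w
  induction w with
  | nil => intro w' c h; simp [step] at h
  | cons a w ih =>
    intro w' c h
    rw [step] at h
    split at h
    · next p hp =>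
      simp only [Option.some.injEq] at h
      subst h
      exact R.rule_sound hp
    · split at h
      · next p hp =>
        simp only [Option.some.injEq, Prod.mk.injEq] at h
        obtain ⟨rfl, rfl⟩ := h
        rw [val_cons, ih (c := p.1) (w' := p.2) hp, ← mul_assoc, ← R.zp_comm p.1 (g a), mul_assoc, val_cons]
      · simp at h

theorem norm_sound (k : Nat) : ∀ (c : Bool) (w : List Nat),
    zp g (norm al be k c w).1 * val g (norm al be k c w).2 = zp g c * val g w := by
  induction k with
  | zero => intro c w; rfl
  | succ k ih =>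
    intro c w
    rw [norm]
    split
    · rfl
    · next p hp =>
      rw [ih, R.zp_xor, R.step_sound (c := p.1) (w' := p.2) hp, mul_assoc]

omit R in
theorem ok (al be : Bool) {n : Nat} (hn : n < 768) : okCode al be n = true :=
  allLT_iff.1 (okCodes al be) n hn

theorem f_flip {n : Nat} (hn : n < 768) : f g (flip n) = g 0 * f g n ∧ flip n < 768 := by
  have h := ok al be hn
  simp only [okCode, Bool.and_eq_true, decide_eq_true_eq, beq_iff_eq] at h
  replace h := h.1
  refine ⟨?_, h.1.1.1.1⟩
  rw [f, f, h.1.1.1.2, h.1.1.2, ← mul_assoc]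
  cases par n <;> simp [zp, R.zz]

theorem f_act {n a : Nat} (hn : n < 768) (h1 : 1 ≤ a) (h7 : a ≤ 7) :
    f g (act al be n a) = f g n * g a ∧ act al be n a < 768 := by
  have h := ok al be hn
  simp only [okCode, Bool.and_eq_true, decide_eq_true_eq, beq_iff_eq] at h
  have hm : a ∈ [1, 2, 3, 4, 5, 6, 7] := by
    simp only [List.mem_cons, List.not_mem_nil, or_false]
    omega
  have h' := allB_iff.1 h.1.2 a hm
  simp only [Bool.and_eq_true, decide_eq_true_eq, beq_iff_eq] at h'
  refine ⟨?_, h'.1.1⟩
  have e := R.norm_sound 60 (par n) (letters n ++ [a])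
  rw [h'.1.2] at e
  rw [f, e, f, val_append, mul_assoc]
  simp [val]

theorem f_foldl : ∀ (w : List Nat) {n : Nat}, (∀ a ∈ w, 1 ≤ a ∧ a ≤ 7) → n < 768 →
    f g (w.foldl (act al be) n) = f g n * val g w ∧ w.foldl (act al be) n < 768 := by
  intro w
  induction w with
  | nil => intro n _ hn; exact ⟨by simp [val_nil], hn⟩
  | cons a w ih =>
    intro n hw hn
    obtain ⟨e, hlt⟩ := R.f_act hn (hw a (by simp)).1 (hw a (by simp)).2
    obtain ⟨e', hlt'⟩ := ih (fun b hb => hw b (by simp [hb])) hlt
    exact ⟨by rw [List.foldl_cons, e', e, val_cons, mul_assoc], hlt'⟩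

theorem f_mul {n m : Nat} (hn : n < 768) (hm : m < 768) :
    f g (mul al be n m) = f g n * f g m ∧ mul al be n m < 768 := by
  have h := ok al be hm
  simp only [okCode, Bool.and_eq_true, decide_eq_true_eq, beq_iff_eq] at h
  obtain ⟨e, hlt⟩ := R.f_foldl (letters m) (fun a ha => of_decide_eq_true (allB_iff.1 h.1.1.2 a ha)) hn
  unfold mul
  by_cases hp : m % 2 = 1
  · rw [if_pos hp]
    obtain ⟨e', hlt'⟩ := R.f_flip hlt
    refine ⟨?_, hlt'⟩
    rw [e', e, show f g m = zp g (par m) * val g (letters m) from rfl, show par m = true by simp [par, hp], show zp g true = g 0 from rfl,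
      ← mul_assoc (g 0), R.zc, mul_assoc]
  · rw [if_neg hp]
    refine ⟨?_, hlt⟩
    rw [e, f, f, show par m = false by simp [par, hp]]
    simp [zp]

end Rel

/-- The code of a commutator of `n` with the `i`-th generator. -/
def chainC (al be : Bool) (n : Nat) : Nat := Nat.land (Nat.shiftRight (chainTab al be) (14 * n)) 1023

/-- The code of that generator. -/
def chainG (al be : Bool) (n : Nat) : Nat :=
  match Nat.land (Nat.shiftRight (chainTab al be) (14 * n + 10)) 15 with
  | 0 => 2 | 1 => 4 | 2 => 8 | 3 => 16 | 4 => 32 | 5 => 64 | _ => 192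

/-- One link of a chain. -/
def link (al be : Bool) (n : Nat) : Bool :=
  (chainC al be n < 768 : Bool) &&
    (mul al be (chainC al be n) (mul al be n (chainG al be n)) == mul al be (chainG al be n) n)

/-- Every non-trivial code leads to `z`. -/
def okChain (al be : Bool) (n : Nat) : Bool :=
  n == 0 || n == 1 || (link al be n && (chainC al be n == 1 ||
    (link al be (chainC al be n) && chainC al be (chainC al be n) == 1)))

set_option maxHeartbeats 4000000 in
theorem okChains (al be : Bool) : allLT 768 (okChain al be) = true := by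
  cases al <;> cases be <;> decide +kernel

namespace Rel

variable (R : Rel al be g)
include R

theorem f_zero : f g 0 = 1 := by simp [f, par, letters, sw, zp, val]

theorem f_one : f g 1 = g 0 := by simp [f, par, letters, sw, zp, val]

theorem link_mem {n : Nat} (hn : n < 768) (h : link al be n = true) (N : Subgroup H)
    (hN : ∀ x ∈ N, ∀ y : H, y * x * y⁻¹ ∈ N) (hx : f g n ∈ N) :
    chainC al be n < 768 ∧ f g (chainC al be n) ∈ N := by
  simp only [link, Bool.and_eq_true, decide_eq_true_eq, beq_iff_eq] at h
  have hG : chainG al be n < 768 := by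
    unfold chainG
    split <;> norm_num
  refine ⟨h.1, ?_⟩
  have e := congrArg (f g) h.2
  rw [(R.f_mul h.1 (R.f_mul hn hG).2).1, (R.f_mul hn hG).1, (R.f_mul hG hn).1] at e
  have : f g (chainC al be n) = f g (chainG al be n) * f g n * (f g (chainG al be n))⁻¹ * (f g n)⁻¹ := by
    rw [← e]; group
  rw [this]
  exact mul_mem (hN _ hx _) (inv_mem hx)

/-- A normal subgroup containing a non-trivial code contains `z`. -/
theorem z_mem {n : Nat} (hn : n < 768) (h0 : n ≠ 0) (N : Subgroup H)
    (hN : ∀ x ∈ N, ∀ y : H, y * x * y⁻¹ ∈ N) (hx : f g n ∈ N) : g 0 ∈ N := by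
  have h := allLT_iff.1 (okChains al be) n hn
  simp only [okChain, Bool.or_eq_true, beq_iff_eq, Bool.and_eq_true] at h
  rcases h with (h | h) | ⟨h1, h2⟩
  · exact absurd h h0
  · rw [h, R.f_one] at hx; exact hx
  obtain ⟨hc, hcN⟩ := R.link_mem hn h1 N hN hx
  rcases h2 with h2 | ⟨h3, h4⟩
  · rw [h2, R.f_one] at hcN; exact hcN
  · have h5 := (R.link_mem hc h3 N hN hcN).2
    rw [h4, R.f_one] at h5
    exact h5

theorem foldl_cancel : ∀ (w : List Nat) {n m : Nat}, (∀ a ∈ w, 1 ≤ a ∧ a ≤ 7) → n < 768 → m < 768 →
    w.foldl (act al be) n = w.foldl (act al be) m → n = m := by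
  intro w
  induction w with
  | nil => intro n m _ _ _ h; exact h
  | cons a w ih =>
    intro n m hw hn hm h
    obtain ⟨h1, h7⟩ := hw a (by simp)
    have hmem : a ∈ [1, 2, 3, 4, 5, 6, 7] := by
      simp only [List.mem_cons, List.not_mem_nil, or_false]
      omega
    have e := ih (fun b hb => hw b (by simp [hb])) (R.f_act hn h1 h7).2 (R.f_act hm h1 h7).2 h
    have key : ∀ {k : Nat}, k < 768 →
        act al be (act al be k a) a = (if a ≤ 4 || al then flip k else k) ∧ flip (flip k) = k := by
      intro k hk
      have h := ok al be hk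
      simp only [okCode, Bool.and_eq_true, decide_eq_true_eq, beq_iff_eq] at h
      have h' := allB_iff.1 h.1.2 a hmem
      simp only [Bool.and_eq_true, decide_eq_true_eq, beq_iff_eq] at h'
      exact ⟨h'.2, h.2⟩
    have e2 := congrArg (fun k => act al be k a) e
    simp only [(key hn).1, (key hm).1] at e2
    split at e2
    · rw [← (key hn).2, e2, (key hm).2]
    · exact e2

theorem mul_right_cancel' {n m c : Nat} (hn : n < 768) (hm : m < 768) (hc : c < 768)
    (h : mul al be n c = mul al be m c) : n = m := by
  have hok := ok al be hc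
  simp only [okCode, Bool.and_eq_true, decide_eq_true_eq, beq_iff_eq] at hok
  have hw : ∀ a ∈ letters c, 1 ≤ a ∧ a ≤ 7 := fun a ha => of_decide_eq_true (allB_iff.1 hok.1.1.2 a ha)
  unfold mul at h
  by_cases hp : c % 2 = 1
  · rw [if_pos hp, if_pos hp] at h
    have key : ∀ {k : Nat}, k < 768 → flip (flip k) = k := by
      intro k hk
      have h := ok al be hk
      simp only [okCode, Bool.and_eq_true, decide_eq_true_eq, beq_iff_eq] at h
      exact h.2
    refine R.foldl_cancel _ hw hn hm ?_
    rw [← key (R.f_foldl _ hw hn).2, h, key (R.f_foldl _ hw hm).2]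
  · rw [if_neg hp, if_neg hp] at h
    exact R.foldl_cancel _ hw hn hm h

/-- A realisation in a group of order 768 is a bijection. -/
theorem bijective [Finite H] (hcard : Nat.card H = 768) :
    Function.Bijective (fun n : Fin 768 => f g n) := by
  have hmul : ∀ a b : Fin 768, f g ((⟨mul al be a b, (R.f_mul a.2 b.2).2⟩ : Fin 768) : Nat) = f g a * f g b :=
    fun a b => (R.f_mul a.2 b.2).1
  have hinj : Function.Injective (fun n : Fin 768 => f g n) := by
    -- the values form a group; a code with value one is zero
    have key : ∀ n : Fin 768, f g n = 1 → n.1 = 0 := by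
      intro n h
      by_contra h0
      have : g 0 ∈ (⊥ : Subgroup H) := R.z_mem n.2 h0 ⊥ (fun x hx y => by
        rw [Subgroup.mem_bot] at hx ⊢; simp [hx]) (Subgroup.mem_bot.2 h)
      exact R.ne (Subgroup.mem_bot.1 this)
    intro a b hab
    obtain ⟨c, hc⟩ : ∃ c : Fin 768, f g c = (f g a)⁻¹ := by
      refine ⟨Nat.rec (motive := fun _ => Fin 768) ⟨0, by norm_num⟩
        (fun _ r => ⟨mul al be r a, (R.f_mul r.2 a.2).2⟩) (orderOf (f g a) - 1), ?_⟩
      have : ∀ k, f g ((Nat.rec (motive := fun _ => Fin 768) ⟨0, by norm_num⟩
          (fun _ r => ⟨mul al be r a, (R.f_mul r.2 a.2).2⟩) k : Fin 768) : Nat) = f g a ^ k := by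
        intro k
        induction k with
        | zero => simpa using R.f_zero
        | succ k ih =>
          rw [pow_succ, ← ih]
          exact hmul _ a
      rw [this]
      exact (inv_eq_of_mul_eq_one_right (by rw [← pow_succ', Nat.sub_add_cancel (orderOf_pos _), pow_orderOf_eq_one])).symm
    have h1 : mul al be a c = 0 := key ⟨_, (R.f_mul a.2 c.2).2⟩ (by
      show f g (mul al be a c) = 1
      rw [(R.f_mul a.2 c.2).1, hc, mul_inv_cancel])
    have h2 : mul al be b c = 0 := key ⟨_, (R.f_mul b.2 c.2).2⟩ (by
      show f g (mul al be b c) = 1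
      rw [(R.f_mul b.2 c.2).1, hc, show f g (b : Nat) = f g a from hab.symm, mul_inv_cancel])
    exact Fin.ext (R.mul_right_cancel' a.2 b.2 c.2 (h1.trans h2.symm))
  have := Fintype.ofFinite H
  refine (Fintype.bijective_iff_injective_and_card _).2 ⟨hinj, ?_⟩
  rw [Fintype.card_fin, ← Nat.card_eq_fintype_card, hcard]

end Rel

end Cfsg.Agent.PGammaThreeFour.Model
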