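import Cfsg.Agent.PGammaThreeFour.Model

/-!
# Properties of the four models, checked by the kernel
-/

set_option autoImplicit false
set_option maxRecDepth 100000

namespace Cfsg.Agent.PGammaThreeFour.Model

/-- Some element of a list. -/
def anyB : List Nat → (Nat → Bool) → Bool
  | [], _ => false
  | a :: l, p => p a || anyB l p

theorem anyB_iff {l : List Nat} {p : Nat → Bool} : anyB l p = true ↔ ∃ a ∈ l, p a = true := by
  induction l with
  | nil => simp [anyB]
  | cons a l ih => simp [anyB, ih]

/-- The codes below a bound with a property, in increasing order. -/
def selLT : Nat → (Nat → Bool) → List Nat → List Nat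
  | 0, _, acc => acc
  | k + 1, p, acc => selLT k p (if p k then k :: acc else acc)

theorem mem_selLT {p : Nat → Bool} : ∀ {k : Nat} {acc : List Nat} {n : Nat},
    n ∈ selLT k p acc ↔ (n < k ∧ p n = true) ∨ n ∈ acc := by
  intro k
  induction k with
  | zero => simp [selLT]
  | succ k ih =>
    intro acc n
    rw [selLT, ih]
    by_cases h : p k = true
    · rw [if_pos h, List.mem_cons]
      constructor
      · rintro (⟨h1, h2⟩ | rfl | h1)
        · exact Or.inl ⟨by omega, h2⟩
        · exact Or.inl ⟨by omega, h⟩
        · exact Or.inr h1
      · rintro (⟨h1, h2⟩ | h1)
        · rcases Nat.lt_succ_iff_lt_or_eq.1 h1 with h3 | h3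
          · exact Or.inl ⟨h3, h2⟩
          · exact Or.inr (Or.inl h3)
        · exact Or.inr (Or.inr h1)
    · rw [if_neg h]
      constructor
      · rintro (⟨h1, h2⟩ | h1)
        · exact Or.inl ⟨by omega, h2⟩
        · exact Or.inr h1
      · rintro (⟨h1, h2⟩ | h1)
        · rcases Nat.lt_succ_iff_lt_or_eq.1 h1 with h3 | h3
          · exact Or.inl ⟨h3, h2⟩
          · exact absurd (h3 ▸ h2) h
        · exact Or.inr h1

theorem nodup_selLT {p : Nat → Bool} : ∀ {k : Nat} {acc : List Nat}, acc.Nodup → (∀ n ∈ acc, k ≤ n) →
    (selLT k p acc).Nodup := by
  intro k
  induction k with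
  | zero => intro acc h _; exact h
  | succ k ih =>
    intro acc h hle
    rw [selLT]
    refine ih ?_ ?_ <;> split
    · exact List.nodup_cons.2 ⟨fun hm => absurd (hle k hm) (by omega), h⟩
    · exact h
    · intro n hn
      rcases List.mem_cons.1 hn with rfl | hn
      · exact le_rfl
      · exact (Nat.le_succ k).trans (hle n hn)
    · exact fun n hn => (Nat.le_succ k).trans (hle n hn)

/-- The codes of `1, z, u, zu`. -/
def inW (n : Nat) : Bool := n == 0 || n == 1 || n == 30 || n == 31

/-- An involution. -/
def isInv (al be : Bool) (n : Nat) : Bool := !(n == 0) && mul al be n n == 0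

/-- Two codes commute. -/
def comm (al be : Bool) (m n : Nat) : Bool := mul al be m n == mul al be n m

/-- A set of codes given by list and mask is closed under multiplication. -/
def okSub (al be : Bool) (L : List Nat) (S : Nat) : Bool :=
  (selLT 768 (mem S) [] == L) && mem S 0 && allB L fun a => allB L fun b => mem S (mul al be a b)

/-- The seven generators and their inverses. -/
def genInv (al : Bool) : List (Nat × Nat) :=
  [(2, 3), (4, 5), (8, 9), (16, 17), (32, if al then 33 else 32), (64, if al then 65 else 64),
    (192, if al then 193 else 192)]

/-- A set is invariant under the generators. -/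
def okNormal (al be : Bool) (L : List Nat) (S : Nat) : Bool :=
  (genInv al).all fun p => (mul al be p.1 p.2 == 0) && allB L fun y => mem S (mul al be (mul al be p.1 y) p.2)

/-- An outer involution. -/
def okOuter (al be : Bool) (y : Nat) : Bool :=
  !(isInv al be y) || mem maskK y ||
    (allLT 768 (fun p => !(comm al be p y) || !(isInv al be (mul al be p p)) || mul al be p p == 1) &&
      anyB (selLT 768 (fun p => comm al be p y) []) fun p => mul al be p p == 1)

/-- An inner involution outside `W`. -/
def okInner (al be : Bool) (y : Nat) : Bool :=
  !(isInv al be y) || inW y ||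
    ((selLT 768 (fun p => comm al be p y) []).length == 32 &&
      anyB (selLT 768 (fun p => comm al be p y && isInv al be (mul al be p p)) []) fun p =>
        anyB (selLT 768 (fun p => comm al be p y && isInv al be (mul al be p p)) []) fun q =>
          !(mul al be p p == mul al be q q))

/-- The sets. -/
def okSets (al be : Bool) : Bool :=
  okSub al be listU maskU && okSub al be listK maskK && okSub al be listS0 maskS0 &&
  okNormal al be listU maskU && okNormal al be listK maskK &&
  allB listU (fun n => mem maskK n) && listU.length == 64 && listK.length == 192 && listS0.length == 256 &&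
  allLT 768 (fun n => mem maskK (mul al be n n))

/-- Central elements. -/
def okCentral (al be : Bool) : Bool :=
  allB listU (fun x => allB listU (fun y => comm al be x y) == inW x) &&
  allB [0, 1, 30, 31] (fun x => mem maskU x) &&
  allB listK (fun k => comm al be k 30) &&
  allLT 768 (fun h => mul al be h 30 == mul al be 30 h || mul al be h 30 == mul al be 31 h) &&
  mul al be 2 30 == mul al be 31 2 && mul al be 30 30 == 0 && mul al be 1 30 == 31 &&
  allB listS0 (fun x => !(allB listS0 (fun y => comm al be x y)) || x == 0 || x == 1)

/-- The element of order three and the two outer involutions. -/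
def okElems (al be : Bool) : Bool :=
  mem maskK 96 && mul al be (mul al be 96 96) 96 == 0 &&
  allB listU (fun x => allB [0, 1, 30, 31] fun w =>
    !(mul al be 96 x == mul al be (mul al be w x) 96) || inW x) &&
  isInv al be 14 && !(mem maskK 14) &&
  isInv al be (if al then 40 else 32) && !(mem maskK (if al then 40 else 32)) &&
  !(mem maskK (mul al be 14 (if al then 40 else 32))) &&
  anyB listU (fun p => mul al be p p == 1) && anyB listU (fun p => mul al be p p == 30)

/-- The involution conditions. -/
def okInvol (al be : Bool) : Bool := allLT 768 (okOuter al be) && allB listU (okInner al be)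

/-- All involutions of `U` in `W`, with different numbers of square roots. -/
def okThree (al be : Bool) : Bool :=
  allB listU (fun y => !(isInv al be y) || inW y) &&
  !((selLT 768 (fun x => mem maskU x && mul al be x x == 1) []).length ==
    (selLT 768 (fun x => mem maskU x && mul al be x x == 30) []).length)

/-- One elementary abelian piece. -/
def okPiece (al be : Bool) (L : List Nat) (S : Nat) : Bool :=
  okSub al be L S && L.length == 16 && allB L (fun a => mem maskU a && mul al be a a == 0) &&
  allB [0, 1, 30, 31] (fun x => mem S x) &&
  allB listK (fun k => allB L fun y => anyB L fun y' => mul al be k y == mul al be y' k) &&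
  allB L (fun y => inW y || allB listK (fun k => comm al be k y == mem S k)) &&
  allB L (fun y => inW y || allB L (fun y' => inW y' || anyB listK fun k => mul al be k y == mul al be y' k))

/-- The two pieces. -/
def okPair (al be : Bool) : Bool :=
  okPiece al be listA₁ maskA₁ && okPiece al be listA₂ maskA₂ &&
  allB listA₁ (fun a => mem maskA₂ a == inW a) &&
  allB listU (fun x => anyB listA₁ fun a => anyB listA₂ fun b => mul al be a b == x) &&
  allB listU (fun y => !(isInv al be y) || mem maskA₁ y || mem maskA₂ y) &&
  allB listA₁ (fun a => mem maskA₂ (mul al be (mul al be 2 a) 3))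

set_option maxHeartbeats 4000000 in
theorem sets_ok (al be : Bool) : okSets al be = true := by
  cases al <;> cases be <;> decide +kernel

set_option maxHeartbeats 4000000 in
theorem central_ok (al be : Bool) : okCentral al be = true := by
  cases al <;> cases be <;> decide +kernel

set_option maxHeartbeats 4000000 in
theorem elems_ok (al be : Bool) : okElems al be = true := by
  cases al <;> cases be <;> decide +kernel

set_option maxHeartbeats 4000000 in
theorem invol_ok (al be : Bool) : okInvol al be = true := by
  cases al <;> cases be <;> decide +kernel

set_option maxHeartbeats 4000000 in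
theorem three_ok (al : Bool) : okThree al true = true := by
  cases al <;> decide +kernel

set_option maxHeartbeats 4000000 in
theorem pair_ok (al : Bool) : okPair al false = true := by
  cases al <;> decide +kernel

end Cfsg.Agent.PGammaThreeFour.Model
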