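import Cfsg.Agent.PGammaThreeFour.Defs
import Cfsg.Agent.PGammaThreeFour.ModelChecks

/-!
# The data of the interface from a realisation of the relations
-/

set_option autoImplicit false

namespace Cfsg.Agent.PGammaThreeFour.Model

open Subgroup

universe u

variable {G : Type u} [Group G] [Finite G] {z : G}

/-- The setting: a realisation in a centraliser of order 768. -/
structure Real (z : G) (al be : Bool) (g : Nat → ↥(centralizer ({z} : Set G))) : Prop where
  hz : orderOf z = 2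
  rel : Rel al be g
  g0 : (g 0 : G) = z
  card : Nat.card ↥(centralizer ({z} : Set G)) = 768

variable {al be : Bool} {g : Nat → ↥(centralizer ({z} : Set G))}

/-- The element of a code. -/
def F (g : Nat → ↥(centralizer ({z} : Set G))) (n : Nat) : G := (f g n).1

omit [Finite G] in
theorem F_mem (n : Nat) : F g n ∈ centralizer ({z} : Set G) := (f g n).2

theorem letters_gen (p : Nat × Nat) (hp : p ∈ [(2, 1), (4, 2), (8, 3), (16, 4), (32, 5), (64, 6), (192, 7)]) :
    letters p.1 = [p.2] ∧ par p.1 = false := by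
  revert p
  decide

namespace Real

variable (D : Real z al be g)
include D

theorem bij : Function.Bijective (fun n : Fin 768 => f g n) := D.rel.bijective D.card

theorem F_mul {n m : Nat} (hn : n < 768) (hm : m < 768) :
    F g (mul al be n m) = F g n * F g m ∧ mul al be n m < 768 :=
  ⟨by rw [F, F, F, (D.rel.f_mul hn hm).1, coe_mul], (D.rel.f_mul hn hm).2⟩

theorem F_zero : F g 0 = 1 := by rw [F, D.rel.f_zero, coe_one]

theorem F_one : F g 1 = z := by rw [F, D.rel.f_one, D.g0]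

theorem F_inj {n m : Nat} (hn : n < 768) (hm : m < 768) (h : F g n = F g m) : n = m :=
  congrArg Fin.val (D.bij.1 (Subtype.ext h : f g (⟨n, hn⟩ : Fin 768).1 = f g (⟨m, hm⟩ : Fin 768).1))

theorem F_surj {x : G} (hx : x ∈ centralizer ({z} : Set G)) : ∃ n < 768, F g n = x := by
  obtain ⟨n, hn⟩ := D.bij.2 ⟨x, hx⟩
  exact ⟨n, n.2, congrArg Subtype.val hn⟩

theorem eq_iff {n m : Nat} (hn : n < 768) (hm : m < 768) : (n == m) = true ↔ F g n = F g m := by
  rw [beq_iff_eq]
  exact ⟨fun h => h ▸ rfl, D.F_inj hn hm⟩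

theorem mul_iff {a b c : Nat} (ha : a < 768) (hb : b < 768) (hc : c < 768) :
    (mul al be a b == c) = true ↔ F g a * F g b = F g c := by
  rw [D.eq_iff (D.F_mul ha hb).2 hc, (D.F_mul ha hb).1]

theorem comm_iff {a b : Nat} (ha : a < 768) (hb : b < 768) :
    comm al be a b = true ↔ F g a * F g b = F g b * F g a := by
  rw [comm, D.eq_iff (D.F_mul ha hb).2 (D.F_mul hb ha).2, (D.F_mul ha hb).1, (D.F_mul hb ha).1]

theorem sq_iff {a c : Nat} (ha : a < 768) (hc : c < 768) :
    (mul al be a a == c) = true ↔ F g a * F g a = F g c := D.mul_iff ha ha hc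

theorem isInv_iff {n : Nat} (hn : n < 768) : isInv al be n = true ↔ orderOf (F g n) = 2 := by
  rw [isInv, Bool.and_eq_true, Bool.not_eq_true', ← Bool.not_eq_true, D.eq_iff hn (by norm_num),
    D.sq_iff hn (by norm_num), D.F_zero]
  refine ⟨fun h => orderOf_eq_prime (by rw [pow_two]; exact h.2) h.1, fun h => ⟨fun h1 => ?_, ?_⟩⟩
  · rw [h1, orderOf_one] at h; exact absurd h (by norm_num)
  · rw [← pow_two, ← h, pow_orderOf_eq_one]

omit [Finite G] in
theorem wSet_code {n : Nat} (h : inW n = true) : n < 768 := by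
  simp only [inW, Bool.or_eq_true, beq_iff_eq] at h
  omega

theorem F_31 : F g 31 = z * F g 30 := by
  have h := (central_ok al be)
  simp only [okCentral, Bool.and_eq_true, beq_iff_eq] at h
  rw [← h.1.2, (D.F_mul (by norm_num) (by norm_num)).1, D.F_one]

theorem inW_iff {n : Nat} (hn : n < 768) : inW n = true ↔ F g n ∈ wSet z (F g 30) := by
  simp only [inW, Bool.or_eq_true, wSet, Set.mem_insert_iff, Set.mem_singleton_iff]
  rw [D.eq_iff hn (by norm_num), D.eq_iff hn (by norm_num), D.eq_iff hn (by norm_num),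
    D.eq_iff hn (by norm_num), D.F_zero, D.F_one, D.F_31]
  tauto

theorem wSet_elim {x : G} (h : x ∈ wSet z (F g 30)) : ∃ n, inW n = true ∧ F g n = x := by
  simp only [wSet, Set.mem_insert_iff, Set.mem_singleton_iff] at h
  rcases h with h | h | h | h
  · exact ⟨0, rfl, D.F_zero.trans h.symm⟩
  · exact ⟨1, rfl, D.F_one.trans h.symm⟩
  · exact ⟨30, rfl, h.symm⟩
  · exact ⟨31, rfl, D.F_31.trans h.symm⟩

omit D in
theorem inW_mem {n : Nat} (h : inW n = true) : n ∈ [0, 1, 30, 31] := by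
  simp only [inW, Bool.or_eq_true, beq_iff_eq] at h
  simp only [List.mem_cons, List.not_mem_nil, or_false]
  omega

theorem card_sel (P : G → Prop) (p : Nat → Bool) (hP : ∀ x, P x → x ∈ centralizer ({z} : Set G))
    (h : ∀ n < 768, (p n = true ↔ P (F g n))) :
    Nat.card {x : G // P x} = (selLT 768 p []).length := by
  classical
  have hlt : ∀ n ∈ selLT 768 p [], n < 768 ∧ p n = true := fun n hn => by simpa using mem_selLT.1 hn
  let φ : {n // n ∈ selLT 768 p []} → {x : G // P x} := fun n =>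
    ⟨F g n.1, (h _ (hlt _ n.2).1).1 (hlt _ n.2).2⟩
  have hb : Function.Bijective φ := by
    refine ⟨fun a b e => Subtype.ext (D.F_inj (hlt _ a.2).1 (hlt _ b.2).1 (by have h := congrArg Subtype.val e; exact h)), ?_⟩
    rintro ⟨x, hx⟩
    obtain ⟨n, hn, rfl⟩ := D.F_surj (hP x hx)
    exact ⟨⟨n, mem_selLT.2 (Or.inl ⟨hn, (h n hn).2 hx⟩)⟩, rfl⟩
  rw [← Nat.card_congr (Equiv.ofBijective φ hb)]
  have he : ∀ n, n ∈ selLT 768 p [] ↔ n ∈ (selLT 768 p []).toFinset := fun n => List.mem_toFinset.symm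
  rw [Nat.card_congr (Equiv.subtypeEquivRight he), Nat.card_eq_finsetCard,
    List.toFinset_card_of_nodup (nodup_selLT List.nodup_nil (by simp))]

/-- The subgroup of a checked set of codes. -/
theorem exists_sub {L : List Nat} {S : Nat} (hok : okSub al be L S = true) :
    ∃ A : Subgroup G, A ≤ centralizer {z} ∧ (∀ n < 768, (mem S n = true ↔ F g n ∈ A)) ∧
      Nat.card A = L.length ∧ (∀ n ∈ L, n < 768 ∧ mem S n = true) ∧
      ∀ x ∈ A, ∃ n ∈ L, n < 768 ∧ F g n = x := by
  simp only [okSub, Bool.and_eq_true, beq_iff_eq, allB_iff] at hok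
  obtain ⟨⟨hL, h0⟩, hmul⟩ := hok
  have hlt : ∀ n ∈ L, n < 768 ∧ mem S n = true := fun n hn => by
    rw [← hL] at hn; simpa using mem_selLT.1 hn
  have hin : ∀ n < 768, mem S n = true → n ∈ L := fun n hn h => by
    rw [← hL]; exact mem_selLT.2 (Or.inl ⟨hn, h⟩)
  let T : Submonoid G :=
    { carrier := {x | ∃ n ∈ L, F g n = x}
      one_mem' := ⟨0, hin 0 (by norm_num) h0, D.F_zero⟩
      mul_mem' := by
        rintro _ _ ⟨a, ha, rfl⟩ ⟨b, hb, rfl⟩
        exact ⟨mul al be a b, hin _ (D.F_mul (hlt a ha).1 (hlt b hb).1).2 (hmul a ha b hb),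
          (D.F_mul (hlt a ha).1 (hlt b hb).1).1⟩ }
  have hinv : ∀ {x : G}, x ∈ T → x⁻¹ ∈ T := fun {x} hx => by
    have hk : x⁻¹ = x ^ (orderOf x - 1) := inv_eq_of_mul_eq_one_right (by
      rw [← pow_succ', Nat.sub_add_cancel (orderOf_pos x), pow_orderOf_eq_one])
    rw [hk]
    exact pow_mem hx _
  let A : Subgroup G := { toSubmonoid := T, inv_mem' := hinv }
  have hmem : ∀ n < 768, (mem S n = true ↔ F g n ∈ A) := by
    intro n hn
    constructor
    · intro h; exact ⟨n, hin n hn h, rfl⟩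
    · intro h
      obtain ⟨m, hm, e⟩ := h
      rw [← D.F_inj (hlt m hm).1 hn e]
      exact (hlt m hm).2
  have hle : A ≤ centralizer {z} := by
    rintro x ⟨n, -, rfl⟩
    exact F_mem n
  refine ⟨A, hle, hmem, ?_, hlt, ?_⟩
  swap
  · intro x hx
    obtain ⟨n, hn, e⟩ := hx
    exact ⟨n, hn, (hlt n hn).1, e⟩
  rw [show Nat.card A = Nat.card {x : G // x ∈ A} from rfl, D.card_sel (· ∈ A) (mem S) hle hmem, hL]

/-- A subgroup invariant under the generators is normal in the centraliser. -/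
theorem le_normalizer {L : List Nat} {S : Nat} {A : Subgroup G} (hle : A ≤ centralizer {z})
    (hA : ∀ n < 768, (mem S n = true ↔ F g n ∈ A)) (hsur : ∀ x ∈ A, ∃ n ∈ L, n < 768 ∧ F g n = x)
    (hok : okNormal al be L S = true) : centralizer ({z} : Set G) ≤ normalizer (A : Set G) := by
  simp only [okNormal, List.all_eq_true, Bool.and_eq_true, allB_iff] at hok
  have hp : ∀ p ∈ genInv al, p.1 < 768 ∧ p.2 < 768 := by
    intro p hp
    cases al <;> simp [genInv] at hp <;> rcases hp with rfl | rfl | rfl | rfl | rfl | rfl | rfl <;> norm_num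
  have hn : ∀ p ∈ genInv al, F g p.1 ∈ normalizer (A : Set G) := by
    intro p hpm
    obtain ⟨h1, h2⟩ := hp p hpm
    have hinv : (F g p.1)⁻¹ = F g p.2 := inv_eq_of_mul_eq_one_right (by
      rw [← D.F_zero]; exact (D.mul_iff h1 h2 (by norm_num)).1 (hok p hpm).1)
    have hsub : A.map (MulAut.conj (F g p.1)).toMonoidHom ≤ A := by
      rintro _ ⟨x, hx, rfl⟩
      obtain ⟨n, hnL, hn, rfl⟩ := hsur x hx
      show F g p.1 * F g n * (F g p.1)⁻¹ ∈ A
      rw [hinv, ← (D.F_mul h1 hn).1, ← (D.F_mul (D.F_mul h1 hn).2 h2).1]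
      exact (hA _ (D.F_mul (D.F_mul h1 hn).2 h2).2).1 ((hok p hpm).2 n hnL)
    have he := eq_of_le_of_card_ge hsub
      (by rw [card_map_of_injective (MulAut.conj _).injective])
    refine mem_normalizer_iff.2 fun w => ⟨fun hw => hsub ⟨w, hw, rfl⟩, fun hw => ?_⟩
    rw [← he] at hw
    obtain ⟨w', hw', e⟩ := hw
    exact (MulAut.conj (F g p.1)).injective e ▸ hw'
  have hg : ∀ a, 1 ≤ a → a ≤ 7 → (g a : G) ∈ normalizer (A : Set G) := by
    intro a h1 h7
    obtain ⟨p, q, hpq, hq, he⟩ : ∃ p : Nat × Nat, ∃ q : Nat × Nat, p ∈ genInv al ∧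
        q ∈ [(2, 1), (4, 2), (8, 3), (16, 4), (32, 5), (64, 6), (192, 7)] ∧ p.1 = q.1 ∧ q.2 = a := by
      rcases (show a = 1 ∨ a = 2 ∨ a = 3 ∨ a = 4 ∨ a = 5 ∨ a = 6 ∨ a = 7 by omega) with
        rfl | rfl | rfl | rfl | rfl | rfl | rfl
      · exact ⟨(2, 3), (2, 1), by simp [genInv], by simp, rfl, rfl⟩
      · exact ⟨(4, 5), (4, 2), by simp [genInv], by simp, rfl, rfl⟩
      · exact ⟨(8, 9), (8, 3), by simp [genInv], by simp, rfl, rfl⟩
      · exact ⟨(16, 17), (16, 4), by simp [genInv], by simp, rfl, rfl⟩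
      · exact ⟨(32, if al then 33 else 32), (32, 5), by simp [genInv], by simp, rfl, rfl⟩
      · exact ⟨(64, if al then 65 else 64), (64, 6), by simp [genInv], by simp, rfl, rfl⟩
      · exact ⟨(192, if al then 193 else 192), (192, 7), by simp [genInv], by simp, rfl, rfl⟩
    obtain ⟨hl, hpar⟩ := letters_gen q hq
    have := hn p hpq
    rw [he.1, F, f, hl, hpar] at this
    simpa [zp, val, he.2] using this
  have hz' : (g 0 : G) ∈ normalizer (A : Set G) := by
    rw [D.g0]
    refine centralizer_le_normalizer (A : Set G) (mem_centralizer_iff.2 fun x hx => ?_)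
    exact mem_centralizer_singleton_iff.1 (hle hx)
  intro x hx
  obtain ⟨n, hn', rfl⟩ := D.F_surj hx
  rw [F, f, coe_mul]
  refine mul_mem ?_ ?_
  · cases par n
    · exact one_mem _
    · exact hz'
  · have hw := Rel.ok al be hn'
    simp only [okCode, Bool.and_eq_true] at hw
    have key : ∀ w : List Nat, (∀ a ∈ w, 1 ≤ a ∧ a ≤ 7) → (val g w).1 ∈ normalizer (A : Set G) := by
      intro w
      induction w with
      | nil => intro _; exact one_mem _
      | cons a w ih =>
        intro hw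
        rw [val_cons, coe_mul]
        exact mul_mem (hg a (hw a (by simp)).1 (hw a (by simp)).2) (ih fun b hb => hw b (by simp [hb]))
    exact key _ fun a ha => of_decide_eq_true (allB_iff.1 hw.1.1.2 a ha)

/-- A piece. -/
theorem exists_piece (U K : Subgroup G) (hU : ∀ n < 768, (mem maskU n = true ↔ F g n ∈ U))
    (hK : ∀ n < 768, (mem maskK n = true ↔ F g n ∈ K))
    (hKsur : ∀ x ∈ K, ∃ n ∈ listK, n < 768 ∧ F g n = x) {L : List Nat} {S : Nat}
    (hok : okPiece al be L S = true) :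
    ∃ A : Subgroup G, A ≤ centralizer {z} ∧ (∀ n < 768, (mem S n = true ↔ F g n ∈ A)) ∧
      Nat.card A = 16 ∧ (∀ n ∈ L, n < 768 ∧ mem S n = true) ∧ (∀ x ∈ A, ∃ n ∈ L, n < 768 ∧ F g n = x) ∧
      Piece z (F g 30) U K A := by
  simp only [okPiece, Bool.and_eq_true, allB_iff, anyB_iff, Bool.or_eq_true] at hok
  obtain ⟨⟨⟨⟨⟨⟨hsub, hlen⟩, hUsq⟩, hW⟩, hnorm⟩, hcent⟩, htrans⟩ := hok
  obtain ⟨A, hle, hA, hc, hL, hsur⟩ := D.exists_sub hsub
  rw [beq_iff_eq.1 hlen] at hc
  have hkc : ∀ n ∈ listK, n < 768 ∧ mem maskK n = true := by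
    have hs := sets_ok al be
    simp only [okSets, okSub, Bool.and_eq_true, beq_iff_eq] at hs
    intro n hn
    rw [← hs.1.1.1.1.1.1.1.1.2.1.1] at hn
    simpa using mem_selLT.1 hn
  refine ⟨A, hle, hA, hc, hL, hsur, ⟨fun x hx => ?_, fun x hx => ?_, hc, fun x hx => ?_, ?_, ?_, ?_⟩⟩
  · obtain ⟨n, hnL, hn, rfl⟩ := hsur x hx
    exact (hU n hn).1 (hUsq n hnL).1
  · obtain ⟨n, hn, rfl⟩ := D.wSet_elim hx
    exact (hA n (D.wSet_code hn)).1 (hW n (inW_mem hn))
  · obtain ⟨n, hnL, hn, rfl⟩ := hsur x hx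
    rw [← D.F_zero]
    exact (D.sq_iff hn (by norm_num)).1 (hUsq n hnL).2
  · intro k hk
    obtain ⟨m, hmL, hm, rfl⟩ := hKsur k hk
    have hsub' : A.map (MulAut.conj (F g m)).toMonoidHom ≤ A := by
      rintro _ ⟨x, hx, rfl⟩
      obtain ⟨n, hnL, hn, rfl⟩ := hsur x hx
      obtain ⟨n', hn'L, e⟩ := hnorm m hmL n hnL
      obtain ⟨hn', hn'S⟩ := hL n' hn'L
      rw [D.eq_iff (D.F_mul hm hn).2 (D.F_mul hn' hm).2, (D.F_mul hm hn).1, (D.F_mul hn' hm).1] at e
      show F g m * F g n * (F g m)⁻¹ ∈ A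
      rw [e, mul_inv_cancel_right]
      exact (hA n' hn').1 hn'S
    have he := eq_of_le_of_card_ge hsub' (by rw [card_map_of_injective (MulAut.conj _).injective])
    refine mem_normalizer_iff.2 fun w => ⟨fun hw => hsub' ⟨w, hw, rfl⟩, fun hw => ?_⟩
    rw [← he] at hw
    obtain ⟨w', hw', e⟩ := hw
    exact (MulAut.conj (F g m)).injective e ▸ hw'
  · intro y hy hyW
    obtain ⟨n, hnL, hn, rfl⟩ := hsur y hy
    have hk := (hcent n hnL).resolve_left fun h => hyW ((D.inW_iff hn).1 h)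
    ext x
    rw [mem_inf, mem_centralizer_singleton_iff]
    constructor
    · rintro ⟨hx, e⟩
      obtain ⟨m, hmL, hm, rfl⟩ := hKsur x hx
      have := hk m hmL
      rw [beq_iff_eq, (D.comm_iff hm hn).2 e] at this
      exact (hA m hm).1 this.symm
    · intro hx
      obtain ⟨m, hmL, hm, rfl⟩ := hsur x hx
      have hmU := (hUsq m hmL).1
      have hmK : mem maskK m = true := by
        have hs := sets_ok al be
        simp only [okSets, okSub, Bool.and_eq_true, beq_iff_eq, allB_iff] at hs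
        refine hs.1.1.1.1.2 m ?_
        rw [← hs.1.1.1.1.1.1.1.1.1.1.1]
        exact mem_selLT.2 (Or.inl ⟨hm, hmU⟩)
      have hmK' : m ∈ listK := by
        have hs := sets_ok al be
        simp only [okSets, okSub, Bool.and_eq_true, beq_iff_eq] at hs
        rw [← hs.1.1.1.1.1.1.1.1.2.1.1]
        exact mem_selLT.2 (Or.inl ⟨hm, hmK⟩)
      have := hk m hmK'
      rw [beq_iff_eq, (hA m hm).2 hx] at this
      exact ⟨(hK m hm).1 hmK, (D.comm_iff hm hn).1 this⟩
  · intro y hy hyW y' hy' hyW'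
    obtain ⟨n, hnL, hn, rfl⟩ := hsur y hy
    obtain ⟨n', hnL', hn', rfl⟩ := hsur y' hy'
    obtain ⟨k, hkL, e⟩ := (((htrans n hnL).resolve_left fun h => hyW ((D.inW_iff hn).1 h)) n' hnL').resolve_left
      fun h => hyW' ((D.inW_iff hn').1 h)
    obtain ⟨hk, hkK⟩ := hkc k hkL
    refine ⟨F g k, (hK k hk).1 hkK, ?_⟩
    rw [D.eq_iff (D.F_mul hk hn).2 (D.F_mul hn' hk).2, (D.F_mul hk hn).1, (D.F_mul hn' hk).1] at e
    rw [e, mul_inv_cancel_right]

/-- The data. -/
theorem exists_data (hsolv : Group.IsSolvable (centralizer ({z} : Set G))) : Nonempty (HData z) := by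
  have hs := sets_ok al be
  have hc := central_ok al be
  have he := elems_ok al be
  have hi := invol_ok al be
  simp only [okSets, Bool.and_eq_true, allB_iff, allLT_iff, beq_iff_eq] at hs
  obtain ⟨⟨⟨⟨⟨⟨⟨⟨⟨hsU, hsK⟩, hsS⟩, hnU⟩, hnK⟩, hUK⟩, hlU⟩, hlK⟩, hlS⟩, hsq⟩ := hs
  simp only [okCentral, Bool.and_eq_true, allB_iff, allLT_iff] at hc
  obtain ⟨⟨⟨⟨⟨⟨⟨hcen, hWU⟩, hKu⟩, huc⟩, hum⟩, huu⟩, -⟩, hcS⟩ := hc
  simp only [okElems, Bool.and_eq_true, allB_iff, anyB_iff, Bool.not_eq_true'] at he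
  obtain ⟨⟨⟨⟨⟨⟨⟨⟨⟨hρK, hρ3⟩, hρf⟩, ha⟩, haK⟩, hb⟩, hbK⟩, habK⟩, hzs⟩, hus⟩ := he
  simp only [okInvol, Bool.and_eq_true, allB_iff, allLT_iff] at hi
  obtain ⟨hout, hin⟩ := hi
  obtain ⟨U, hUle, hU, hUc, hUL, hUsur⟩ := D.exists_sub hsU
  obtain ⟨K, hKle, hK, hKc, hKL, hKsur⟩ := D.exists_sub hsK
  obtain ⟨S₀, hSle, hS, hSc, hSL, hSsur⟩ := D.exists_sub hsS
  rw [hlU] at hUc
  rw [hlK] at hKc
  rw [hlS] at hSc
  have h30 : (30 : Nat) < 768 := by norm_num
  have hz2 : z * z = 1 := by rw [← pow_two, ← D.hz, pow_orderOf_eq_one]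
  have hu2 : F g 30 * F g 30 = 1 := by
    rw [← D.F_zero]; exact (D.sq_iff h30 (by norm_num)).1 huu
  have hu1 : orderOf (F g 30) = 2 := orderOf_eq_prime (by rw [pow_two]; exact hu2) fun h => by
    rw [← D.F_zero] at h; exact absurd (D.F_inj h30 (by norm_num) h) (by norm_num)
  have huz : F g 30 ≠ z := fun h =>
    absurd (D.F_inj h30 (by norm_num) (h.trans D.F_one.symm)) (by norm_num)
  have hWmem : ∀ x ∈ wSet z (F g 30), x ∈ U := by
    intro x hx
    obtain ⟨n, hn, rfl⟩ := D.wSet_elim hx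
    exact (hU n (D.wSet_code hn)).1 (hWU n (inW_mem hn))
  have hρ : (96 : Nat) < 768 := by norm_num
  have hρ3' : F g 96 ^ 3 = 1 := by
    have h := (D.mul_iff (D.F_mul hρ hρ).2 hρ (by norm_num)).1 hρ3
    rw [(D.F_mul hρ hρ).1, D.F_zero] at h
    rw [pow_succ, pow_two]
    exact h
  have hb' : (if al then 40 else 32 : Nat) < 768 := by split <;> norm_num
  have hz_sq : ∃ p ∈ U, p * p = z := by
    obtain ⟨p, hp, hpz⟩ := hzs
    exact ⟨F g p, (hU p (hUL p hp).1).1 (hUL p hp).2,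
      ((D.sq_iff (hUL p hp).1 (by norm_num)).1 hpz).trans D.F_one⟩
  have hu_sq : ∃ p ∈ U, p * p = F g 30 := by
    obtain ⟨p, hp, hpz⟩ := hus
    exact ⟨F g p, (hU p (hUL p hp).1).1 (hUL p hp).2, (D.sq_iff (hUL p hp).1 h30).1 hpz⟩
  have hcenter : ∀ x ∈ U, ((∀ y ∈ U, x * y = y * x) ↔ x ∈ wSet z (F g 30)) := by
    intro x hx
    obtain ⟨n, hnL, hn, rfl⟩ := hUsur x hx
    have h := hcen n hnL
    rw [beq_iff_eq] at h
    rw [← D.inW_iff hn, ← h, allB_iff]
    refine ⟨fun hy m hm => (D.comm_iff hn (hUL m hm).1).2 (hy _ ((hU m (hUL m hm).1).1 (hUL m hm).2)),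
      fun hy y hy' => ?_⟩
    obtain ⟨m, hmL, hm, rfl⟩ := hUsur y hy'
    exact (D.comm_iff hn hm).1 (hy m hmL)
  refine ⟨{
    u := F g 30, U := U, K := K, ρ := F g 96, a := F g 14, b := F g (if al then 40 else 32)
    hz := D.hz, hu := hu1, u_ne := huz, card_H := D.card, solvable := hsolv
    odd_normal := ?odd
    K_le := hKle, U_le := ?UK, card_U := hUc, card_K := hKc
    U_normal := D.le_normalizer hUle hU hUsur hnU
    K_normal := D.le_normalizer hKle hK hKsur hnK
    sq_mem := ?sq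
    z_mem := hWmem z (by simp [wSet]), u_mem := hWmem _ (by simp [wSet])
    center := hcenter
    K_cent := ?kc, u_conj := ?uc, u_move := ?um
    ρ_mem := (hK 96 hρ).1 hρK
    ρ_order := ?ro, ρ_free := ?rf, sylow_center := ?sc
    a_mem := F_mem 14, a_order := (D.isInv_iff (by norm_num)).1 ha
    a_notMem := fun h => by rw [(hK 14 (by norm_num)).2 h] at haK; exact Bool.noConfusion haK
    b_mem := F_mem _, b_order := (D.isInv_iff hb').1 hb
    b_notMem := fun h => by rw [(hK _ hb').2 h] at hbK; exact Bool.noConfusion hbK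
    ab_notMem := ?ab
    z_sq := hz_sq, u_sq := hu_sq
    outer_sq := ?os, inner_sq := ?is
    shape := ?sh }⟩
  case odd =>
    intro N hN hnorm hne
    obtain ⟨x, hx, hx1⟩ := N.bot_or_exists_ne_one.resolve_left hne
    obtain ⟨n, hn, rfl⟩ := D.F_surj (hN hx)
    have h := D.rel.z_mem hn (fun h => hx1 (by rw [h, D.F_zero])) (N.subgroupOf _)
      (fun a ha b => mem_subgroupOf.2 (by
        rw [coe_mul, coe_mul, coe_inv]
        exact (mem_normalizer_iff.1 (hnorm b.2) _).1 (mem_subgroupOf.1 ha))) (mem_subgroupOf.2 hx)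
    rw [mem_subgroupOf, D.g0] at h
    exact h
  case UK =>
    intro x hx
    obtain ⟨n, hnL, hn, rfl⟩ := hUsur x hx
    exact (hK n hn).1 (hUK n hnL)
  case sq =>
    intro h hh
    obtain ⟨n, hn, rfl⟩ := D.F_surj hh
    rw [← (D.F_mul hn hn).1]
    exact (hK _ (D.F_mul hn hn).2).1 (hsq n hn)
  case kc =>
    intro k hk
    obtain ⟨n, hnL, hn, rfl⟩ := hKsur k hk
    exact (D.comm_iff hn h30).1 (hKu n hnL)
  case uc =>
    intro h hh
    obtain ⟨n, hn, rfl⟩ := D.F_surj hh
    have := huc n hn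
    simp only [Bool.or_eq_true, beq_iff_eq] at this
    rcases this with e | e <;> have e' := congrArg (F g) e
    · rw [(D.F_mul hn h30).1, (D.F_mul h30 hn).1] at e'
      exact Or.inl (by rw [e', mul_inv_cancel_right])
    · rw [(D.F_mul hn h30).1, (D.F_mul (by norm_num) hn).1, D.F_31] at e'
      exact Or.inr (by rw [e', mul_inv_cancel_right])
  case um =>
    have h31 : (31 : Nat) < 768 := by norm_num
    refine ⟨F g 2, F_mem 2, ?_⟩
    have e' := congrArg (F g) (beq_iff_eq.1 hum)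
    rw [(D.F_mul (by norm_num) h30).1, (D.F_mul h31 (by norm_num)).1, D.F_31] at e'
    rw [e', mul_inv_cancel_right]
  case ro =>
    have : Fact (Nat.Prime 3) := ⟨Nat.prime_three⟩
    exact orderOf_eq_prime hρ3' fun h => by
      rw [← D.F_zero] at h; exact absurd (D.F_inj hρ (by norm_num) h) (by norm_num)
  case rf =>
    intro x hx hw
    obtain ⟨n, hnL, hn, rfl⟩ := hUsur x hx
    obtain ⟨w, hwW, ew⟩ := D.wSet_elim hw
    have hw768 := D.wSet_code hwW
    have h := hρf n hnL w (inW_mem hwW)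
    rw [Bool.or_eq_true] at h
    rcases h with h | h
    · exfalso
      rw [Bool.not_eq_true', ← Bool.not_eq_true] at h
      refine h ?_
      rw [D.eq_iff (D.F_mul hρ hn).2 (D.F_mul (D.F_mul hw768 hn).2 hρ).2, (D.F_mul hρ hn).1,
        (D.F_mul (D.F_mul hw768 hn).2 hρ).1, (D.F_mul hw768 hn).1, ew]
      group
    · exact (D.inW_iff hn).1 h
  case sc =>
    intro S hS' hcard x hxS hcomm
    have : Fact (Nat.Prime 2) := ⟨Nat.prime_two⟩
    let C := centralizer ({z} : Set G)
    have mk : ∀ A : Subgroup G, A ≤ C → Nat.card A = 256 → ∃ T : Sylow 2 ↥C, (T : Subgroup ↥C) = A.subgroupOf C := by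
      intro A hA hcA
      have hc' : Nat.card (A.subgroupOf C) = 256 :=
        (Nat.card_congr (subgroupOfEquivOfLe hA).toEquiv).trans hcA
      refine ⟨(IsPGroup.of_card (n := 8) (hc'.trans (by norm_num))).toSylow fun hd => ?_, rfl⟩
      have h := (A.subgroupOf C).card_mul_index
      have hC : Nat.card ↥C = 768 := D.card
      rw [hc', hC] at h
      have hd' : 2 ∣ (A.subgroupOf C).index := hd
      omega
    obtain ⟨T, hT⟩ := mk S hS' hcard
    obtain ⟨T₀, hT₀⟩ := mk S₀ hSle hSc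
    obtain ⟨c, hc⟩ := MulAction.exists_smul_eq ↥C T T₀
    have hsub : (T₀ : Subgroup ↥C) = (T : Subgroup ↥C).map (MulAut.conj c).toMonoidHom := by
      rw [← hc, Sylow.coe_subgroup_smul]; rfl
    have hy : (c : G) * x * (c : G)⁻¹ ∈ S₀ := by
      have h : c * ⟨x, hS' hxS⟩ * c⁻¹ ∈ (T₀ : Subgroup ↥C) := by
        rw [hsub]
        exact ⟨⟨x, hS' hxS⟩, hT ▸ mem_subgroupOf.2 hxS, rfl⟩
      rw [hT₀, mem_subgroupOf] at h
      exact h
    obtain ⟨n, hnL, hn, en⟩ := hSsur _ hy
    have h := hcS n hnL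
    simp only [Bool.or_eq_true, beq_iff_eq, Bool.not_eq_true'] at h
    have hall : (allB listS0 fun y => comm al be n y) = true := allB_iff.2 fun m hm => by
      obtain ⟨hm', hmS⟩ := hSL m hm
      refine (D.comm_iff hn hm').2 ?_
      rw [en]
      have hmem : (⟨F g m, F_mem m⟩ : ↥C) ∈ (T₀ : Subgroup ↥C) := hT₀ ▸ mem_subgroupOf.2 ((hS m hm').1 hmS)
      rw [hsub] at hmem
      obtain ⟨w, hw, ew⟩ := hmem
      rw [hT] at hw
      have hw' := hcomm _ (mem_subgroupOf.1 hw)
      have ew' : (c : G) * (w : G) * (c : G)⁻¹ = F g m := congrArg Subtype.val ew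
      rw [← ew']
      calc (c : G) * x * (c : G)⁻¹ * ((c : G) * w * (c : G)⁻¹) = c * (x * w) * (c : G)⁻¹ := by group
        _ = (c : G) * ((w : G) * x) * (c : G)⁻¹ := by rw [hw']
        _ = _ := by group
    rcases h with (h | h) | h
    · rw [hall] at h; exact Bool.noConfusion h
    · rw [h, D.F_zero] at en
      exact Or.inl (conj_eq_one_iff.1 en.symm)
    · rw [h, D.F_one] at en
      refine Or.inr ?_
      have hzc : z * (c : G) = (c : G) * z := (mem_centralizer_singleton_iff.1 c.2).symm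
      calc x = (c : G)⁻¹ * ((c : G) * x * (c : G)⁻¹) * c := by group
        _ = z := by rw [← en, mul_assoc, hzc, inv_mul_cancel_left]
  case ab =>
    intro h
    have h14 : (14 : Nat) < 768 := by norm_num
    have h' := (hK _ (D.F_mul h14 hb').2).2 (by rw [(D.F_mul h14 hb').1]; exact h)
    rw [h'] at habK
    exact Bool.noConfusion habK
  case os =>
    intro y hy ho hyK
    obtain ⟨n, hn, rfl⟩ := D.F_surj hy
    have h := hout n hn
    simp only [okOuter, Bool.or_eq_true, Bool.not_eq_true', Bool.and_eq_true, allLT_iff, anyB_iff] at h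
    rcases h with (h | h) | ⟨h1, p, hp, hpz⟩
    · rw [(D.isInv_iff hn).2 ho] at h; exact Bool.noConfusion h
    · exact absurd ((hK n hn).1 h) hyK
    · refine ⟨fun q hq hqy hq2 => ?_, ?_⟩
      · obtain ⟨m, hm, rfl⟩ := D.F_surj hq
        rw [← (D.F_mul hm hm).1] at hq2 ⊢
        rcases h1 m hm with (h | h) | h
        · rw [(D.comm_iff hm hn).2 hqy] at h; exact Bool.noConfusion h
        · rw [(D.isInv_iff (D.F_mul hm hm).2).2 hq2] at h; exact Bool.noConfusion h
        · rw [beq_iff_eq.1 h, D.F_one]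
      · obtain ⟨hp', hpc⟩ : p < 768 ∧ comm al be p n = true := by simpa using mem_selLT.1 hp
        exact ⟨F g p, F_mem p, (D.comm_iff hp' hn).1 hpc,
          ((D.sq_iff hp' (by norm_num)).1 hpz).trans D.F_one⟩
  case is =>
    intro y hy ho
    obtain ⟨n, hnL, hn, rfl⟩ := hUsur y hy
    have h := hin n hnL
    simp only [okInner, Bool.or_eq_true, Bool.not_eq_true', Bool.and_eq_true, anyB_iff, beq_iff_eq] at h
    rcases h with (h | h) | ⟨h32, p, hp, q, hq, hpq⟩
    · rw [(D.isInv_iff hn).2 ho] at h; exact Bool.noConfusion h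
    · obtain ⟨p, hp, ep⟩ := hz_sq
      obtain ⟨q, hq, eq'⟩ := hu_sq
      refine ⟨U, le_inf hUle fun x hx => mem_centralizer_singleton_iff.2
        (((hcenter _ hy).2 ((D.inW_iff hn).1 h) x hx).symm), IsPGroup.of_card (n := 6) (by rw [hUc]; norm_num),
        p, hp, q, hq, by rw [ep, D.hz], by rw [eq', hu1], by rw [ep, eq']; exact huz.symm⟩
    · refine ⟨centralizer {z} ⊓ centralizer {F g n}, le_rfl, IsPGroup.of_card (n := 5) ?_, ?_⟩
      · rw [show Nat.card ↥(centralizer ({z} : Set G) ⊓ centralizer {F g n}) =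
          Nat.card {x : G // x ∈ centralizer ({z} : Set G) ⊓ centralizer {F g n}} from rfl,
          D.card_sel _ (fun p => comm al be p n) (fun x hx => hx.1) (fun m hm => by
            rw [D.comm_iff hm hn, mem_inf]
            exact ⟨fun e => ⟨F_mem m, mem_centralizer_singleton_iff.2 e⟩,
              fun e => mem_centralizer_singleton_iff.1 e.2⟩), h32]
        norm_num
      · obtain ⟨hp', hp1, hp2⟩ : p < 768 ∧ comm al be p n = true ∧ isInv al be (mul al be p p) = true := by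
          simpa [Bool.and_eq_true] using mem_selLT.1 hp
        obtain ⟨hq', hq1, hq2⟩ : q < 768 ∧ comm al be q n = true ∧ isInv al be (mul al be q q) = true := by
          simpa [Bool.and_eq_true] using mem_selLT.1 hq
        refine ⟨F g p, ⟨F_mem p, mem_centralizer_singleton_iff.2 ((D.comm_iff hp' hn).1 hp1)⟩,
          F g q, ⟨F_mem q, mem_centralizer_singleton_iff.2 ((D.comm_iff hq' hn).1 hq1)⟩, ?_, ?_, ?_⟩
        · rw [← (D.F_mul hp' hp').1]; exact (D.isInv_iff (D.F_mul hp' hp').2).1 hp2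
        · rw [← (D.F_mul hq' hq').1]; exact (D.isInv_iff (D.F_mul hq' hq').2).1 hq2
        · rw [← (D.F_mul hp' hp').1, ← (D.F_mul hq' hq').1]
          exact fun e => (beq_eq_false_iff_ne.1 hpq) (D.F_inj (D.F_mul hp' hp').2 (D.F_mul hq' hq').2 e)
  case sh =>
    cases be
    · right
      have hp := pair_ok al
      simp only [okPair, Bool.and_eq_true, allB_iff, anyB_iff] at hp
      obtain ⟨⟨⟨⟨⟨hP1, hP2⟩, hint⟩, hjoin⟩, hinv⟩, hswap⟩ := hp
      obtain ⟨A₁, hA1le, hA1, hA1c, hA1L, hA1sur, P1⟩ := D.exists_piece U K hU hK hKsur hP1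
      obtain ⟨A₂, hA2le, hA2, hA2c, hA2L, hA2sur, P2⟩ := D.exists_piece U K hU hK hKsur hP2
      refine ⟨A₁, A₂, P1, P2, ?_, ?_, ?_, F g 2, F_mem 2, ?_⟩
      · refine Set.eq_of_subset_of_subset (fun x hx => ?_) (fun x hx => ⟨P1.w_mem hx, P2.w_mem hx⟩)
        obtain ⟨n, hnL, hn, rfl⟩ := hA1sur x hx.1
        rw [← D.inW_iff hn, ← beq_iff_eq.1 (hint n hnL)]
        exact (hA2 n hn).2 hx.2
      · refine le_antisymm (sup_le P1.le P2.le) fun x hx => ?_
        obtain ⟨n, hnL, hn, rfl⟩ := hUsur x hx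
        obtain ⟨a, ha, b, hb, e⟩ := hjoin n hnL
        rw [← (D.mul_iff (hA1L a ha).1 (hA2L b hb).1 hn).1 e]
        exact mul_mem_sup ((hA1 a (hA1L a ha).1).1 (hA1L a ha).2) ((hA2 b (hA2L b hb).1).1 (hA2L b hb).2)
      · intro y hy ho
        obtain ⟨n, hnL, hn, rfl⟩ := hUsur y hy
        have h := hinv n hnL
        simp only [Bool.or_eq_true, Bool.not_eq_true'] at h
        rcases h with (h | h) | h
        · rw [(D.isInv_iff hn).2 ho] at h; exact Bool.noConfusion h
        · exact Or.inl ((hA1 n hn).1 h)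
        · exact Or.inr ((hA2 n hn).1 h)
      · have hinv2 : (F g 2)⁻¹ = F g 3 := inv_eq_of_mul_eq_one_right (by
          have h : okNormal al false listU maskU = true := hnU
          simp only [okNormal, List.all_eq_true, Bool.and_eq_true] at h
          rw [← D.F_zero]
          exact (D.mul_iff (by norm_num) (by norm_num) (by norm_num)).1 (h (2, 3) (by simp [genInv])).1)
        have h2 : (2 : Nat) < 768 := by norm_num
        refine eq_of_le_of_card_ge ?_ (by rw [card_map_of_injective (MulAut.conj _).injective, P1.card, P2.card])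
        rintro _ ⟨x, hx, rfl⟩
        obtain ⟨n, hnL, hn, rfl⟩ := hA1sur x hx
        show F g 2 * F g n * (F g 2)⁻¹ ∈ A₂
        rw [hinv2, ← (D.F_mul h2 hn).1, ← (D.F_mul (D.F_mul h2 hn).2 (by norm_num)).1]
        exact (hA2 _ (D.F_mul (D.F_mul h2 hn).2 (by norm_num)).2).1 (hswap n hnL)
    · left
      have ht := three_ok al
      simp only [okThree, Bool.and_eq_true, allB_iff, Bool.not_eq_true', Bool.or_eq_true] at ht
      obtain ⟨h1, h2⟩ := ht
      refine ⟨fun y hy ho => ?_, ?_⟩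
      · obtain ⟨n, hnL, hn, rfl⟩ := hUsur y hy
        rcases h1 n hnL with h | h
        · rw [(D.isInv_iff hn).2 ho] at h; exact Bool.noConfusion h
        · exact (D.inW_iff hn).1 h
      · rw [D.card_sel _ (fun x => mem maskU x && mul al true x x == 1) (fun x hx => hUle hx.1) (fun n hn => by
            rw [Bool.and_eq_true, hU n hn, D.sq_iff hn (by norm_num), D.F_one]),
          D.card_sel _ (fun x => mem maskU x && mul al true x x == 30) (fun x hx => hUle hx.1) (fun n hn => by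
            rw [Bool.and_eq_true, hU n hn, D.sq_iff hn h30])]
        exact beq_eq_false_iff_ne.1 h2

end Real

end Cfsg.Agent.PGammaThreeFour.Model
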