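import Cfsg.Agent.PGammaThreeFour.Fusion
import Mathlib.GroupTheory.Transfer

/-!
# The normalizer of an elementary abelian subgroup of order 16 of `U`

Once all involutions of `U` are conjugate to `z`, the group `N_N(A)/A` has order 180, and this gives an
element of order 3 centralising an involution and an element of order 5.
-/

set_option autoImplicit false

namespace Cfsg.Agent.PGammaThreeFour

open Subgroup

/-- A group of order 180 with a four-group not centralised by any element of order 5 and with no normal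
subgroup of order 36 has an element of order 3 with an even centraliser of order divisible by 5, which
generates a normal subgroup. -/
theorem exists_scalar {Q : Type*} [Group Q] [Finite Q] (hQ : Nat.card Q = 180)
    (h1 : ∀ x : Q, orderOf x = 5 → ¬ (zpowers x).Normal)
    (h36 : ∀ C : Subgroup Q, C.Normal → Nat.card C ≠ 36) :
    ∃ d : Q, orderOf d = 3 ∧ (zpowers d).Normal ∧ 10 ∣ Nat.card (centralizer ({d} : Set Q)) := by
  classical
  haveI : Fact (Nat.Prime 5) := ⟨by norm_num⟩
  haveI : Fact (Nat.Prime 3) := ⟨Nat.prime_three⟩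
  obtain ⟨P⟩ : Nonempty (Sylow 5 Q) := inferInstance
  have hP : Nat.card P = 5 := by
    rw [P.card_eq_multiplicity, hQ]
    rw [show (180 : ℕ) = 5 ^ 1 * 36 from rfl, Nat.factorization_mul (by norm_num) (by norm_num),
      Nat.Prime.factorization_pow (by norm_num)]
    have : (36 : ℕ).factorization 5 = 0 := Nat.factorization_eq_zero_of_not_dvd (by norm_num)
    simp [this]
  obtain ⟨⟨x, hxP⟩, hx5'⟩ := exists_prime_orderOf_dvd_card' (G := (P : Subgroup Q)) 5 (by rw [hP])
  have hx5 : orderOf x = 5 := by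
    rw [← hx5']; exact orderOf_injective (P : Subgroup Q).subtype (subtype_injective _) ⟨x, hxP⟩
  have hPx : (P : Subgroup Q) = zpowers x := by
    refine (Subgroup.eq_of_le_of_card_ge (zpowers_le.2 hxP) ?_).symm
    rw [Nat.card_zpowers, hx5]; exact hP.le
  have hn5 : Nat.card (Sylow 5 Q) ≡ 1 [MOD 5] := card_sylow_modEq_one 5 Q
  have hdvd : Nat.card (Sylow 5 Q) ∣ (P : Subgroup Q).index := P.card_dvd_index
  have hidx : (P : Subgroup Q).index = 36 := by
    have := Subgroup.card_mul_index (P : Subgroup Q)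
    rw [hQ, show Nat.card (P : Subgroup Q) = 5 from hP] at this
    omega
  rw [hidx] at hdvd
  have h6 : Nat.card (Sylow 5 Q) = 6 := by
    have hle := Nat.le_of_dvd (by norm_num) hdvd
    have hne1 : Nat.card (Sylow 5 Q) ≠ 1 := by
      intro h
      haveI : Subsingleton (Sylow 5 Q) := (Nat.card_eq_one_iff_unique.1 h).1
      exact h1 x hx5 (hPx ▸ P.normal_of_subsingleton)
    have hne36 : Nat.card (Sylow 5 Q) ≠ 36 := by
      intro h
      rw [P.card_eq_index_normalizer] at h
      have hN : Nat.card (normalizer (P : Set Q)) = 5 := by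
        have := Subgroup.card_mul_index (normalizer (P : Set Q))
        rw [hQ, h] at this
        omega
      have heq : (P : Subgroup Q) = normalizer (P : Set Q) :=
        Subgroup.eq_of_le_of_card_ge Subgroup.le_normalizer (by rw [hN]; exact hP.ge)
      have hc : normalizer (P : Set Q) ≤ centralizer ((P : Subgroup Q) : Set Q) := by
        rw [← heq]
        intro a ha
        rw [mem_centralizer_iff]
        intro b hb
        rw [hPx] at ha hb
        obtain ⟨i, rfl⟩ := ha
        obtain ⟨j, rfl⟩ := hb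
        exact (Commute.refl x).zpow_zpow j i
      have hcomp := MonoidHom.ker_transferSylow_isComplement' P hc
      refine h36 (MonoidHom.transferSylow P hc).ker (MonoidHom.normal_ker _) ?_
      have := hcomp.card_mul_card
      rw [hQ, hP] at this
      omega
    generalize Nat.card (Sylow 5 Q) = n at *
    interval_cases n <;> simp_all [Nat.ModEq]
  have hN30 : Nat.card (normalizer (P : Set Q)) = 30 := by
    have := Subgroup.card_mul_index (normalizer (P : Set Q))
    rw [P.card_eq_index_normalizer] at h6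
    rw [hQ, h6] at this
    omega
  obtain ⟨⟨d, hdN⟩, hd3'⟩ :=
    exists_prime_orderOf_dvd_card' (G := normalizer (P : Set Q)) 3 (by rw [hN30]; norm_num)
  have hd3 : orderOf d = 3 := by
    rw [← hd3']
    exact orderOf_injective (normalizer (P : Set Q)).subtype (subtype_injective _) ⟨d, hdN⟩
  have hd3e : d ^ 3 = 1 := by rw [← hd3]; exact pow_orderOf_eq_one d
  have hcomm : d * x * d⁻¹ = x := by
    have hm : d * x * d⁻¹ ∈ zpowers x := hPx ▸ (mem_normalizer_iff.1 hdN x).1 hxP
    obtain ⟨k, hk⟩ := (isOfFinOrder_of_finite x).mem_powers_iff_mem_zpowers.2 hm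
    have hk' : d * x * d⁻¹ = x ^ k := hk.symm
    have h2 : ∀ j : ℕ, d * x ^ j * d⁻¹ = x ^ (k * j) := fun j => by
      rw [← conj_pow, hk', ← pow_mul]
    have h3 : d ^ 3 * x * (d ^ 3)⁻¹ = x ^ (k * (k * k)) := by
      rw [pow_succ, pow_two,
        show d * d * d * x * (d * d * d)⁻¹ = d * (d * (d * x * d⁻¹) * d⁻¹) * d⁻¹ by group,
        hk', h2, h2]
    rw [hd3e, one_mul, inv_one, mul_one] at h3
    nth_rw 1 [← pow_one x] at h3
    rw [pow_eq_pow_iff_modEq, hx5] at h3
    have h5 : k % 5 = 1 := by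
      have hlt := Nat.mod_lt k (show 5 > 0 by norm_num)
      have h4 : 1 % 5 = (k % 5 * ((k % 5) * (k % 5))) % 5 := by
        have : k * (k * k) ≡ k % 5 * ((k % 5) * (k % 5)) [MOD 5] :=
          (Nat.mod_modEq k 5).symm.mul ((Nat.mod_modEq k 5).symm.mul (Nat.mod_modEq k 5).symm)
        exact h3.trans this
      revert h4
      interval_cases (k % 5) <;> decide
    have : x ^ k = x := by
      conv_lhs => rw [← pow_mod_orderOf, hx5, h5, pow_one]
    rw [hk', this]
  -- `d` fixes every Sylow 5-subgroup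
  have hfix : ∀ R : Sylow 5 Q, d • R = R := by
    intro R
    have hdP : d • P = P := Sylow.smul_eq_iff_mem_normalizer.2 hdN
    by_cases hR : R = P
    · rw [hR]; exact hdP
    have hxP' : ∀ S : Sylow 5 Q, x • S = S → S = P := by
      intro S hS
      have hxN := Sylow.smul_eq_iff_mem_normalizer.1 hS
      apply Sylow.ext
      have hxS : x ∈ (S : Subgroup Q) := by
        have hS5 : Nat.card (normalizer (S : Set Q)) = 30 := by
          have := Subgroup.card_mul_index (normalizer (S : Set Q))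
          have h6' := h6
          rw [S.card_eq_index_normalizer] at h6'
          rw [hQ, h6'] at this
          omega
        haveI : (S : Subgroup Q).Normal → True := fun _ => trivial
        set M := normalizer (S : Set Q) with hM
        haveI : ((S : Subgroup Q).subgroupOf M).Normal := normal_in_normalizer
        have hp : IsPGroup 5 (zpowers (⟨x, hxN⟩ : M)) := by
          refine IsPGroup.of_card (n := 1) ?_
          rw [Nat.card_zpowers, pow_one, ← hx5]
          exact (orderOf_injective M.subtype (subtype_injective _) _).symm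
        obtain ⟨T, hT⟩ := hp.exists_le_sylow
        have hS' : IsPGroup 5 ((S : Subgroup Q).subgroupOf M) := S.2.comap_subtype
        let S' : Sylow 5 M := S.subtype Subgroup.le_normalizer
        haveI : (S' : Subgroup M).Normal := by
          show ((S : Subgroup Q).subgroupOf M).Normal
          infer_instance
        haveI := (Sylow.unique_of_normal S' inferInstance)
        have : T = S' := Subsingleton.elim T S'
        exact (this ▸ hT) (mem_zpowers _)
      rw [hPx]
      exact (Subgroup.eq_of_le_of_card_ge (zpowers_le.2 hxS) (by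
        rw [Nat.card_zpowers, hx5]; exact ((S.card_eq_multiplicity.trans P.card_eq_multiplicity.symm).trans hP).le)).symm
    -- the orbit of `R` under `x` has five elements, the others
    have hinj : Function.Injective (fun i : Fin 5 => x ^ (i : ℕ) • R) := by
      intro i j hij
      by_contra hne
      apply hR
      apply hxP'
      have key : ∀ a b : ℕ, a < b → b < 5 → x ^ a • R = x ^ b • R → x • R = R := by
        intro a b hab hb he
        have hc : x ^ (b - a) • R = R := by
          rw [show b = a + (b - a) by omega, pow_add, mul_smul, smul_left_cancel_iff] at he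
          exact he.symm
        rw [← MulAction.mem_stabilizer_iff] at hc ⊢
        have hco : (b - a).Coprime (orderOf x) := by
          rw [hx5]
          exact ((Nat.Prime.coprime_iff_not_dvd (by norm_num)).2
            (Nat.not_dvd_of_pos_of_lt (by omega) (by omega))).symm
        obtain ⟨m, hm⟩ := exists_pow_eq_self_of_coprime hco
        rw [← hm]
        exact pow_mem hc m
      rcases Nat.lt_trichotomy (i : ℕ) j with h | h | h
      · exact key _ _ h j.2 hij
      · exact absurd (Fin.ext h) hne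
      · exact key _ _ h i.2 hij.symm
    have hne' : ∀ i : Fin 5, x ^ (i : ℕ) • R ≠ P := by
      intro i h
      apply hR
      have hxP2 : x • P = P :=
        Sylow.smul_eq_iff_mem_normalizer.2 (Subgroup.le_normalizer hxP)
      have : x ^ (i : ℕ) • P = P := by
        rw [← MulAction.mem_stabilizer_iff]
        exact pow_mem (MulAction.mem_stabilizer_iff.2 hxP2) _
      exact smul_left_cancel _ (h.trans this.symm)
    let f : Option (Fin 5) → Sylow 5 Q := fun o => o.elim P fun i => x ^ (i : ℕ) • R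
    have hf : Function.Injective f := by
      rintro (_ | i) (_ | j) h
      · rfl
      · exact absurd h.symm (hne' j)
      · exact absurd h (hne' i)
      · exact congrArg some (hinj h)
    have hsurj : Function.Surjective f :=
      ((Nat.bijective_iff_injective_and_card f).2 ⟨hf, by simp [h6]⟩).2
    have hc : Commute d x := mul_inv_eq_iff_eq_mul.1 hcomm
    obtain ⟨o, ho⟩ := hsurj (d • R)
    rcases o with _ | j
    · exact absurd (smul_left_cancel d (ho.symm.trans hdP.symm)) hR
    have hj : d • R = x ^ (j : ℕ) • R := ho.symm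
    have hstep : ∀ i : ℕ, d • x ^ i • R = x ^ (i + (j : ℕ)) • R := fun i => by
      rw [← mul_smul, (hc.pow_right i).eq, mul_smul, hj, ← mul_smul, ← pow_add]
    have h3 : (d ^ 3) • R = x ^ (3 * (j : ℕ)) • R := by
      rw [pow_succ, pow_two, mul_smul, mul_smul, hj, hstep, hstep]
      congr 2
      omega
    rw [hd3e, one_smul] at h3
    have hmod : x ^ (3 * (j : ℕ)) = x ^ ((3 * (j : ℕ)) % 5) := by rw [← pow_mod_orderOf, hx5]
    rw [hmod] at h3
    have := hinj (a₁ := (0 : Fin 5)) (a₂ := ⟨(3 * (j : ℕ)) % 5, Nat.mod_lt _ (by norm_num)⟩)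
      (by simpa using h3)
    have hj0 : (j : ℕ) = 0 := by
      have h0 := congrArg Fin.val this
      simp at h0
      omega
    rw [hj, hj0, pow_zero, one_smul]
  set K0 := (MulAction.toPermHom Q (Sylow 5 Q)).ker with hK0
  have hdK : d ∈ K0 := by
    rw [MonoidHom.mem_ker]
    exact Equiv.ext hfix
  have hK0le : K0 ≤ normalizer (P : Set Q) := by
    intro a ha
    rw [MonoidHom.mem_ker] at ha
    exact Sylow.smul_eq_iff_mem_normalizer.1 (Equiv.congr_fun ha P)
  have hK030 : Nat.card K0 ∣ 30 := hN30 ▸ Subgroup.card_dvd_of_le hK0le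
  have hx0 : ¬ 5 ∣ Nat.card K0 := by
    intro h
    obtain ⟨⟨y, hy⟩, hy5'⟩ := exists_prime_orderOf_dvd_card' (G := K0) 5 h
    have hy5 : orderOf y = 5 := by
      rw [← hy5']; exact orderOf_injective K0.subtype K0.subtype_injective ⟨y, hy⟩
    have hp : IsPGroup 5 (zpowers y) := IsPGroup.of_card (n := 1) (by rw [Nat.card_zpowers, hy5, pow_one])
    obtain ⟨R, hR⟩ := hp.exists_le_sylow
    have hyall : ∀ S : Sylow 5 Q, y ∈ normalizer (S : Set Q) := fun S => by
      rw [MonoidHom.mem_ker] at hy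
      exact Sylow.smul_eq_iff_mem_normalizer.1 (Equiv.congr_fun hy S)
    have hall : ∀ S : Sylow 5 Q, (S : Subgroup Q) = zpowers y := by
      intro S
      set M := normalizer (S : Set Q) with hM
      haveI : ((S : Subgroup Q).subgroupOf M).Normal := normal_in_normalizer
      have hpy : IsPGroup 5 (zpowers (⟨y, hyall S⟩ : M)) := by
        refine IsPGroup.of_card (n := 1) ?_
        rw [Nat.card_zpowers, pow_one, ← hy5]
        exact (orderOf_injective M.subtype (subtype_injective _) _).symm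
      obtain ⟨T, hT⟩ := hpy.exists_le_sylow
      let S' : Sylow 5 M := S.subtype Subgroup.le_normalizer
      haveI : (S' : Subgroup M).Normal := by
        show ((S : Subgroup Q).subgroupOf M).Normal
        infer_instance
      haveI := (Sylow.unique_of_normal S' inferInstance)
      have : T = S' := Subsingleton.elim T S'
      refine (Subgroup.eq_of_le_of_card_ge (zpowers_le.2 ((this ▸ hT) (mem_zpowers _))) ?_).symm
      rw [Nat.card_zpowers, hy5]
      exact ((S.card_eq_multiplicity.trans P.card_eq_multiplicity.symm).trans hP).le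
    haveI : Subsingleton (Sylow 5 Q) := ⟨fun a b => Sylow.ext ((hall a).trans (hall b).symm)⟩
    have : Nat.card (Sylow 5 Q) ≤ 1 := Finite.card_le_one_iff_subsingleton.2 inferInstance
    omega
  have hK06 : Nat.card K0 ∣ 6 := by
    have hco : Nat.Coprime (Nat.card K0) 5 :=
      ((Nat.Prime.coprime_iff_not_dvd (by norm_num)).2 hx0).symm
    exact hco.dvd_of_dvd_mul_right (show Nat.card K0 ∣ 6 * 5 from hK030)
  -- `⟨d⟩` is the Sylow 3-subgroup of `K0`
  set dd : K0 := ⟨d, hdK⟩
  have hdd : orderOf dd = 3 := by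
    rw [← hd3]; exact (orderOf_injective K0.subtype K0.subtype_injective dd).symm
  have h3K : 3 ∣ Nat.card K0 := hdd ▸ _root_.orderOf_dvd_natCard dd
  have hidx2 : (zpowers dd).index ∣ 2 := by
    have := Subgroup.card_mul_index (zpowers dd)
    rw [Nat.card_zpowers, hdd] at this
    rw [← this] at hK06
    exact Nat.dvd_of_mul_dvd_mul_left (by norm_num) (show 3 * _ ∣ 3 * 2 from hK06)
  haveI : (zpowers dd).Normal := by
    rcases (Nat.dvd_prime Nat.prime_two).1 hidx2 with h | h
    · rw [Subgroup.index_eq_one] at h; rw [h]; infer_instance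
    · exact Subgroup.normal_of_index_eq_two h
  have hmemd : ∀ g : Q, g * d * g⁻¹ ∈ zpowers d := by
    intro g
    have hgK : g * d * g⁻¹ ∈ K0 := (MonoidHom.normal_ker _).conj_mem d hdK g
    set e : K0 := ⟨_, hgK⟩
    have he : orderOf e = 3 := by
      rw [← hd3, ← orderOf_injective K0.subtype K0.subtype_injective e]
      exact orderOf_injective (MulAut.conj g).toMonoidHom (MulAut.conj g).injective d
    have hq : (QuotientGroup.mk e : K0 ⧸ zpowers dd) = 1 := by
      rw [← orderOf_eq_one_iff]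
      have h1 : orderOf (QuotientGroup.mk e : K0 ⧸ zpowers dd) ∣ 3 :=
        he ▸ orderOf_map_dvd (QuotientGroup.mk' (zpowers dd)) e
      have h2 : orderOf (QuotientGroup.mk e : K0 ⧸ zpowers dd) ∣ 2 :=
        (_root_.orderOf_dvd_natCard _).trans (by rw [← Subgroup.index_eq_card]; exact hidx2)
      exact Nat.dvd_one.1 (Nat.dvd_gcd h1 h2)
    obtain ⟨i, hi⟩ := (QuotientGroup.eq_one_iff e).1 hq
    exact ⟨i, congrArg Subtype.val hi⟩
  have hnorm : (zpowers d).Normal := ⟨by
    rintro _ ⟨i, rfl⟩ g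
    show g * d ^ i * g⁻¹ ∈ _
    rw [← conj_zpow]
    exact zpow_mem (hmemd g) i⟩
  refine ⟨d, hd3, hnorm, ?_⟩
  have h5 : 5 ∣ Nat.card (centralizer ({d} : Set Q)) := hx5 ▸
    Subgroup.orderOf_dvd_natCard _ (mem_cent.2 (mul_inv_eq_iff_eq_mul.1 hcomm).symm)
  -- an involution is in the centraliser, or the product of two of them
  have h2 : 2 ∣ Nat.card (centralizer ({d} : Set Q)) := by
    have hconj : ∀ g : Q, g * d * g⁻¹ = d ∨ g * d * g⁻¹ = d⁻¹ := by
      intro g
      obtain ⟨i, hi⟩ := hmemd g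
      have hi' : d ^ i = g * d * g⁻¹ := hi
      have h3 : (3 : ℤ) = orderOf d := by rw [hd3]; rfl
      have hne : g * d * g⁻¹ ≠ 1 := fun e => by
        rw [conj_eq_one_iff] at e; rw [e, orderOf_one] at hd3; omega
      rw [← hi', ← zpow_mod_orderOf, hd3] at hne ⊢
      have : i % 3 = 0 ∨ i % 3 = 1 ∨ i % 3 = 2 := by omega
      rcases this with h | h | h
      · simp [h] at hne
      · exact Or.inl (by push_cast; rw [h, zpow_one])
      · refine Or.inr (by push_cast; rw [h, eq_inv_iff_mul_eq_one, zpow_two, ← pow_two, ← pow_succ, hd3e])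
    by_contra h
    have hle : ∀ g₁ g₂ : Q, g₁ ∉ centralizer ({d} : Set Q) → g₂ ∉ centralizer ({d} : Set Q) →
        g₁ * g₂ ∈ centralizer ({d} : Set Q) := by
      intro g₁ g₂ hg₁ hg₂
      have e₁ := (hconj g₁).resolve_left fun e => hg₁ (mem_cent.2 (mul_inv_eq_iff_eq_mul.1 e))
      have e₂ := (hconj g₂).resolve_left fun e => hg₂ (mem_cent.2 (mul_inv_eq_iff_eq_mul.1 e))
      refine mem_cent.2 (mul_inv_eq_iff_eq_mul.1 ?_)
      rw [show g₁ * g₂ * d * (g₁ * g₂)⁻¹ = g₁ * (g₂ * d * g₂⁻¹) * g₁⁻¹ by group, e₂,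
        show g₁ * d⁻¹ * g₁⁻¹ = (g₁ * d * g₁⁻¹)⁻¹ by group, e₁, inv_inv]
    have hidx : (centralizer ({d} : Set Q)).index ∣ 2 := by
      by_cases htop : centralizer ({d} : Set Q) = ⊤
      · rw [htop]; simp
      · obtain ⟨a, ha⟩ : ∃ a, a ∉ centralizer ({d} : Set Q) := by
          by_contra hc; push Not at hc; exact htop (eq_top_iff.2 fun a _ => hc a)
        rw [Subgroup.index_eq_two_iff.2 ⟨a, fun b => ?_⟩]
        by_cases hb : b ∈ centralizer ({d} : Set Q)
        · exact Or.inr ⟨hb, fun hba => ha ((mul_mem_cancel_left hb).1 hba)⟩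
        · exact Or.inl ⟨hle b a hb ha, hb⟩
    have := Subgroup.card_mul_index (centralizer ({d} : Set Q))
    rw [hQ] at this
    rcases (Nat.dvd_prime Nat.prime_two).1 hidx with e | e <;> rw [e] at this <;> omega
  exact Nat.Coprime.mul_dvd_of_dvd_of_dvd (by decide : Nat.Coprime 2 5) h2 h5

namespace HData

variable {G : Type*} [Group G] [Finite G] {z : G} (D : HData z)
include D

theorem piece_inv {A : Subgroup G} (pA : Piece z D.u D.U D.K A) {a : G} (ha : a ∈ A) (h1 : a ≠ 1) :
    orderOf a = 2 :=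
  orderOf_two_of_sq (pA.sq a ha) h1

theorem wSet_closed : ∀ a ∈ wSet z D.u, ∀ b ∈ wSet z D.u, a * b ∈ wSet z D.u := fun a ha b hb =>
  (D.center _ (mul_mem (D.wSet_subset ha) (D.wSet_subset hb))).1 fun y hy => by
    rw [mul_assoc, ((D.center b (D.wSet_subset hb)).2 hb) y hy, ← mul_assoc,
      ((D.center a (D.wSet_subset ha)).2 ha) y hy, mul_assoc]

theorem exists_commutator_mul {A : Subgroup G} (pA : Piece z D.u D.U D.K A) {v : G}
    (hv : v ∈ D.U) : ∃ w ∈ D.U, ∃ a ∈ A, v = D.ρ * w * D.ρ⁻¹ * w⁻¹ * a := by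
  haveI := D.finite_U
  have hWU : Subgroup.closure (wSet z D.u) ≤ D.U := (closure_le _).2 D.wSet_subset
  have hcl : ∀ y ∈ Subgroup.closure (wSet z D.u), y ∈ wSet z D.u := by
    intro y hy
    refine (D.center y (hWU hy)).1 fun w hw => ?_
    have hle : Subgroup.closure (wSet z D.u) ≤ centralizer (D.U : Set G) :=
      (closure_le _).2 fun v hv => mem_centralizer_iff.2 fun m hm =>
        (((D.center v (D.wSet_subset hv)).2 hv) m hm).symm
    exact (mem_centralizer_iff.1 (hle hy) w hw).symm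
  set W := (Subgroup.closure (wSet z D.u)).subgroupOf D.U with hWdef
  have hcW : ∀ w : D.U, w ∈ W → ∀ y : D.U, y * w = w * y := fun w hw y =>
    Subtype.ext (((D.center w w.2).2 (hcl _ hw) y y.2).symm)
  haveI hWn : W.Normal := ⟨fun w hw g => by rw [hcW w hw g, mul_inv_cancel_right]; exact hw⟩
  have hρU : ∀ y : D.U, D.ρ * y * D.ρ⁻¹ ∈ D.U := fun y =>
    conj_mem_of_normal D.U_normal (D.K_le D.ρ_mem) y.2
  let f : D.U ⧸ W → D.U ⧸ W := Quotient.lift
    (fun y : D.U => (QuotientGroup.mk (⟨_, mul_mem (hρU y) (inv_mem y.2)⟩ : D.U) : D.U ⧸ W))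
    (by
      intro a b hab
      have hab' : a⁻¹ * b ∈ W := QuotientGroup.leftRel_apply.1 hab
      apply QuotientGroup.eq.2
      rw [mem_subgroupOf] at hab' ⊢
      obtain ⟨w, rfl⟩ : ∃ w : D.U, b = a * w := ⟨a⁻¹ * b, by group⟩
      simp only [Subgroup.coe_mul, Subgroup.coe_inv, inv_mul_cancel_left] at hab' ⊢
      have hcw : ∀ y ∈ D.U, (w : G) * y = y * w := (D.center w w.2).2 (hcl _ hab')
      have hρw : D.ρ * (w : G) = w * D.ρ := by
        rcases hcl _ hab' with h | h | h | h <;> rw [h]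
        · simp
        · exact mem_cent.1 (D.K_le D.ρ_mem)
        · exact D.K_cent _ D.ρ_mem
        · rw [← mul_assoc, mem_cent.1 (D.K_le D.ρ_mem), mul_assoc, D.K_cent _ D.ρ_mem, mul_assoc]
      have e : D.ρ * ((a : G) * w) * D.ρ⁻¹ * ((a : G) * w)⁻¹ =
          D.ρ * (a : G) * D.ρ⁻¹ * (a : G)⁻¹ := by
        calc D.ρ * ((a : G) * w) * D.ρ⁻¹ * ((a : G) * w)⁻¹
            = D.ρ * a * ((w : G) * D.ρ⁻¹ * (w : G)⁻¹) * (a : G)⁻¹ := by group
          _ = _ := by
            rw [mul_inv_eq_iff_eq_mul.2 (show (w : G) * D.ρ⁻¹ = D.ρ⁻¹ * w from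
              (Commute.inv_left (show Commute D.ρ (w : G) from hρw)).eq.symm)]
      rw [e, inv_mul_cancel]
      exact one_mem _)
  have hfker : Function.Surjective f := by
    refine Finite.surjective_of_injective fun q₁ q₂ => ?_
    induction q₁ using QuotientGroup.induction_on with
    | _ a =>
      induction q₂ using QuotientGroup.induction_on with
      | _ b =>
        intro h
        have hm := QuotientGroup.eq.1 h
        rw [mem_subgroupOf] at hm
        apply QuotientGroup.eq.2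
        rw [mem_subgroupOf]
        simp only [Subgroup.coe_mul, Subgroup.coe_inv] at hm ⊢
        set v := (D.ρ * (a : G) * D.ρ⁻¹ * (a : G)⁻¹)⁻¹ * (D.ρ * b * D.ρ⁻¹ * (b : G)⁻¹) with hv
        have hvU : ∀ y ∈ D.U, v * y = y * v := (D.center v (hWU hm)).2 (hcl _ hm)
        refine Subgroup.subset_closure (D.ρ_free _ (mul_mem (inv_mem a.2) b.2) ?_)
        have e : D.ρ * ((a : G)⁻¹ * b) * D.ρ⁻¹ * ((a : G)⁻¹ * b)⁻¹ = (a : G)⁻¹ * v * a := by
          rw [hv]; group
        rw [e, mul_assoc, hvU _ a.2, inv_mul_cancel_left]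
        exact hcl _ hm
  obtain ⟨q, hq⟩ := hfker (QuotientGroup.mk ⟨v, hv⟩)
  induction q using QuotientGroup.induction_on with
  | _ w =>
    have hm := QuotientGroup.eq.1 hq
    rw [mem_subgroupOf] at hm
    simp only [Subgroup.coe_mul, Subgroup.coe_inv] at hm
    refine ⟨w, w.2, _, pA.w_mem (hcl _ hm), ?_⟩
    group

theorem exists_delta {N : Subgroup G} [N.Normal] (hNK : N ⊓ centralizer {z} = D.K)
    (hns : ¬ Group.IsSolvable N)
    (hall : ∀ y ∈ D.U, orderOf y = 2 → ∃ g ∈ N, g * z * g⁻¹ = y) :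
    ∃ δ ∈ N, orderOf δ = 3 ∧ (∃ t ∈ N, orderOf t = 2 ∧ t * δ = δ * t) ∧
      ∃ x ∈ N, orderOf x = 5 ∧ x * δ = δ * x := by
  classical
  haveI : Fact (Nat.Prime 2) := ⟨Nat.prime_two⟩
  haveI : Fact (Nat.Prime 5) := ⟨by norm_num⟩
  obtain ⟨A, A₂, P, h, hhN, -, -, hhK, hhU, hhA, -, hhz, hhu⟩ := D.exists_h hNK hns
  have pA := P.p₁
  have hhzu : h * (z * D.u) * h⁻¹ = z := by
    rw [show h * (z * D.u) * h⁻¹ = (h * z * h⁻¹) * (h * D.u * h⁻¹) by group, hhz, hhu,
      ← mul_assoc, D.u_comm, mul_assoc, D.u_sq', mul_one]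
  set M := N ⊓ normalizer (A : Set G) with hM
  have hKM : D.K ≤ M := le_inf (D.K_le_N hNK) pA.normal
  have hhM : h ∈ M := ⟨hhN, hhA⟩
  have hAM : A ≤ M := (pA.le.trans D.U_le).trans hKM
  have hzA : z ∈ A := pA.w_mem (by simp [wSet])
  obtain ⟨y, hy, hyW⟩ : ∃ y ∈ A, y ∉ wSet z D.u := by
    by_contra hc
    push Not at hc
    have h1 : Nat.card A ≤ Nat.card (↑(wSet z D.u) : Set G) :=
      Nat.card_le_card_of_injective (fun b => ⟨b.1, hc b b.2⟩)
        fun a b e => Subtype.ext (congrArg Subtype.val e :)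
    rw [Nat.card_coe_set_eq, pA.card] at h1
    have := ncard_wSet_le z D.u
    omega
  have hy1 : y ≠ 1 := fun e => hyW (by simp [e, wSet])
  -- elements moving `z` inside `W` only
  have hmoveW : ∀ v ∈ wSet z D.u, v ≠ 1 → ∃ m ∈ M, m * z * m⁻¹ = v := by
    intro v hv hv1
    rcases D.eq_zu_of_wSet hv (D.wSet_orderOf hv hv1) with rfl | rfl | rfl
    · exact ⟨1, one_mem _, by simp⟩
    · exact ⟨h, hhM, hhz⟩
    · exact ⟨h * h, mul_mem hhM hhM, by
        rw [show h * h * z * (h * h)⁻¹ = h * (h * z * h⁻¹) * h⁻¹ by group, hhz, hhu]⟩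
  -- some element of `M` moves `z` outside `W`
  obtain ⟨m₀, hm₀, hm₀W⟩ : ∃ m ∈ M, m * z * m⁻¹ ∉ wSet z D.u := by
    by_contra hcon
    push Not at hcon
    have hall' : ∀ m ∈ M, ∀ v ∈ wSet z D.u, m * v * m⁻¹ ∈ wSet z D.u := by
      intro m hm v hv
      rcases eq_or_ne v 1 with rfl | hv1
      · simp [wSet]
      obtain ⟨m', hm', rfl⟩ := hmoveW v hv hv1
      have := hcon (m * m') (mul_mem hm hm')
      convert this using 1
      group
    obtain ⟨g, hg, hgy⟩ := hall y (pA.le hy) (D.piece_inv pA hy hy1)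
    set C := N ⊓ centralizer ({y} : Set G) with hC
    have hAC : A ≤ C := le_inf ((pA.le.trans D.U_le).trans (D.K_le_N hNK)) fun a ha => by
      rw [← pA.cent y hy hyW] at ha
      exact ha.2
    have hUg : (D.U.map (MulAut.conj g).toMonoidHom) ≤ C := by
      rintro _ ⟨x, hx, rfl⟩
      refine ⟨Subgroup.Normal.conj_mem ‹_› x (D.K_le_N hNK (D.U_le hx)) g, mem_cent.2 ?_⟩
      show g * x * g⁻¹ * y = y * (g * x * g⁻¹)
      rw [← hgy, show g * x * g⁻¹ * (g * z * g⁻¹) = g * (x * z) * g⁻¹ by group,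
        mem_cent.1 (D.U_le_H hx)]
      group
    have hA2 : IsPGroup 2 A := IsPGroup.of_card (n := 4) pA.card
    obtain ⟨R, hR⟩ := (hA2.comap_subtype (K := C)).exists_le_sylow
    have hRcard : 64 ≤ Nat.card R := by
      have h1 : 2 ^ 6 ∣ Nat.card C := by
        have := Subgroup.card_dvd_of_le hUg
        rw [← Nat.card_congr (equivMapOfInjective _ _ (MulAut.conj g).injective).toEquiv,
          D.card_U] at this
        exact this
      exact Nat.le_of_dvd Nat.card_pos (R.pow_dvd_card_of_pow_dvd_card h1)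
    have hlt : A.subgroupOf C < (R : Subgroup C) := by
      refine lt_of_le_of_ne hR fun e => ?_
      rw [← e, Nat.card_congr (subgroupOfEquivOfLe hAC).toEquiv, pA.card] at hRcard
      omega
    haveI : Group.IsNilpotent (R : Subgroup C) := R.2.isNilpotent
    have hlt' : (A.subgroupOf C).subgroupOf (R : Subgroup C) < ⊤ := by
      rw [lt_top_iff_ne_top]; intro h'; exact hlt.not_ge (subgroupOf_eq_top.1 h')
    obtain ⟨r, hr, hr'⟩ := SetLike.exists_of_lt (Group.normalizerCondition_of_isNilpotent _ hlt')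
    set s : G := ((r : C) : G) with hs
    have hsM : s ∈ M := by
      refine ⟨(r : C).2.1, mem_normalizer_of_conj_mem fun a ha => ?_⟩
      exact (mem_normalizer_iff.1 hr ⟨⟨a, hAC ha⟩, hR ha⟩).1 ha
    -- `s` is a 2-element, so it fixes a point of `W#`, so all of them
    obtain ⟨n, hn⟩ := R.2 r
    have hsn : s ^ 2 ^ n = 1 := by
      have := congrArg (fun t : (R : Subgroup C) => (((t : C)) : G)) hn
      simpa using this
    have hfix : ∃ v, (v = z ∨ v = D.u ∨ v = z * D.u) ∧ s * v * s⁻¹ = v := by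
      by_contra hne
      push Not at hne
      have hinj : ∀ {a b : G}, s * a * s⁻¹ = s * b * s⁻¹ → a = b := fun h' =>
        mul_left_cancel (mul_right_cancel h')
      have hstep : ∀ v, (v = z ∨ v = D.u ∨ v = z * D.u) →
          (s * v * s⁻¹ = z ∨ s * v * s⁻¹ = D.u ∨ s * v * s⁻¹ = z * D.u) := by
        intro v hv
        have hvW : v ∈ wSet z D.u := by rcases hv with rfl | rfl | rfl <;> simp [wSet]
        have hv1 : v ≠ 1 := by
          rcases hv with rfl | rfl | rfl
          exacts [D.z_ne_one, D.u_ne_one, D.zu_ne_one]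
        exact D.eq_zu_of_wSet (hall' s hsM v hvW)
          (by rw [orderOf_conj]; exact D.wSet_orderOf hvW hv1)
      have d1 : z ≠ D.u := fun e => D.u_ne e.symm
      have d2 : z ≠ z * D.u := fun e => D.u_ne_one (left_eq_mul.1 e)
      have d3 : D.u ≠ z * D.u := fun e => D.z_ne_one (right_eq_mul.1 e)
      have nz := hne z (Or.inl rfl)
      have nu := hne D.u (Or.inr (Or.inl rfl))
      have nv := hne (z * D.u) (Or.inr (Or.inr rfl))
      have hcube : s ^ 3 * z * (s ^ 3)⁻¹ = z := by
        rw [show s ^ 3 * z * (s ^ 3)⁻¹ = s * (s * (s * z * s⁻¹) * s⁻¹) * s⁻¹ by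
          rw [pow_succ, pow_two]; group]
        rcases (hstep z (Or.inl rfl)).resolve_left nz with e1 | e1 <;> rw [e1]
        · rcases hstep D.u (Or.inr (Or.inl rfl)) with e2 | e2 | e2
          · -- a transposition would fix the third point
            exfalso
            rcases hstep (z * D.u) (Or.inr (Or.inr rfl)) with e3 | e3 | e3
            · exact d3 (hinj (e2.trans e3.symm))
            · exact d2 (hinj (e1.trans e3.symm))
            · exact nv e3
          · exact absurd e2 nu
          · rw [e2]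
            rcases hstep (z * D.u) (Or.inr (Or.inr rfl)) with e3 | e3 | e3
            · exact e3
            · exact absurd (hinj (e1.trans e3.symm)) d2
            · exact absurd e3 nv
        · rcases hstep (z * D.u) (Or.inr (Or.inr rfl)) with e2 | e2 | e2
          · exfalso
            rcases hstep D.u (Or.inr (Or.inl rfl)) with e3 | e3 | e3
            · exact d3 (hinj (e3.trans e2.symm))
            · exact nu e3
            · exact d1 (hinj (e1.trans e3.symm))
          · rw [e2]
            rcases hstep D.u (Or.inr (Or.inl rfl)) with e3 | e3 | e3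
            · exact e3
            · exact absurd e3 nu
            · exact absurd (hinj (e1.trans e3.symm)) d1
          · exact absurd e2 nv
      apply nz
      have hst : s ^ 3 ∈ centralizer ({z} : Set G) := mem_cent.2 (commute_of_conj_eq hcube)
      have hco : (3 : ℕ).Coprime (orderOf s) :=
        Nat.Coprime.coprime_dvd_right (orderOf_dvd_of_pow_eq_one hsn)
          (Nat.Coprime.pow_right n (by decide))
      obtain ⟨k, hk⟩ := exists_pow_eq_self_of_coprime hco
      exact conj_eq_of_commute (mem_cent.1 (hk ▸ pow_mem hst k))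
    obtain ⟨v, hv, hsv⟩ := hfix
    have hvW : v ∈ wSet z D.u := by rcases hv with rfl | rfl | rfl <;> simp [wSet]
    have hv1 : v ≠ 1 := by
      rcases hv with rfl | rfl | rfl
      exacts [D.z_ne_one, D.u_ne_one, D.zu_ne_one]
    obtain ⟨m, hm, hmv⟩ := hmoveW v hvW hv1
    have hk : m⁻¹ * s * m ∈ D.K := D.mem_K_of hNK
      (mul_mem (mul_mem (inv_mem hm.1) hsM.1) hm.1) (by
        calc m⁻¹ * s * m * z = m⁻¹ * (s * (m * z * m⁻¹) * s⁻¹) * s * m := by group
          _ = m⁻¹ * (m * z * m⁻¹) * s * m := by rw [hmv, hsv]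
          _ = z * (m⁻¹ * s * m) := by group)
    have hsz : s * z = z * s := by
      obtain ⟨m', hm', hm'z⟩ : ∃ v' ∈ wSet z D.u, m * v' * m⁻¹ = z := by
        refine ⟨m⁻¹ * z * m, ?_, by group⟩
        have := hall' m⁻¹ (inv_mem hm) z (by simp [wSet])
        simpa using this
      have hcomm : m⁻¹ * s * m * m' = m' * (m⁻¹ * s * m) :=
        (((D.center m' (D.wSet_subset hm')).2 hm' : _) |> fun _ => by
          rcases hm' with e | e | e | e <;> rw [e]
          · simp
          · exact mem_cent.1 (D.K_le hk)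
          · exact D.K_cent _ hk
          · exact (Commute.mul_right (show Commute _ z from mem_cent.1 (D.K_le hk)) (show Commute _ D.u from D.K_cent _ hk)).eq)
      calc s * z = m * (m⁻¹ * s * m * m') * m⁻¹ := by rw [← hm'z]; group
        _ = m * (m' * (m⁻¹ * s * m)) * m⁻¹ := by rw [hcomm]
        _ = z * s := by rw [← hm'z]; group
    apply hr'
    show s ∈ A
    rw [← pA.cent y hy hyW]
    exact ⟨D.mem_K_of hNK hsM.1 hsz, (r : C).2.2⟩
  -- `M` is transitive on the involutions of `A`
  have htrans : ∀ a ∈ A, a ≠ 1 → ∃ m ∈ M, m * z * m⁻¹ = a := by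
    intro a ha ha1
    by_cases haW : a ∈ wSet z D.u
    · exact hmoveW a haW ha1
    obtain ⟨k, hk, hka⟩ := pA.trans _ ((mem_normalizer_iff.1 hm₀.2 z).1 hzA) hm₀W a ha haW
    exact ⟨k * m₀, mul_mem (hKM hk) hm₀, by rw [← hka]; group⟩
  have hcardM : Nat.card M = 2880 := by
    set K' := D.K.subgroupOf M with hK'
    have h1 := Subgroup.card_mul_index K'
    rw [Nat.card_congr (subgroupOfEquivOfLe hKM).toEquiv, D.card_K] at h1
    let f : M ⧸ K' → {a : A // a ≠ 1} := Quotient.lift
      (fun m : M => ⟨⟨(m : G) * z * (m : G)⁻¹, (mem_normalizer_iff.1 m.2.2 z).1 hzA⟩,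
        fun e => D.z_ne_one (conj_eq_one_iff.1 (congrArg Subtype.val e))⟩)
      (fun m m' hmm => by
        have hk : m⁻¹ * m' ∈ K' := QuotientGroup.leftRel_apply.1 hmm
        have hc := conj_eq_of_commute (mem_cent.1 (D.K_le (mem_subgroupOf.1 hk)))
        refine Subtype.ext (Subtype.ext ?_)
        simp only [Subgroup.coe_mul, Subgroup.coe_inv] at hc
        calc (m : G) * z * (m : G)⁻¹
            = m * ((m : G)⁻¹ * m' * z * ((m : G)⁻¹ * m')⁻¹) * (m : G)⁻¹ := by rw [hc]
          _ = _ := by group)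
    have hbij : Function.Bijective f := by
      constructor
      · intro q q'
        induction q using QuotientGroup.induction_on with
        | _ m =>
          induction q' using QuotientGroup.induction_on with
          | _ m' =>
            intro e
            have e' : (m : G) * z * (m : G)⁻¹ = (m' : G) * z * (m' : G)⁻¹ :=
              congrArg (fun t : {a : A // a ≠ 1} => ((t : A) : G)) e
            apply QuotientGroup.eq.2
            rw [mem_subgroupOf]
            refine D.mem_K_of hNK (mul_mem (inv_mem (Subgroup.mem_inf.1 m.2).1) (Subgroup.mem_inf.1 m'.2).1) ?_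
            simp only [Subgroup.coe_mul, Subgroup.coe_inv]
            calc (m : G)⁻¹ * m' * z = (m : G)⁻¹ * ((m' : G) * z * (m' : G)⁻¹) * m' := by group
              _ = _ := by rw [← e']; group
      · rintro ⟨⟨a, ha⟩, ha1⟩
        obtain ⟨m, hm, hma⟩ := htrans a ha (fun e => ha1 (Subtype.ext e))
        exact ⟨QuotientGroup.mk ⟨m, hm⟩, Subtype.ext (Subtype.ext hma)⟩
    have h15 : K'.index = 15 := by
      rw [Subgroup.index_eq_card, Nat.card_congr (Equiv.ofBijective f hbij)]
      haveI := Fintype.ofFinite A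
      rw [Nat.card_eq_fintype_card, Fintype.card_subtype_compl, Fintype.card_subtype_eq,
        ← Nat.card_eq_fintype_card, pA.card]
    rw [h15] at h1
    omega
  set A' := A.subgroupOf M with hA'def
  haveI : A'.Normal := normal_subgroupOf_of_le_normalizer inf_le_right
  have hQ : Nat.card (M ⧸ A') = 180 := by
    have := Subgroup.card_mul_index A'
    rw [Nat.card_congr (subgroupOfEquivOfLe hAM).toEquiv, pA.card, hcardM,
      Subgroup.index_eq_card] at this
    omega
  -- elements of `A` centralised by `U` lie in `W`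
  have hUW : ∀ a ∈ A, (∀ x ∈ D.U, x * a = a * x) → a ∈ wSet z D.u := fun a ha hc =>
    (D.center a (pA.le ha)).1 fun x hx => (hc x hx).symm
  let π : M →* M ⧸ A' := QuotientGroup.mk' A'
  have h5n : ∀ x : M ⧸ A', orderOf x = 5 → ¬ (zpowers x).Normal := by
    -- no normal subgroup of order 5
    intro xb hxb hxn
    induction xb using QuotientGroup.induction_on with
    | _ x =>
    have key : ∀ v ∈ D.U, ∀ hv : v ∈ M, π ⟨v, hv⟩ * (x : M ⧸ A') = x * π ⟨v, hv⟩ := by
      intro v hvU hv
      set vb := π ⟨v, hv⟩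
      obtain ⟨k, hk⟩ := (isOfFinOrder_of_finite (x : M ⧸ A')).mem_powers_iff_mem_zpowers.2
        (hxn.conj_mem _ (mem_zpowers _) vb)
      have hk' : vb * x * vb⁻¹ = (x : M ⧸ A') ^ k := hk.symm
      obtain ⟨ρ', hρ'⟩ : ∃ r, r = π ⟨D.ρ, hKM D.ρ_mem⟩ := ⟨_, rfl⟩
      -- the action of `U` on `⟨x⟩` is invariant under `ρ`, and `[U, ρ] W = U`
      have hab : ∀ a b : M ⧸ A', ∀ i : ℕ, a * (x : M ⧸ A') * a⁻¹ = (x : M ⧸ A') ^ i →
          ∀ j : ℕ, b * (x : M ⧸ A') * b⁻¹ = (x : M ⧸ A') ^ j →
          a * b * (x : M ⧸ A') * (a * b)⁻¹ = b * a * (x : M ⧸ A') * (b * a)⁻¹ := by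
        intro a b i hi j hj
        rw [show a * b * (x : M ⧸ A') * (a * b)⁻¹ = a * (b * x * b⁻¹) * a⁻¹ by group,
          show b * a * (x : M ⧸ A') * (b * a)⁻¹ = b * (a * x * a⁻¹) * b⁻¹ by group, hi, hj,
          ← conj_pow, ← conj_pow, hi, hj, ← pow_mul, ← pow_mul, mul_comm]
      obtain ⟨w, hw, a, ha, e⟩ : ∃ w ∈ D.U, ∃ a ∈ A, v = D.ρ * w * D.ρ⁻¹ * w⁻¹ * a :=
        D.exists_commutator_mul (A := A) pA hvU
      have hρw : π ⟨v, hv⟩ = ρ' * π ⟨w, hKM (D.U_le hw)⟩ * ρ'⁻¹ * (π ⟨w, hKM (D.U_le hw)⟩)⁻¹ := by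
        rw [hρ', ← map_mul, ← map_inv, ← map_mul, ← map_inv, ← map_mul]
        refine (QuotientGroup.eq).2 ?_
        rw [hA'def, mem_subgroupOf]
        simp only [Subgroup.coe_mul, Subgroup.coe_inv, e]
        rw [show (D.ρ * w * D.ρ⁻¹ * w⁻¹ * a)⁻¹ * (D.ρ * w * D.ρ⁻¹ * w⁻¹) = a⁻¹ by group]
        exact inv_mem ha
      obtain ⟨i, hi⟩ := (isOfFinOrder_of_finite (x : M ⧸ A')).mem_powers_iff_mem_zpowers.2
        (hxn.conj_mem _ (mem_zpowers _) ρ')
      obtain ⟨j, hj⟩ := (isOfFinOrder_of_finite (x : M ⧸ A')).mem_powers_iff_mem_zpowers.2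
        (hxn.conj_mem _ (mem_zpowers _) (π ⟨w, hKM (D.U_le hw)⟩))
      set wb := π ⟨w, hKM (D.U_le hw)⟩
      have e1 := hab ρ' wb i hi.symm j hj.symm
      show vb * x = x * vb
      have : vb * x * vb⁻¹ = x := by
        rw [show vb = ρ' * wb * ρ'⁻¹ * wb⁻¹ from hρw]
        have e2 : (ρ' * wb)⁻¹ * (wb * ρ') * x * ((ρ' * wb)⁻¹ * (wb * ρ'))⁻¹ = x := by
          calc _ = (ρ' * wb)⁻¹ * (wb * ρ' * x * (wb * ρ')⁻¹) * (ρ' * wb) := by group
            _ = (ρ' * wb)⁻¹ * (ρ' * wb * x * (ρ' * wb)⁻¹) * (ρ' * wb) := by rw [← e1]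
            _ = x := by group
        have e3 : ∀ c : M ⧸ A', ∀ l : ℕ, c * (x : M ⧸ A') * c⁻¹ = (x : M ⧸ A') ^ l →
            ∀ t : M ⧸ A', t * (x : M ⧸ A') * t⁻¹ = x →
            c * t * c⁻¹ * x * (c * t * c⁻¹)⁻¹ = x := by
          intro c l hl t ht
          have hc' : c⁻¹ * (x : M ⧸ A') * c ∈ zpowers (x : M ⧸ A') := by
            have := hxn.conj_mem _ (mem_zpowers (x : M ⧸ A')) c⁻¹
            simpa using this
          obtain ⟨l', hl'⟩ := hc'
          have hl'' : c⁻¹ * (x : M ⧸ A') * c = (x : M ⧸ A') ^ l' := hl'.symm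
          calc c * t * c⁻¹ * x * (c * t * c⁻¹)⁻¹ = c * (t * (c⁻¹ * x * c) * t⁻¹) * c⁻¹ := by group
            _ = c * (c⁻¹ * x * c) * c⁻¹ := by rw [hl'', ← conj_zpow, ht]
            _ = x := by group
        have e4 := e3 (ρ' * wb) (j * i) (by
          rw [show ρ' * wb * (x : M ⧸ A') * (ρ' * wb)⁻¹ = ρ' * (wb * x * wb⁻¹) * ρ'⁻¹ by group,
            hj.symm, ← conj_pow, hi.symm, ← pow_mul, mul_comm]) _ e2
        have e5 : ρ' * wb * ((ρ' * wb)⁻¹ * (wb * ρ')) * (ρ' * wb)⁻¹ =
            (ρ' * wb * ρ'⁻¹ * wb⁻¹)⁻¹ := by group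
        rw [e5] at e4
        calc ρ' * wb * ρ'⁻¹ * wb⁻¹ * x * (ρ' * wb * ρ'⁻¹ * wb⁻¹)⁻¹
            = (ρ' * wb * ρ'⁻¹ * wb⁻¹) * ((ρ' * wb * ρ'⁻¹ * wb⁻¹)⁻¹ * x *
              (ρ' * wb * ρ'⁻¹ * wb⁻¹)⁻¹⁻¹) * (ρ' * wb * ρ'⁻¹ * wb⁻¹)⁻¹ := by rw [e4]
          _ = x := by group
      exact mul_inv_eq_iff_eq_mul.1 this
    -- so `x` normalises `W`, and a power of order 5 fixes `z`
    have hxW : ∀ w ∈ wSet z D.u, (x : G) * w * (x : G)⁻¹ ∈ wSet z D.u := by
      intro w hw
      have hxwA : (x : G) * w * (x : G)⁻¹ ∈ A := (mem_normalizer_iff.1 x.2.2 w).1 (pA.w_mem hw)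
      refine hUW _ hxwA fun v hv => ?_
      obtain ⟨a, ha, hva⟩ : ∃ a ∈ A, v * (x : G) = (x : G) * v * a := by
        have := key v hv (hKM (D.U_le hv))
        have h' : π (x * ⟨v, hKM (D.U_le hv)⟩) = π (⟨v, hKM (D.U_le hv)⟩ * x) := by
          rw [map_mul, map_mul]; exact this.symm
        have hm := QuotientGroup.eq.1 h'
        rw [hA'def, mem_subgroupOf] at hm
        simp only [Subgroup.coe_mul, Subgroup.coe_inv] at hm
        exact ⟨_, hm, by group⟩
      have hwa : a * w * a⁻¹ = w := by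
        rw [((D.center w (D.wSet_subset hw)).2 hw a (pA.le ha)).symm, mul_inv_cancel_right]
      calc v * ((x : G) * w * (x : G)⁻¹)
          = (v * x) * w * (v * (x : G))⁻¹ * v := by group
        _ = ((x : G) * v * a) * w * ((x : G) * v * a)⁻¹ * v := by rw [hva]
        _ = (x : G) * (v * (a * w * a⁻¹) * v⁻¹) * (x : G)⁻¹ * v := by group
        _ = (x : G) * w * (x : G)⁻¹ * v := by
          rw [hwa, ← (D.center w (D.wSet_subset hw)).2 hw v hv, mul_inv_cancel_right]
    obtain ⟨x', hx'M, hx'5, hx'W⟩ : ∃ x' ∈ M, orderOf x' = 5 ∧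
        ∀ w ∈ wSet z D.u, x' * w * x'⁻¹ ∈ wSet z D.u := by
      refine ⟨((x : G)) ^ (orderOf x / 5), pow_mem x.2 _, ?_, ?_⟩
      · have h5 : 5 ∣ orderOf x := hxb ▸ orderOf_map_dvd π x
        have : orderOf ((x : G)) = orderOf x := orderOf_injective M.subtype M.subtype_injective x
        rw [← this] at h5 ⊢
        exact orderOf_pow_orderOf_div (orderOf_pos (x : G)).ne' h5
      · have hp : ∀ n : ℕ, ∀ w ∈ wSet z D.u, (x : G) ^ n * w * ((x : G) ^ n)⁻¹ ∈ wSet z D.u := by
          intro n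
          induction n with
          | zero => intro w hw; simpa using hw
          | succ n ih =>
            intro w hw
            rw [show (x : G) ^ (n + 1) * w * ((x : G) ^ (n + 1))⁻¹ =
              (x : G) * ((x : G) ^ n * w * ((x : G) ^ n)⁻¹) * (x : G)⁻¹ by rw [pow_succ']; group]
            exact hxW _ (ih w hw)
        exact hp _
    -- orbit of `z` has at most three points
    have hz : x' * z * x'⁻¹ = z := by
      by_contra hne
      let f : Fin 5 → {w // w ∈ ({z, D.u, z * D.u} : Finset G)} := fun i =>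
        ⟨x' ^ (i : ℕ) * z * (x' ^ (i : ℕ))⁻¹, by
          have hp : ∀ n : ℕ, x' ^ n * z * (x' ^ n)⁻¹ ∈ wSet z D.u := by
            intro n
            induction n with
            | zero => simp [wSet]
            | succ n ih =>
              rw [show x' ^ (n + 1) * z * (x' ^ (n + 1))⁻¹ = x' * (x' ^ n * z * (x' ^ n)⁻¹) * x'⁻¹
                by rw [pow_succ']; group]
              exact hx'W _ ih
          simp only [Finset.mem_insert, Finset.mem_singleton]
          exact D.eq_zu_of_wSet (hp i) (by rw [orderOf_conj]; exact D.hz)⟩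
      have hinj : Function.Injective f := by
        intro i j hij
        by_contra hne'
        have e : x' ^ (i : ℕ) * z * (x' ^ (i : ℕ))⁻¹ = x' ^ (j : ℕ) * z * (x' ^ (j : ℕ))⁻¹ :=
          congrArg Subtype.val hij
        have hm : ((x' ^ (i : ℕ))⁻¹ * x' ^ (j : ℕ)) ∈ centralizer ({z} : Set G) := by
          refine mem_cent.2 (commute_of_conj_eq ?_)
          calc _ = (x' ^ (i : ℕ))⁻¹ * (x' ^ (j : ℕ) * z * (x' ^ (j : ℕ))⁻¹) * x' ^ (i : ℕ) := by group
            _ = z := by rw [← e]; group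
        apply hne
        refine conj_eq_of_commute (mem_cent.1 ?_)
        have hgen : x' ∈ zpowers ((x' ^ (i : ℕ))⁻¹ * x' ^ (j : ℕ)) := by
          have hne1 : (x' ^ (i : ℕ))⁻¹ * x' ^ (j : ℕ) ≠ 1 := fun e1 => hne' (Fin.ext
            (pow_injOn_Iio_orderOf (by simp [hx'5, i.2]) (by simp [hx'5, j.2])
              (inv_mul_eq_one.1 e1)))
          have hmem : (x' ^ (i : ℕ))⁻¹ * x' ^ (j : ℕ) ∈ zpowers x' :=
            mul_mem (inv_mem (pow_mem (mem_zpowers x') _)) (pow_mem (mem_zpowers x') _)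
          have h5 : Nat.card (zpowers x') = 5 := by rw [Nat.card_zpowers, hx'5]
          have htop := zpowers_eq_top_of_prime_card h5 (g := (⟨_, hmem⟩ : zpowers x'))
            (fun e1 => hne1 (congrArg Subtype.val e1))
          obtain ⟨n, hn⟩ := (htop ▸ mem_top (⟨x', mem_zpowers x'⟩ : zpowers x') :
            (⟨x', mem_zpowers x'⟩ : zpowers x') ∈ zpowers (⟨_, hmem⟩ : zpowers x'))
          exact ⟨n, congrArg Subtype.val hn⟩
        exact zpowers_le.2 hm hgen
      have := Nat.card_le_card_of_injective f hinj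
      rw [Nat.card_fin, Nat.card_eq_finsetCard] at this
      have hc := (Finset.card_le_three (a := z) (b := D.u) (c := z * D.u))
      omega
    have : 5 ∣ 192 := D.card_K ▸ hx'5 ▸ Subgroup.orderOf_dvd_natCard D.K
      (D.mem_K_of hNK hx'M.1 (commute_of_conj_eq hz))
    norm_num at this
  have h36 : ∀ C : Subgroup (M ⧸ A'), C.Normal → Nat.card C ≠ 36 := by
    intro C hC hC36
    set C' := C.comap π with hC'
    haveI : C'.Normal := hC.comap π
    have hsmall : ∀ m : M, ∀ n : ℕ, 0 < n → Nat.Coprime n 5 → m ^ n = 1 → m ∈ C' := by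
      intro m n hn hco hmn
      show π m ∈ C
      rw [← QuotientGroup.eq_one_iff (N := C), ← orderOf_eq_one_iff]
      have h1 : orderOf (QuotientGroup.mk (π m) : (M ⧸ A') ⧸ C) ∣ n :=
        orderOf_dvd_of_pow_eq_one (by
          rw [← QuotientGroup.mk_pow, ← map_pow, hmn, map_one, QuotientGroup.mk_one])
      have h2 : orderOf (QuotientGroup.mk (π m) : (M ⧸ A') ⧸ C) ∣ 5 := by
        have hidx : Nat.card ((M ⧸ A') ⧸ C) = 5 := by
          have := Subgroup.card_mul_index C
          rw [hC36, hQ, Subgroup.index_eq_card] at this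
          omega
        exact hidx ▸ _root_.orderOf_dvd_natCard _
      exact Nat.eq_one_of_dvd_coprimes hco h1 h2
    have hKC : ∀ k (hk : k ∈ M), k ∈ D.K → (⟨k, hk⟩ : M) ∈ C' := fun k hk hkK =>
      hsmall _ 192 (by norm_num) (by decide) (Subtype.ext (by
        have := (pow_card_eq_one' (x := (⟨k, hkK⟩ : D.K)))
        rw [D.card_K] at this
        simpa using congrArg Subtype.val this))
    have hcardC' : Nat.card C' = 576 := by
      have h1 := Subgroup.index_comap_of_surjective C (f := π) (QuotientGroup.mk'_surjective A')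
      have h2 := Subgroup.card_mul_index C'
      rw [← hC'] at h1
      have h3 := Subgroup.card_mul_index C
      rw [hC36, hQ] at h3
      rw [h1, hcardM] at h2
      have : C.index = 5 := by omega
      rw [this] at h2
      omega
    have hhC : (⟨h, hhM⟩ : M) ∈ C' := by
      set n := orderOf (⟨h, hhM⟩ : M)
      have hh3 : h ^ 3 ∈ D.K := D.mem_K_of hNK (pow_mem hhN 3) (commute_of_conj_eq (by
        rw [show h ^ 3 * z * (h ^ 3)⁻¹ = h * (h * (h * z * h⁻¹) * h⁻¹) * h⁻¹ by
          rw [pow_succ, pow_two]; group, hhz, hhu, hhzu]))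
      refine hsmall _ (3 * 192) (by norm_num) (by decide) (Subtype.ext ?_)
      have := (pow_card_eq_one' (x := (⟨h ^ 3, hh3⟩ : D.K)))
      rw [D.card_K] at this
      have := congrArg Subtype.val this
      simpa [← pow_mul] using this
    -- `C'` fixes `W#`
    have hCW : ∀ c : M, c ∈ C' → (c : G) * z * (c : G)⁻¹ ∈ wSet z D.u := by
      -- three cosets of `K` fill `C'`
      set K'' := ((D.K.subgroupOf M).subgroupOf C')
      have hidx : K''.index = 3 := by
        have := Subgroup.card_mul_index K''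
        have hle : D.K.subgroupOf M ≤ C' := fun k hk => hKC k k.2 hk
        rw [Nat.card_congr (subgroupOfEquivOfLe hle).toEquiv,
          Nat.card_congr (subgroupOfEquivOfLe hKM).toEquiv, D.card_K, hcardC'] at this
        omega
      intro c hc
      let f : Fin 3 → C' ⧸ K'' := fun i => QuotientGroup.mk ((⟨⟨h, hhM⟩, hhC⟩ : C') ^ (i : ℕ))
      have hf : Function.Injective f := by
        intro i j hij
        have hm := QuotientGroup.eq.1 hij
        simp only [K'', mem_subgroupOf, Subgroup.coe_mul, Subgroup.coe_inv, SubmonoidClass.coe_pow] at hm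
        have e := conj_eq_of_commute (mem_cent.1 (D.K_le hm))
        have e2 : h ^ (i : ℕ) * z * (h ^ (i : ℕ))⁻¹ = h ^ (j : ℕ) * z * (h ^ (j : ℕ))⁻¹ := by
          conv_lhs => rw [← e]
          group
        have h2 : h ^ 2 * z * (h ^ 2)⁻¹ = z * D.u := by
          rw [show h ^ 2 * z * (h ^ 2)⁻¹ = h * (h * z * h⁻¹) * h⁻¹ by rw [pow_two]; group, hhz, hhu]
        have d1 : z ≠ D.u := fun e => D.u_ne e.symm
        have d2 : z ≠ z * D.u := fun e => D.u_ne_one (left_eq_mul.1 e)
        have d3 : D.u ≠ z * D.u := fun e => D.z_ne_one (right_eq_mul.1 e)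
        fin_cases i <;> fin_cases j <;> first | rfl |
          (exfalso; simp [h2, hhz] at e2; simp_all)
      have hsurj : Function.Surjective f :=
        ((Nat.bijective_iff_injective_and_card f).2 ⟨hf, by
          rw [Nat.card_fin, ← Subgroup.index_eq_card, hidx]⟩).2
      obtain ⟨i, hi⟩ := hsurj (QuotientGroup.mk ⟨c, hc⟩)
      have hm := QuotientGroup.eq.1 hi
      simp only [K'', mem_subgroupOf, Subgroup.coe_mul, Subgroup.coe_inv, SubmonoidClass.coe_pow] at hm
      have e := conj_eq_of_commute (mem_cent.1 (D.K_le hm))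
      have e2 : (c : G) * z * (c : G)⁻¹ = h ^ (i : ℕ) * z * (h ^ (i : ℕ))⁻¹ := by
        conv_rhs => rw [← e]
        group
      rw [e2]
      fin_cases i
      · simp [wSet]
      · simp [hhz, wSet]
      · simp only [pow_two]
        rw [show h * h * z * (h * h)⁻¹ = h * (h * z * h⁻¹) * h⁻¹ by group, hhz, hhu]
        simp [wSet]
    -- the image block of `W#` under `m₀` is fixed by `U`, one of its points by all of `U`
    set y₀ := m₀ * z * m₀⁻¹ with hy₀
    have hblock : ∀ v ∈ D.U, ∃ w ∈ wSet z D.u, v * y₀ * v⁻¹ = m₀ * w * m₀⁻¹ := by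
      intro v hv
      have hc := (inferInstance : C'.Normal).conj_mem _ (hKC v (hKM (D.U_le hv)) (D.U_le hv))
        (⟨m₀, hm₀⟩ : M)⁻¹
      have := hCW _ hc
      simp only [Subgroup.coe_mul, Subgroup.coe_inv, inv_inv] at this
      exact ⟨_, this, by rw [hy₀]; group⟩
    have hy₀A : y₀ ∈ A := (mem_normalizer_iff.1 hm₀.2 z).1 hzA
    -- the stabiliser of `y₀` in `U` is `A`, of index 4
    let K3 := (D.U ⊓ centralizer ({y₀} : Set G)).subgroupOf D.U
    have hK3 : K3.index = 4 := by
      have := Subgroup.card_mul_index K3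
      have hle : D.U ⊓ centralizer ({y₀} : Set G) = A := by
        refine le_antisymm ?_ (le_inf pA.le fun a ha => ?_)
        · rw [← pA.cent y₀ hy₀A hm₀W]; exact inf_le_inf_right _ D.U_le
        · rw [← pA.cent y₀ hy₀A hm₀W] at ha; exact ha.2
      rw [Nat.card_congr (subgroupOfEquivOfLe inf_le_left).toEquiv, hle, pA.card, D.card_U] at this
      omega
    let g : D.U ⧸ K3 → {w // w ∈ ({z, D.u, z * D.u} : Finset G)} := fun q =>
      ⟨m₀⁻¹ * ((q.out : G) * y₀ * (q.out : G)⁻¹) * m₀, by
        obtain ⟨w, hw, e⟩ := hblock _ q.out.2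
        have e' : m₀⁻¹ * ((q.out : G) * y₀ * (q.out : G)⁻¹) * m₀ = w := by rw [e]; group
        rw [e']
        simp only [Finset.mem_insert, Finset.mem_singleton]
        refine D.eq_zu_of_wSet hw ?_
        rw [← e', show m₀⁻¹ * ((q.out : G) * y₀ * (q.out : G)⁻¹) * m₀ =
          (m₀⁻¹ * q.out * m₀) * z * (m₀⁻¹ * q.out * m₀)⁻¹ by rw [hy₀]; group, orderOf_conj]
        exact D.hz⟩
    have hg : Function.Injective g := by
      intro q q' e
      have e' := mul_left_cancel (mul_right_cancel (congrArg Subtype.val e))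
      rw [← q.out_eq, ← q'.out_eq]
      apply QuotientGroup.eq.2
      rw [mem_subgroupOf]
      refine Subgroup.mem_inf.2 ⟨mul_mem (inv_mem q.out.2) q'.out.2, mem_cent.2 ?_⟩
      simp only [Subgroup.coe_mul, Subgroup.coe_inv]
      calc (q.out : G)⁻¹ * q'.out * y₀
          = (q.out : G)⁻¹ * ((q'.out : G) * y₀ * (q'.out : G)⁻¹) * q'.out := by group
        _ = _ := by rw [← e']; group
    have := Nat.card_le_card_of_injective g hg
    rw [← Subgroup.index_eq_card, hK3, Nat.card_eq_finsetCard] at this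
    have hc := (Finset.card_le_three (a := z) (b := D.u) (c := z * D.u))
    omega
  obtain ⟨d, hd3, hdn, hd10⟩ := exists_scalar (Q := M ⧸ A') hQ h5n h36
  -- lift `d`
  obtain ⟨dm, rfl⟩ := QuotientGroup.mk'_surjective A' d
  have hd3' : (π dm) ^ 3 = 1 := by rw [← hd3]; exact pow_orderOf_eq_one _
  set δ : M := dm ^ 4 with hδdef
  have hπδ : π δ = π dm := by
    rw [hδdef, map_pow, show (4 : ℕ) = 3 + 1 from rfl, pow_succ, hd3', one_mul]
  have hδ12 : δ ^ 3 = 1 := by
    have hc : dm ^ 3 ∈ A' := (QuotientGroup.eq_one_iff (dm ^ 3)).1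
      (by rw [QuotientGroup.mk_pow]; exact hd3')
    have h6 : dm ^ 6 = 1 := by
      rw [show (6 : ℕ) = 3 + 3 from rfl, pow_add]
      exact Subtype.ext (pA.sq _ hc)
    rw [hδdef, ← pow_mul, show 4 * 3 = 6 * 2 from rfl, pow_mul, h6, one_pow]
  have hδord : orderOf δ = 3 := orderOf_eq_prime hδ12 fun e => by
    rw [e, map_one] at hπδ
    rw [show (QuotientGroup.mk' A') dm = π dm from rfl, ← hπδ, orderOf_one] at hd3
    omega
  -- `δ` has no fixed point in `A`
  have hfpf : ∀ a ∈ A, (δ : G) * a * (δ : G)⁻¹ = a → a = 1 := by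
    intro a ha hfix
    by_contra ha1
    have hδA : ∀ b ∈ A, (δ : G) * b * (δ : G)⁻¹ = b := by
      intro b hb
      rcases eq_or_ne b 1 with rfl | hb1
      · simp
      obtain ⟨m, hm, hmz⟩ := htrans a ha ha1
      obtain ⟨m', hm', hm'b⟩ := htrans b hb hb1
      set g : M := ⟨m' * m⁻¹, mul_mem hm' (inv_mem hm)⟩
      have hgb : (g : G) * a * (g : G)⁻¹ = b := by
        show m' * m⁻¹ * a * (m' * m⁻¹)⁻¹ = b
        rw [← hmz, ← hm'b]; group
      obtain ⟨j, hj⟩ := hdn.conj_mem (π dm) (mem_zpowers _) (π g)⁻¹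
      have hj' : (π g)⁻¹ * π dm * (π g)⁻¹⁻¹ = π dm ^ j := hj.symm
      rw [← hπδ, inv_inv, ← map_inv, ← map_mul, ← map_mul, ← map_zpow] at hj'
      have hmem := QuotientGroup.eq.1 hj'.symm
      rw [hA'def, mem_subgroupOf] at hmem
      simp only [Subgroup.coe_mul, Subgroup.coe_inv, SubgroupClass.coe_zpow] at hmem
      set c := ((δ : G) ^ j)⁻¹ * ((g : G)⁻¹ * (δ : G) * g) with hcdef
      have hδj : (δ : G) ^ j * a * ((δ : G) ^ j)⁻¹ = a := by
        have : (δ : G) ∈ centralizer ({a} : Set G) := mem_cent.2 (commute_of_conj_eq hfix)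
        exact conj_eq_of_commute (mem_cent.1 (zpow_mem this j))
      have hca : c * a * c⁻¹ = a := by
        refine conj_eq_of_commute ?_
        have hAcomm : ∀ p ∈ A, ∀ q ∈ A, p * q = q * p := fun p hp q hq => by
          have hi : ∀ r ∈ A, r⁻¹ = r := fun r hr => inv_eq_of_mul_eq_one_right (pA.sq r hr)
          rw [← hi (p * q) (mul_mem hp hq), mul_inv_rev, hi p hp, hi q hq]
        exact hAcomm c hmem a ha
      rw [← hgb]
      calc (δ : G) * ((g : G) * a * (g : G)⁻¹) * (δ : G)⁻¹
          = (g : G) * ((δ : G) ^ j * (c * a * c⁻¹) * ((δ : G) ^ j)⁻¹) * (g : G)⁻¹ := by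
            rw [hcdef]; group
        _ = _ := by rw [hca, hδj]
    have hy' := hδA y hy
    have hδK : (δ : G) ∈ D.K := D.mem_K_of hNK δ.2.1 (commute_of_conj_eq (hδA z hzA))
    have : (δ : G) ∈ A := by
      rw [← pA.cent y hy hyW]
      exact ⟨hδK, mem_cent.2 (commute_of_conj_eq hy')⟩
    have h2 : orderOf (δ : G) ∣ 2 := orderOf_dvd_of_pow_eq_one (by rw [pow_two]; exact pA.sq _ this)
    rw [show orderOf (δ : G) = orderOf δ from orderOf_injective M.subtype M.subtype_injective δ,
      hδord] at h2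
    norm_num at h2
  have hAcomm : ∀ p ∈ A, ∀ q ∈ A, p * q = q * p := fun p hp q hq => by
    have hi : ∀ r ∈ A, r⁻¹ = r := fun r hr => inv_eq_of_mul_eq_one_right (pA.sq r hr)
    rw [← hi (p * q) (mul_mem hp hq), mul_inv_rev, hi p hp, hi q hq]
  -- lift centralising elements
  have hlift : ∀ cb : M ⧸ A', cb * π dm = π dm * cb → ∃ c : M, π c = cb ∧
      (c : G) * δ = (δ : G) * c := by
    intro cb hcb
    obtain ⟨c, rfl⟩ := QuotientGroup.mk'_surjective A' cb
    let f : A → A := fun a => ⟨(a : G) * ((δ : G) * (a : G)⁻¹ * (δ : G)⁻¹),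
      mul_mem a.2 ((mem_normalizer_iff.1 δ.2.2 _).1 (inv_mem a.2))⟩
    have hf : Function.Injective f := by
      intro a b e
      have e' : (a : G) * ((δ : G) * (a : G)⁻¹ * (δ : G)⁻¹) =
          (b : G) * ((δ : G) * (b : G)⁻¹ * (δ : G)⁻¹) := congrArg Subtype.val e
      refine Subtype.ext (inv_mul_eq_one.1 (hfpf _ (mul_mem (inv_mem a.2) b.2) ?_)).symm.symm
      have hA1 : (δ : G) * (a : G)⁻¹ * (δ : G)⁻¹ ∈ A :=
        (mem_normalizer_iff.1 δ.2.2 _).1 (inv_mem a.2)
      calc (δ : G) * ((a : G)⁻¹ * b) * (δ : G)⁻¹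
          = ((δ : G) * (a : G)⁻¹ * (δ : G)⁻¹) * ((δ : G) * (b : G)⁻¹ * (δ : G)⁻¹)⁻¹ := by group
        _ = ((a : G)⁻¹ * ((a : G) * ((δ : G) * (a : G)⁻¹ * (δ : G)⁻¹))) *
              ((δ : G) * (b : G)⁻¹ * (δ : G)⁻¹)⁻¹ := by group
        _ = (a : G)⁻¹ * b := by rw [e']; group
    have hm : c * δ * c⁻¹ * δ⁻¹ ∈ A' := by
      refine (QuotientGroup.eq_one_iff _).1 ?_
      show π (c * δ * c⁻¹ * δ⁻¹) = 1
      rw [map_mul, map_mul, map_mul, map_inv, map_inv, hπδ, mul_inv_eq_one,
        mul_inv_eq_iff_eq_mul]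
      exact hcb
    rw [hA'def, mem_subgroupOf] at hm
    simp only [Subgroup.coe_mul, Subgroup.coe_inv] at hm
    obtain ⟨a, ha⟩ := Finite.injective_iff_surjective.1 hf ⟨_, inv_mem hm⟩
    have ha' : (a : G) * ((δ : G) * (a : G)⁻¹ * (δ : G)⁻¹) =
        ((c : G) * δ * (c : G)⁻¹ * (δ : G)⁻¹)⁻¹ := congrArg Subtype.val ha
    refine ⟨⟨a, hAM a.2⟩ * c, ?_, ?_⟩
    · show π _ = π c
      rw [map_mul, show π ⟨(a : G), hAM a.2⟩ = 1 from (QuotientGroup.eq_one_iff (N := A') _).2 a.2,
        one_mul]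
    · show (a : G) * c * δ = δ * ((a : G) * c)
      set q := (c : G) * δ * (c : G)⁻¹ * (δ : G)⁻¹ with hq
      have hδa : (δ : G) * (a : G) * (δ : G)⁻¹ ∈ A := (mem_normalizer_iff.1 δ.2.2 _).1 a.2
      calc (a : G) * c * δ = ((a : G) * q) * δ * c := by rw [hq]; group
        _ = (q * (a : G)) * δ * c := by rw [hAcomm _ a.2 _ hm]
        _ = (q * ((a : G) * ((δ : G) * (a : G)⁻¹ * (δ : G)⁻¹))) * (δ * a * (δ : G)⁻¹) * δ * c := by
          group
        _ = δ * ((a : G) * c) := by rw [ha', mul_inv_cancel]; group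
  have hdc : ∀ cb : M ⧸ A', cb ∈ centralizer ({π dm} : Set (M ⧸ A')) → cb * π dm = π dm * cb :=
    fun _ h' => mem_cent.1 h'
  refine ⟨δ, δ.2.1, ?_, ?_, ?_⟩
  · rw [← hδord]; exact orderOf_injective M.subtype M.subtype_injective δ
  · obtain ⟨⟨cb, hcb⟩, hord⟩ := exists_prime_orderOf_dvd_card'
      (G := centralizer ({π dm} : Set (M ⧸ A'))) 2 ((by norm_num : 2 ∣ 10).trans hd10)
    obtain ⟨c, hc, hcδ⟩ := hlift cb (hdc cb hcb)
    refine ⟨(c : G) ^ (orderOf (c : G) / 2), pow_mem c.2.1 _, ?_, ((Commute.pow_left hcδ _)).eq⟩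
    refine orderOf_pow_orderOf_div (orderOf_pos (c : G)).ne' ?_
    rw [show orderOf (c : G) = orderOf c from orderOf_injective M.subtype M.subtype_injective c,
      ← hord]
    rw [← orderOf_injective (centralizer ({π dm} : Set (M ⧸ A'))).subtype (subtype_injective _)
      ⟨cb, hcb⟩]
    exact hc ▸ orderOf_map_dvd π c
  · obtain ⟨⟨cb, hcb⟩, hord⟩ := exists_prime_orderOf_dvd_card'
      (G := centralizer ({π dm} : Set (M ⧸ A'))) 5 ((by norm_num : 5 ∣ 10).trans hd10)
    obtain ⟨c, hc, hcδ⟩ := hlift cb (hdc cb hcb)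
    refine ⟨(c : G) ^ (orderOf (c : G) / 5), pow_mem c.2.1 _, ?_, ((Commute.pow_left hcδ _)).eq⟩
    refine orderOf_pow_orderOf_div (orderOf_pos (c : G)).ne' ?_
    rw [show orderOf (c : G) = orderOf c from orderOf_injective M.subtype M.subtype_injective c,
      ← hord]
    rw [← orderOf_injective (centralizer ({π dm} : Set (M ⧸ A'))).subtype (subtype_injective _)
      ⟨cb, hcb⟩]
    exact hc ▸ orderOf_map_dvd π c

end HData

end Cfsg.Agent.PGammaThreeFour
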