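import Cfsg.Agent.PGammaThreeFour.OneClassLocal
import Cfsg.Agent.TwoTransfer.Basic

/-!
# All involutions of `U` are conjugate in `N`: the contradiction from the other case
-/

set_option autoImplicit false

namespace Cfsg.Agent.PGammaThreeFour

open Subgroup
open scoped Pointwise

variable {G : Type*} [Group G] [Finite G] {z : G}

/-- An automorphism of order three of a simple group of order 60 centralizing the normalizer of a
four group is trivial. -/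
theorem oc_rho_trivial (D : HData z) {N A L : Subgroup G} {d : G} (t : OCTwist D N A d)
    (hWL : D.ocW ≤ L) (hdL : d ∈ L) (hcard : Nat.card L = 60) (hsimp : IsSimpleGroup L)
    (hcent : ∀ x ∈ L, ∀ w ∈ D.ocW, w ≠ 1 → x * w = w * x → x ∈ D.ocW)
    (hρL : ∀ x ∈ L, D.ρ * x * D.ρ⁻¹ ∈ L) :
    ∀ x ∈ L, D.ρ * x * D.ρ⁻¹ = x := by
  classical
  haveI : Fact (Nat.Prime 3) := ⟨by norm_num⟩
  haveI := hsimp
  set WL : Subgroup L := D.ocW.subgroupOf L with hWLdef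
  set M : Subgroup L := normalizer (WL : Set L) with hMdef
  have hWLc : Nat.card WL = 4 := by
    rw [hWLdef, Nat.card_congr (subgroupOfEquivOfLe hWL).toEquiv, D.card_ocW]
  let dL : L := ⟨d, hdL⟩
  have hdM : dL ∈ M := by
    refine mem_normalizer_iff.2 fun x => ⟨fun hx => t.conj_ocW hx, fun hx => ?_⟩
    have := t.inv_conj_ocW (w := d * x.1 * d⁻¹) hx
    simpa [WL, mem_subgroupOf, mul_assoc] using this
  have hM : ∀ m ∈ M, m.1 ∈ D.ocW ∨ d⁻¹ * m.1 ∈ D.ocW ∨ d * m.1 ∈ D.ocW := by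
    intro m hm
    have hmz : m.1 * z * m.1⁻¹ ∈ D.ocW :=
      (mem_normalizer_iff.1 hm ⟨z, hWL D.z_mem_ocW⟩).1 D.z_mem_ocW
    have hfix : ∀ e ∈ L, e * z * e⁻¹ = z → e ∈ D.ocW := fun e he hez =>
      hcent e he z D.z_mem_ocW D.z_ne_one (mul_inv_eq_iff_eq_mul.1 hez)
    rcases D.ocW_cases hmz with e | e | e | e
    · exact absurd (conj_eq_one_iff.1 e) D.z_ne_one
    · exact Or.inl (hfix _ m.2 e)
    · refine Or.inr (Or.inl (hfix _ (mul_mem (inv_mem hdL) m.2) ?_))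
      rw [show d⁻¹ * m.1 * z * (d⁻¹ * m.1)⁻¹ = d⁻¹ * (m.1 * z * m.1⁻¹) * d by group, e,
        t.inv_conj_u]
    · refine Or.inr (Or.inr (hfix _ (mul_mem hdL m.2) ?_))
      rw [show d * m.1 * z * (d * m.1)⁻¹ = d * (m.1 * z * m.1⁻¹) * d⁻¹ by group, e, t.conj_zu]
  have hWρ : ∀ w ∈ D.ocW, Commute D.ρ w := fun w hw => D.K_comm_ocW D.ρ_mem hw
  have hdρ : Commute D.ρ d := t.comm.symm
  have hMρ : ∀ m ∈ M, Commute D.ρ m.1 := by
    intro m hm
    rcases hM m hm with h | h | h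
    · exact hWρ _ h
    · have := hdρ.mul_right (hWρ _ h)
      rwa [mul_inv_cancel_left] at this
    · have := hdρ.inv_right.mul_right (hWρ _ h)
      rwa [inv_mul_cancel_left] at this
  have hdW : d ∉ D.ocW := fun h => by
    have h2 := orderOf_dvd_of_pow_eq_one (x := d) (n := 2) (by rw [pow_two]; exact D.ocW_sq h)
    rw [t.order] at h2
    norm_num at h2
  have hinvM : ∀ m ∈ M, m.1 * m.1 = 1 → m.1 ∈ D.ocW := by
    intro m hm hm2
    rcases hM m hm with h | h | h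
    · exact h
    · exfalso
      apply hdW
      have hd2 : d * d ∈ D.ocW := by
        have h' := mul_mem (inv_mem (t.conj_ocW h)) (inv_mem h)
        have e : (d * (d⁻¹ * m.1) * d⁻¹)⁻¹ * (d⁻¹ * m.1)⁻¹ = d * (m.1 * m.1)⁻¹ * d := by group
        rw [e, hm2, inv_one, mul_one] at h'
        exact h'
      have := inv_mem hd2
      rwa [← t.inv_eq, inv_inv] at this
    · exfalso
      apply hdW
      have hd2 : d⁻¹ * d⁻¹ ∈ D.ocW := by
        have h' := mul_mem (inv_mem (t.inv_conj_ocW h)) (inv_mem h)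
        have e : (d⁻¹ * (d * m.1) * d)⁻¹ * (d * m.1)⁻¹ = d⁻¹ * (m.1 * m.1)⁻¹ * d⁻¹ := by group
        rw [e, hm2, inv_one, mul_one] at h'
        exact h'
      rwa [t.inv_eq, show d * d * (d * d) = (d * d * d) * d by group, t.pow3, one_mul] at hd2
  have hMcard : Nat.card M = 12 := by
    have h4 : 4 ∣ Nat.card M := hWLc ▸ card_dvd_of_le le_normalizer
    have h3 : 3 ∣ Nat.card M := by
      have h := M.orderOf_dvd_natCard hdM
      rwa [show orderOf dL = 3 from (Subgroup.orderOf_mk d hdL).trans t.order] at h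
    have hle : Nat.card M ≤ 12 := by
      let F : Fin 3 × WL → L := fun p => (![1, dL, dL⁻¹] : Fin 3 → L) p.1 * p.2.1
      have hsub : ∀ m ∈ M, ∃ p, F p = m := by
        intro m hm
        rcases hM m hm with h | h | h
        · exact ⟨(0, ⟨m, h⟩), by simp [F]⟩
        · exact ⟨(1, ⟨dL⁻¹ * m, h⟩), by simp [F]⟩
        · exact ⟨(2, ⟨dL * m, h⟩), by simp [F]⟩
      choose g hg using hsub
      have hinj : Function.Injective (fun m : M => g m.1 m.2) := fun a b hab => Subtype.ext (by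
        have := congrArg F hab
        simpa [hg] using this)
      simpa [hWLc] using Nat.card_le_card_of_injective _ hinj
    have h12 : 12 ∣ Nat.card M := by
      have := Nat.Coprime.mul_dvd_of_dvd_of_dvd (by norm_num : Nat.Coprime 4 3) h4 h3
      exact this
    have hpos : 0 < Nat.card M := Nat.card_pos
    exact le_antisymm hle (Nat.le_of_dvd hpos h12)
  have hidx : M.index = 5 := by
    have := M.card_mul_index
    rw [hMcard, hcard] at this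
    omega
  let cj : L → L := fun x => ⟨D.ρ * x.1 * D.ρ⁻¹, hρL x.1 x.2⟩
  have hcjmul : ∀ a b, cj (a * b) = cj a * cj b := fun a b => by
    ext; simp only [cj, coe_mul]; group
  have hcjM : ∀ m ∈ M, cj m = m := fun m hm => Subtype.ext (by
    change D.ρ * m.1 * D.ρ⁻¹ = m.1
    rw [(hMρ m hm).eq, mul_inv_cancel_right])
  have hwd : ∀ a b : L, (a : L ⧸ M) = b → ((cj a : L) : L ⧸ M) = cj b := by
    intro a b hab
    have hm := QuotientGroup.eq.1 hab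
    have e : cj b = cj a * (a⁻¹ * b) := by
      rw [← hcjM _ hm, ← hcjmul, mul_inv_cancel_left]
    rw [e, eq_comm, QuotientGroup.eq]
    simpa using inv_mem hm
  let f : L ⧸ M → L ⧸ M := Quotient.lift (fun a : L => ((cj a : L) : L ⧸ M))
    fun a b h => hwd a b (Quotient.sound h)
  have hfmk : ∀ a : L, f (a : L ⧸ M) = ((cj a : L) : L ⧸ M) := fun a => rfl
  have hρ3 : D.ρ * D.ρ * D.ρ = 1 := by
    have := pow_orderOf_eq_one D.ρ
    rwa [D.ρ_order, pow_succ, pow_two] at this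
  have hf3 : ∀ c, f (f (f c)) = c := by
    intro c
    obtain ⟨a, rfl⟩ := QuotientGroup.mk_surjective c
    rw [hfmk, hfmk, hfmk]
    congr 1
    ext
    change D.ρ * (D.ρ * (D.ρ * a.1 * D.ρ⁻¹) * D.ρ⁻¹) * D.ρ⁻¹ = a.1
    rw [show D.ρ * (D.ρ * (D.ρ * a.1 * D.ρ⁻¹) * D.ρ⁻¹) * D.ρ⁻¹ =
      (D.ρ * D.ρ * D.ρ) * a.1 * (D.ρ * D.ρ * D.ρ)⁻¹ by group, hρ3]
    group
  set base : L ⧸ M := ((1 : L) : L ⧸ M) with hbase
  have hfb : f base = base := by rw [hbase, hfmk, hcjM 1 (one_mem _)]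
  let σ : Equiv.Perm {c : L ⧸ M // c ≠ base} :=
    { toFun := fun c => ⟨f c.1, fun h => c.2 (by rw [← hf3 c.1, h, hfb, hfb])⟩
      invFun := fun c => ⟨f (f c.1), fun h => c.2 (by rw [← hf3 c.1, h, hfb])⟩
      left_inv := fun c => Subtype.ext (hf3 c.1)
      right_inv := fun c => Subtype.ext (hf3 c.1) }
  haveI : Fintype {c : L ⧸ M // c ≠ base} := Fintype.ofFinite _
  have hc4 : Nat.card {c : L ⧸ M // c ≠ base} = 4 := by
    haveI : Fintype (L ⧸ M) := Fintype.ofFinite _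
    rw [Nat.card_eq_fintype_card, Fintype.card_subtype_compl, Fintype.card_subtype_eq,
      ← Nat.card_eq_fintype_card, ← index_eq_card, hidx]
  obtain ⟨⟨c0, hc0⟩, hfix0⟩ := Equiv.Perm.exists_fixed_point_of_prime (p := 3) (n := 1)
    (σ := σ) (by rw [← Nat.card_eq_fintype_card, hc4]; norm_num) (by
      ext c : 1
      simp only [pow_one, pow_succ, pow_zero, one_mul, Equiv.Perm.mul_apply, Equiv.Perm.one_apply]
      exact Subtype.ext (hf3 c.1))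
  replace hfix0 : f c0 = c0 := congrArg Subtype.val hfix0
  obtain ⟨g0, rfl⟩ := QuotientGroup.mk_surjective c0
  have hg0 : g0 ∉ M := fun h => hc0 (by
    rw [hbase, QuotientGroup.eq]; simpa using inv_mem h)
  have hkey : ∀ a ∈ D.ocW, a ≠ 1 → ∃ k : L, k ∈ M ∧ k.1 * z * k.1⁻¹ = a := by
    intro a ha ha1
    rcases D.ocW_cases ha with rfl | rfl | rfl | rfl
    · exact absurd rfl ha1
    · exact ⟨1, one_mem _, by simp⟩
    · exact ⟨dL, hdM, t.conj_z⟩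
    · refine ⟨dL * dL, mul_mem hdM hdM, ?_⟩
      rw [← t.conj_u, ← t.conj_z]
      simp [dL, mul_assoc]
  have hfree : ∀ w : WL, ((w.1 * g0 : L) : L ⧸ M) = (g0 : L ⧸ M) → w = 1 := by
    intro w hw
    by_contra hw1
    have hw0 : w.1.1 ≠ 1 := fun h => hw1 (Subtype.ext (Subtype.ext h))
    have hm : g0⁻¹ * w.1 * g0 ∈ M := by
      have := QuotientGroup.eq.1 hw.symm
      rwa [← mul_assoc] at this
    have hmW : (g0⁻¹ * w.1 * g0 : L).1 ∈ D.ocW := hinvM _ hm (by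
      have hsq : w.1.1 * w.1.1 = 1 := D.ocW_sq w.2
      change g0.1⁻¹ * w.1.1 * g0.1 * (g0.1⁻¹ * w.1.1 * g0.1) = 1
      rw [show g0.1⁻¹ * w.1.1 * g0.1 * (g0.1⁻¹ * w.1.1 * g0.1) =
        g0.1⁻¹ * (w.1.1 * w.1.1) * g0.1 by group, hsq]
      group)
    have hm1 : (g0⁻¹ * w.1 * g0 : L).1 ≠ 1 := fun h => hw0 (by
      have h' : g0.1⁻¹ * w.1.1 * g0.1 = 1 := h
      calc w.1.1 = g0.1 * (g0.1⁻¹ * w.1.1 * g0.1) * g0.1⁻¹ := by group
        _ = 1 := by rw [h']; group)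
    obtain ⟨k, hk, hke⟩ := hkey _ w.2 hw0
    obtain ⟨k', hk', hke'⟩ := hkey _ hmW hm1
    have hke0 : k.1 * z * k.1⁻¹ = w.1.1 := hke
    apply hg0
    have hcm : (g0 * (k' * k⁻¹)).1 ∈ D.ocW := by
      refine hcent _ (g0 * (k' * k⁻¹)).2 _ w.2 hw0 ?_
      rw [← mul_inv_eq_iff_eq_mul]
      have hke'' : k'.1 * z * k'.1⁻¹ = g0.1⁻¹ * w.1.1 * g0.1 := hke'
      change g0.1 * (k'.1 * k.1⁻¹) * w.1.1 * (g0.1 * (k'.1 * k.1⁻¹))⁻¹ = w.1.1
      calc g0.1 * (k'.1 * k.1⁻¹) * w.1.1 * (g0.1 * (k'.1 * k.1⁻¹))⁻¹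
          = g0.1 * (k'.1 * (k.1⁻¹ * w.1.1 * k.1) * k'.1⁻¹) * g0.1⁻¹ := by group
        _ = g0.1 * (k'.1 * z * k'.1⁻¹) * g0.1⁻¹ := by rw [← hke0]; group
        _ = w.1.1 := by rw [hke'']; group
    have hgM : g0 * (k' * k⁻¹) ∈ M := le_normalizer hcm
    simpa [mul_assoc] using mul_mem hgM (inv_mem (mul_mem hk' (inv_mem hk)))
  let orb : WL → {c : L ⧸ M // c ≠ base} := fun w => ⟨((w.1 * g0 : L) : L ⧸ M), fun h => hg0 (by
    rw [hbase, eq_comm, QuotientGroup.eq, inv_one, one_mul] at h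
    simpa using mul_mem (inv_mem (le_normalizer w.2 : w.1 ∈ M)) h)⟩
  have horb : Function.Bijective orb := by
    refine (Nat.bijective_iff_injective_and_card _).2 ⟨fun a b h => ?_, by rw [hWLc, hc4]⟩
    have h' : ((a.1 * g0 : L) : L ⧸ M) = ((b.1 * g0 : L) : L ⧸ M) := congrArg Subtype.val h
    refine mul_inv_eq_one.1 (hfree (a * b⁻¹) ?_)
    have hm := QuotientGroup.eq.1 h'.symm
    rw [QuotientGroup.eq]
    have e : ((a * b⁻¹ : WL).1 * g0)⁻¹ * g0 = ((b.1 * g0)⁻¹ * (a.1 * g0))⁻¹ := by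
      have hab : a.1 * b.1⁻¹ = b.1⁻¹ * a.1 :=
        Subtype.ext (D.ocW_comm a.2 (D.ocW_le_U (inv_mem b.2)))
      rw [coe_mul, coe_inv, hab]
      group
    rw [e]
    exact inv_mem hm
  have hall : ∀ g : L, ((cj g : L) : L ⧸ M) = (g : L ⧸ M) := by
    intro g
    by_cases hg : (g : L ⧸ M) = base
    · have := hwd g 1 hg
      rw [hcjM 1 (one_mem _)] at this
      rw [this, hg]
    · obtain ⟨w, hw⟩ := horb.2 ⟨_, hg⟩
      have hw' : ((w.1 * g0 : L) : L ⧸ M) = (g : L ⧸ M) := congrArg Subtype.val hw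
      rw [← hwd _ _ hw', ← hw', hcjmul, hcjM _ (le_normalizer w.2)]
      rw [QuotientGroup.eq]
      have h0 := QuotientGroup.eq.1 ((hfmk g0).symm.trans hfix0)
      simpa [mul_assoc] using h0
  intro x hx
  let e : L := (⟨x, hx⟩ : L)⁻¹ * cj ⟨x, hx⟩
  have he : e ∈ M.normalCore := by
    intro g
    have h1 := QuotientGroup.eq.1 (hall (g⁻¹))
    have h2 := QuotientGroup.eq.1 (hall (⟨x, hx⟩ * g⁻¹))
    rw [hcjmul] at h2
    have h3 := mul_mem (inv_mem h2) (h1)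
    have e' : ((cj ⟨x, hx⟩ * cj g⁻¹)⁻¹ * (⟨x, hx⟩ * g⁻¹))⁻¹ * ((cj g⁻¹)⁻¹ * g⁻¹) =
        g * e * g⁻¹ := by
      simp only [e]; group
    rwa [e'] at h3
  have hcore : M.normalCore = ⊥ :=
    (M.normalCore_normal.eq_bot_or_eq_top).resolve_right fun h => by
      have := card_le_of_le (normalCore_le M)
      rw [h, card_top, hcard, hMcard] at this
      omega
  rw [hcore, mem_bot, inv_mul_eq_one] at he
  exact (congrArg Subtype.val he).symm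

namespace HData

variable (D : HData z)

/-- `C_K(ρ) = W⟨ρ⟩`. -/
theorem oc_cent_rho {k : G} (hk : k ∈ D.K) (hc : k * D.ρ = D.ρ * k) :
    ∃ n : ℤ, (D.ρ ^ n)⁻¹ * k ∈ D.ocW := by
  haveI : Fact (Nat.Prime 3) := ⟨by norm_num⟩
  haveI := normal_subgroupOf_of_le_normalizer D.U_le_normalizer
  have hρU : D.ρ ∉ D.U := by
    intro h
    have := Subgroup.orderOf_dvd_natCard D.U h
    rw [D.ρ_order, D.card_U] at this
    norm_num at this
  set U' := D.U.subgroupOf D.K with hU'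
  have h3 : Nat.card (D.K ⧸ U') = 3 := D.index_U
  have hne : ((⟨D.ρ, D.ρ_mem⟩ : D.K) : D.K ⧸ U') ≠ 1 := fun h => hρU
    ((QuotientGroup.eq_one_iff (N := U') (⟨D.ρ, D.ρ_mem⟩ : D.K)).1 h)
  obtain ⟨n, hn⟩ : ((⟨k, hk⟩ : D.K) : D.K ⧸ U') ∈
      zpowers ((⟨D.ρ, D.ρ_mem⟩ : D.K) : D.K ⧸ U') := by
    rw [zpowers_eq_top_of_prime_card h3 hne]; exact mem_top _
  refine ⟨n, ?_⟩
  have hU : (D.ρ ^ n)⁻¹ * k ∈ D.U := by
    have hn' : (((⟨D.ρ, D.ρ_mem⟩ : D.K) ^ n : D.K) : D.K ⧸ U') = ((⟨k, hk⟩ : D.K) : D.K ⧸ U') := hn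
    have hm := (QuotientGroup.eq (s := U')).1 hn'
    simpa [U', mem_subgroupOf] using hm
  rw [D.mem_ocW]
  refine D.ρ_free _ hU ?_
  have hcc : Commute D.ρ ((D.ρ ^ n)⁻¹ * k) :=
    ((Commute.refl D.ρ).zpow_right n).inv_right.mul_right hc.symm
  rw [hcc.eq, mul_inv_cancel_right, mul_inv_cancel]
  exact Or.inl rfl

/-- Elements of `H` permute `W`. -/
theorem oc_conj_ocW {c w : G} (hc : c ∈ centralizer ({z} : Set G)) (hw : w ∈ D.ocW) :
    c * w * c⁻¹ ∈ D.ocW := by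
  have hcz : c * z * c⁻¹ = z := mul_inv_eq_iff_eq_mul.2 (mem_cent.1 hc)
  rcases D.ocW_cases hw with rfl | rfl | rfl | rfl
  · simp
  · rw [hcz]; exact D.z_mem_ocW
  · rcases D.u_conj c hc with e | e <;> rw [e]
    exacts [D.u_mem_ocW, mul_mem D.z_mem_ocW D.u_mem_ocW]
  · rw [show c * (z * D.u) * c⁻¹ = (c * z * c⁻¹) * (c * D.u * c⁻¹) by group, hcz]
    refine mul_mem D.z_mem_ocW ?_
    rcases D.u_conj c hc with e | e <;> rw [e]
    exacts [D.u_mem_ocW, mul_mem D.z_mem_ocW D.u_mem_ocW]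

end HData

/-- The two possibilities at a piece. -/
theorem oc_piece (D : HData z) {N : Subgroup G} [N.Normal]
    (hNK : N ⊓ centralizer {z} = D.K)
    (hnone : ∀ y ∈ D.U, orderOf y = 2 → ∀ g ∈ N, g * z * g⁻¹ = y → y ∈ D.ocW)
    {A : Subgroup G} (hp : Piece z D.u D.U D.K A) {d : G} (t : OCTwist D N A d)
    {v : G} (hv : v ∈ A) (hvW : v ∉ D.ocW) (hdv : d * v = v * d) :
    (∀ x ∈ N, orderOf x = 2 → x * v = v * x → x ∈ D.U) ∨
    ∃ L : Subgroup G, L ≤ N ∧ Nat.card L = 60 ∧ IsSimpleGroup L ∧ D.ocW ≤ L ∧ d ∈ L ∧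
      (∀ x ∈ L, x * v = v * x) ∧ ∀ x ∈ L, x * D.ρ = D.ρ * x := by
  obtain ⟨hcen, L, hLN, hLv, hLn, hWL, hdL, hLcent, hdecomp, hcases⟩ :=
    oc_local D hNK hnone hp t hv hvW hdv
  have hWA : D.ocW ≤ A := fun w hw => hp.w_mem (D.mem_ocW.1 hw)
  rcases hcases with ⟨h12, hn⟩ | ⟨h60, hsimp⟩
  · left
    intro x hx hx2 hxv
    obtain ⟨v', hv', hdv', hl⟩ := hdecomp x hx hxv
    have hxx := mul_self_of_orderOf_two hx2
    have hc : Commute x v' := hcen v' hv' hdv' x hx hxv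
    set l := x * v'⁻¹ with hldef
    have hl2 : l * l = 1 := by
      rw [hldef, show x * v'⁻¹ * (x * v'⁻¹) = x * (v'⁻¹ * x) * v'⁻¹ by group, ← hc.inv_right.eq,
        show x * (x * v'⁻¹) * v'⁻¹ = (x * x) * (v' * v')⁻¹ by group, hxx, hp.sq v' hv']
      simp
    haveI : (D.ocW.subgroupOf L).Normal := ⟨fun n hn' g => hn g.1 g.2 n.1 hn'⟩
    have hi : (D.ocW.subgroupOf L).index = 3 := by
      have := (D.ocW.subgroupOf L).card_mul_index
      rw [Nat.card_congr (subgroupOfEquivOfLe hWL).toEquiv, D.card_ocW, h12] at this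
      omega
    have h3 := (D.ocW.subgroupOf L).pow_index_mem ⟨l, hl⟩
    rw [hi, mem_subgroupOf] at h3
    have h3' : l * l * l ∈ D.ocW := by simpa [pow_succ] using h3
    rw [hl2, one_mul] at h3'
    have : x = l * v' := by rw [hldef, inv_mul_cancel_right]
    rw [this]
    exact hp.le (mul_mem (hWA h3') hv')
  · right
    refine ⟨L, hLN, h60, hsimp, hWL, hdL, hLv, ?_⟩
    have hρK : D.ρ ∈ D.K := D.ρ_mem
    have hρA : ∀ a ∈ A, D.ρ * a * D.ρ⁻¹ ∈ A := fun a ha => conj_mem_of_normal hp.normal hρK ha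
    set v' := D.ρ * v * D.ρ⁻¹ with hv'def
    have hv' : v' ∈ A := hρA v hv
    have hdρ : Commute d D.ρ := t.comm
    have hdv' : d * v' = v' * d :=
      ((hdρ.mul_right hdv).mul_right hdρ.inv_right).eq
    have hv'W : v' ∉ D.ocW := by
      intro h
      apply hvW
      have e : v = D.ρ⁻¹ * v' * D.ρ := by rw [hv'def]; group
      rw [e, mul_assoc, ← D.K_comm_ocW hρK h, inv_mul_cancel_left]
      exact h
    obtain ⟨hcen', -⟩ := oc_local D hNK hnone hp t hv' hv'W hdv'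
    have hXρ : ∀ x ∈ N, x * v = v * x → (D.ρ⁻¹ * x * D.ρ) * v = v * (D.ρ⁻¹ * x * D.ρ) := by
      intro x hx hxv
      have h := hcen v' hv' hdv' x hx hxv
      calc D.ρ⁻¹ * x * D.ρ * v = D.ρ⁻¹ * (x * v') * D.ρ := by rw [hv'def]; group
        _ = D.ρ⁻¹ * (v' * x) * D.ρ := by rw [h]
        _ = v * (D.ρ⁻¹ * x * D.ρ) := by rw [hv'def]; group
    set L' : Subgroup G := L.map (MulAut.conj D.ρ).toMonoidHom with hL'
    have hn' : (L'.subgroupOf L).Normal := by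
      refine ⟨fun m hm g => ?_⟩
      obtain ⟨l, hl, hle⟩ := hm
      have hle' : D.ρ * l * D.ρ⁻¹ = m.1 := hle
      refine ⟨(D.ρ⁻¹ * g.1 * D.ρ) * l * (D.ρ⁻¹ * g.1 * D.ρ)⁻¹, hLn _ ?_ ?_ l hl, ?_⟩
      · simpa using Subgroup.Normal.conj_mem ‹N.Normal› g.1 (hLN g.2) D.ρ⁻¹
      · exact hXρ g.1 (hLN g.2) (hLv g.1 g.2)
      · change D.ρ * ((D.ρ⁻¹ * g.1 * D.ρ) * l * (D.ρ⁻¹ * g.1 * D.ρ)⁻¹) * D.ρ⁻¹ = (g * m * g⁻¹).1
        rw [coe_mul, coe_mul, coe_inv, ← hle']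
        group
    have hne : L'.subgroupOf L ≠ ⊥ := by
      intro h
      have hz : (⟨z, hWL D.z_mem_ocW⟩ : L) ∈ L'.subgroupOf L := by
        refine ⟨z, hWL D.z_mem_ocW, ?_⟩
        change D.ρ * z * D.ρ⁻¹ = z
        rw [D.K_comm_ocW hρK D.z_mem_ocW, mul_inv_cancel_right]
      rw [h, mem_bot] at hz
      exact D.z_ne_one (congrArg Subtype.val hz)
    have htop := (hn'.eq_bot_or_eq_top).resolve_left hne
    have hLL : L' = L := by
      refine (eq_of_le_of_card_ge (subgroupOf_eq_top.1 htop) ?_).symm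
      exact (Nat.card_congr (L.equivMapOfInjective _ (MulAut.conj D.ρ).injective).toEquiv).ge
    have hρL : ∀ x ∈ L, D.ρ * x * D.ρ⁻¹ ∈ L := fun x hx => hLL ▸ ⟨x, hx, rfl⟩
    intro x hx
    exact (mul_inv_eq_iff_eq_mul.1 (oc_rho_trivial D t hWL hdL h60 hsimp hLcent hρL x hx)).symm

/-- `C_N(ρ)`. -/
def ocC (D : HData z) (N : Subgroup G) : Subgroup G := N ⊓ centralizer {D.ρ}

/-- The powers of `ρ` in `C_N(ρ)`. -/
def ocR (D : HData z) (N : Subgroup G) : Subgroup (ocC D N) := (zpowers D.ρ).subgroupOf (ocC D N)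

instance ocR_normal (D : HData z) (N : Subgroup G) : (ocR D N).Normal :=
  ⟨fun x hx g => by
    obtain ⟨i, hi⟩ := hx
    have hi' : D.ρ ^ i = x.1 := hi
    refine ⟨i, ?_⟩
    change D.ρ ^ i = g.1 * x.1 * g.1⁻¹
    rw [← hi', ((show Commute g.1 D.ρ from mem_cent.1 g.2.2).zpow_right i).eq, mul_inv_cancel_right]⟩

/-- `C_N(ρ) / ⟨ρ⟩` has a self-centralizing four group. -/
theorem oc_rho_quotient (D : HData z) {N A : Subgroup G} (hNK : N ⊓ centralizer {z} = D.K)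
    {d : G} (t : OCTwist D N A d)
    (hcentK : ∀ w ∈ D.ocW, w ≠ 1 → ∀ x ∈ N, x * w = w * x → x ∈ D.K) :
    ∃ Wb : Subgroup (ocC D N ⧸ ocR D N), Nat.card Wb = 4 ∧ (∀ q ∈ Wb, q * q = 1) ∧
      (∀ q ∈ Wb, q ≠ 1 → centralizer ({q} : Set (ocC D N ⧸ ocR D N)) ≤ Wb) ∧
      (∀ q ∈ Wb, q ≠ 1 → ∀ q' ∈ Wb, q' ≠ 1 →
        ∃ k ∈ normalizer (Wb : Set (ocC D N ⧸ ocR D N)), k * q * k⁻¹ = q') ∧
      ((Nat.card (ocC D N ⧸ ocR D N) = 12 ∧ Wb.Normal) ∨
        (Nat.card (ocC D N ⧸ ocR D N) = 60 ∧ IsSimpleGroup (ocC D N ⧸ ocR D N))) ∧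
      ∀ hzC : z ∈ ocC D N, QuotientGroup.mk' (ocR D N) ⟨z, hzC⟩ ∈ Wb := by
  classical
  set C : Subgroup G := ocC D N with hCdef
  have hρN : D.ρ ∈ N := (hNK ▸ inf_le_left : D.K ≤ N) D.ρ_mem
  have hρC : D.ρ ∈ C := Subgroup.mem_inf.2 ⟨hρN, mem_cent.2 rfl⟩
  set R : Subgroup C := ocR D N with hR
  have hinjW : ∀ a b : C, a.1 ∈ D.ocW → b.1 ∈ D.ocW → QuotientGroup.mk' R a = QuotientGroup.mk' R b →
      a = b := by
    intro a b ha hb he
    obtain ⟨i, hi⟩ := QuotientGroup.eq.1 he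
    have hi' : D.ρ ^ i = a.1⁻¹ * b.1 := hi
    have h2 : D.ρ ^ i * D.ρ ^ i = 1 := by rw [hi']; exact D.ocW_sq (mul_mem (inv_mem ha) hb)
    have h3 : D.ρ ^ i * D.ρ ^ i * D.ρ ^ i = 1 := by
      rw [← zpow_add, ← zpow_add, show i + i + i = ((3 : ℕ) : ℤ) * i by push_cast; ring,
        zpow_mul, zpow_natCast, ← D.ρ_order, pow_orderOf_eq_one, one_zpow]
    rw [h2, one_mul] at h3
    rw [hi'] at h3
    exact Subtype.ext (inv_mul_eq_one.1 h3)
  set π := QuotientGroup.mk' R with hπ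
  set WC : Subgroup C := D.ocW.subgroupOf C with hWCdef
  set Wb : Subgroup (C ⧸ R) := WC.map π with hWb
  have hWC : D.ocW ≤ C := fun w hw => Subgroup.mem_inf.2
    ⟨(hNK ▸ inf_le_left : D.K ≤ N) (D.U_le (D.ocW_le_U hw)),
      mem_cent.2 (D.K_comm_ocW D.ρ_mem hw).symm⟩
  have hWbcard : Nat.card Wb = 4 := by
    rw [← D.card_ocW, ← Nat.card_congr (subgroupOfEquivOfLe hWC).toEquiv]
    refine (Nat.card_eq_of_bijective (fun w : WC => (⟨π w.1, ⟨w.1, w.2, rfl⟩⟩ : Wb)) ⟨?_, ?_⟩).symm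
    · intro a b h
      exact Subtype.ext (hinjW _ _ a.2 b.2 (congrArg Subtype.val h))
    · rintro ⟨_, w, hw, rfl⟩
      exact ⟨⟨w, hw⟩, rfl⟩
  have hdC : d ∈ C := Subgroup.mem_inf.2 ⟨t.mem, mem_cent.2 t.comm⟩
  have hdn : π ⟨d, hdC⟩ ∈ normalizer (Wb : Set (C ⧸ R)) := by
    refine mem_normalizer_iff.2 fun q => ⟨?_, fun hq => ?_⟩
    · rintro ⟨w, hw, rfl⟩
      refine ⟨⟨d, hdC⟩ * w * (⟨d, hdC⟩ : C)⁻¹, t.conj_ocW hw, ?_⟩
      simp
    · obtain ⟨w, hw, he⟩ := hq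
      refine ⟨(⟨d, hdC⟩ : C)⁻¹ * w * ⟨d, hdC⟩, t.inv_conj_ocW hw, ?_⟩
      simp [he, mul_assoc]
  have hkey : ∀ q ∈ Wb, q ≠ 1 → ∃ k ∈ normalizer (Wb : Set (C ⧸ R)),
      k * π ⟨z, hWC D.z_mem_ocW⟩ * k⁻¹ = q := by
    rintro _ ⟨w, hw, rfl⟩ hq
    rcases D.ocW_cases hw with e | e | e | e
    · exact absurd (by rw [show w = 1 from Subtype.ext e, map_one]) hq
    · exact ⟨1, one_mem _, by rw [one_mul, inv_one, mul_one]; exact congrArg π (Subtype.ext e.symm)⟩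
    · refine ⟨π ⟨d, hdC⟩, hdn, ?_⟩
      rw [← map_inv, ← map_mul, ← map_mul]
      exact congrArg π (Subtype.ext (t.conj_z.trans e.symm))
    · refine ⟨π ⟨d, hdC⟩ * π ⟨d, hdC⟩, mul_mem hdn hdn, ?_⟩
      rw [← map_mul, ← map_inv, ← map_mul, ← map_mul]
      refine congrArg π (Subtype.ext ?_)
      change d * d * z * (d * d)⁻¹ = w.1
      have e' : w.1 = z * D.u := e
      rw [e', ← t.conj_u, ← t.conj_z]
      group
  suffices hh : (∀ q ∈ Wb, q * q = 1) ∧ (∀ q ∈ Wb, q ≠ 1 → centralizer ({q} : Set (C ⧸ R)) ≤ Wb) ∧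
      (∀ q ∈ Wb, q ≠ 1 → ∀ q' ∈ Wb, q' ≠ 1 → ∃ k ∈ normalizer (Wb : Set (C ⧸ R)), k * q * k⁻¹ = q') by
    exact ⟨Wb, hWbcard, hh.1, hh.2.1, hh.2.2, four_self_cent Wb hWbcard hh.1 hh.2.1 hh.2.2,
      fun hzC => ⟨⟨z, hzC⟩, D.z_mem_ocW, rfl⟩⟩
  refine ⟨?_, ?_, ?_⟩
  · rintro _ ⟨w, hw, rfl⟩
    rw [← map_mul, show w * w = 1 from Subtype.ext (D.ocW_sq hw), map_one]
  · rintro _ ⟨w, hw, rfl⟩ hw1 q hq
    obtain ⟨x, rfl⟩ := QuotientGroup.mk_surjective q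
    have hww : w.1 * w.1 = 1 := D.ocW_sq hw
    have hw0 : w.1 ≠ 1 := fun h => hw1 (by rw [show w = 1 from Subtype.ext h, map_one])
    have he : π (x * w) = π (w * x) := by
      rw [map_mul, map_mul]; exact mem_centralizer_singleton_iff.1 hq
    have hr := QuotientGroup.eq.1 he
    -- the discrepancy is a power of `ρ` of square one
    obtain ⟨i, hi⟩ := hr
    have hi' : D.ρ ^ i = (x.1 * w.1)⁻¹ * (w.1 * x.1) := by
      simpa using hi
    have hρc : Commute D.ρ w.1 := D.K_comm_ocW D.ρ_mem hw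
    have hwx : x.1⁻¹ * w.1 * x.1 = w.1 * D.ρ ^ i := by
      rw [hi']; group
    have hsq : (x.1⁻¹ * w.1 * x.1) * (x.1⁻¹ * w.1 * x.1) = 1 := by
      rw [show x.1⁻¹ * w.1 * x.1 * (x.1⁻¹ * w.1 * x.1) = x.1⁻¹ * (w.1 * w.1) * x.1 by group,
        hww]
      group
    rw [hwx, show w.1 * D.ρ ^ i * (w.1 * D.ρ ^ i) = w.1 * (D.ρ ^ i * w.1) * D.ρ ^ i by group,
      (hρc.zpow_left i).eq, ← mul_assoc, hww, one_mul] at hsq
    have h3 : D.ρ ^ i * D.ρ ^ i * D.ρ ^ i = 1 := by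
      rw [← zpow_add, ← zpow_add, show i + i + i = ((3 : ℕ) : ℤ) * i by push_cast; ring,
        zpow_mul, zpow_natCast, ← D.ρ_order, pow_orderOf_eq_one, one_zpow]
    rw [hsq, one_mul] at h3
    rw [h3, mul_one] at hwx
    have hxw : x.1 * w.1 = w.1 * x.1 := by
      calc x.1 * w.1 = x.1 * (x.1⁻¹ * w.1 * x.1) := by rw [hwx]
        _ = w.1 * x.1 := by group
    obtain ⟨n, hn⟩ := D.oc_cent_rho (hcentK w.1 hw hw0 x.1 x.2.1 hxw) (mem_cent.1 x.2.2)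
    refine ⟨(⟨D.ρ, hρC⟩ : C) ^ (-n) * x, ?_, ?_⟩
    · change ((⟨D.ρ, hρC⟩ : C) ^ (-n)).1 * x.1 ∈ D.ocW
      rw [coe_zpow, zpow_neg]
      exact hn
    · refine QuotientGroup.eq.2 ⟨n, ?_⟩
      have hc : Commute x.1 D.ρ := mem_cent.1 x.2.2
      change D.ρ ^ n = (((⟨D.ρ, hρC⟩ : C) ^ (-n)).1 * x.1)⁻¹ * x.1
      rw [coe_zpow, mul_inv_rev, ← zpow_neg, neg_neg, mul_assoc]
      change D.ρ ^ n = x.1⁻¹ * (D.ρ ^ n * x.1)
      rw [← (hc.zpow_right n).eq, inv_mul_cancel_left]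
  · intro q hq hq1 q' hq' hq'1
    obtain ⟨k, hk, hke⟩ := hkey q hq hq1
    obtain ⟨k', hk', hke'⟩ := hkey q' hq' hq'1
    refine ⟨k' * k⁻¹, mul_mem hk' (inv_mem hk), ?_⟩
    rw [← hke, ← hke']
    group

/-- Every element of `C_N(ρ)` normalizes a simple subgroup of order 60 containing `W`. -/
theorem oc_rho_normalizes (D : HData z) {N A L : Subgroup G} (hNK : N ⊓ centralizer {z} = D.K)
    {d : G} (t : OCTwist D N A d)
    (hcentK : ∀ w ∈ D.ocW, w ≠ 1 → ∀ x ∈ N, x * w = w * x → x ∈ D.K)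
    (hLN : L ≤ N) (hcard : Nat.card L = 60) (hsimp : IsSimpleGroup L) (hWL : D.ocW ≤ L)
    (hdL : d ∈ L) (hLρ : ∀ x ∈ L, x * D.ρ = D.ρ * x) :
    ∀ c ∈ N, c * D.ρ = D.ρ * c → ∀ x ∈ L, c * x * c⁻¹ ∈ L := by
  classical
  haveI := hsimp
  set C : Subgroup G := ocC D N with hCdef
  have hρN : D.ρ ∈ N := (hNK ▸ inf_le_left : D.K ≤ N) D.ρ_mem
  have hρC : D.ρ ∈ C := Subgroup.mem_inf.2 ⟨hρN, mem_cent.2 rfl⟩
  have hLC : L ≤ C := fun x hx => Subgroup.mem_inf.2 ⟨hLN hx, mem_cent.2 (hLρ x hx)⟩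
  set R : Subgroup C := ocR D N with hR
  have hρ1 : ∀ x : C, x ∈ R → x.1 ∈ L → x = 1 := by
    intro x hx hxL
    obtain ⟨i, hi⟩ := hx
    obtain rfl : (⟨D.ρ, hρC⟩ : C) ^ i = x := Subtype.ext ((coe_zpow _ _ _).trans hi)
    have hc : (⟨_, hxL⟩ : L) ∈ center L := by
      refine mem_center_iff.2 fun g => Subtype.ext ?_
      change g.1 * ((⟨D.ρ, hρC⟩ : C) ^ i).1 = ((⟨D.ρ, hρC⟩ : C) ^ i).1 * g.1
      rw [coe_zpow]
      exact ((show Commute g.1 D.ρ from hLρ g.1 g.2).zpow_right i).eq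
    rcases (Subgroup.Normal.eq_bot_or_eq_top (H := center L) inferInstance) with h | h
    · rw [h, mem_bot] at hc
      exact Subtype.ext (congrArg (fun t : L => t.1) hc)
    · exfalso
      have hmem : ∀ a : L, a ∈ center L := fun a => h ▸ mem_top a
      have hh := congrArg Subtype.val (mem_center_iff.1 (hmem ⟨z, hWL D.z_mem_ocW⟩) ⟨d, hdL⟩)
      exact D.z_ne_one (t.eq_one_of_comm D.z_mem_ocW hh)
  set LC : Subgroup C := L.subgroupOf C with hLCdef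
  set π := QuotientGroup.mk' R with hπ
  have hinjL : ∀ a b : C, a ∈ LC → b ∈ LC → π a = π b → a = b := by
    intro a b ha hb he
    have := QuotientGroup.eq.1 he
    have h1 := hρ1 _ this (show (a⁻¹ * b : C).1 ∈ L from mul_mem (inv_mem ha) hb)
    exact inv_mul_eq_one.1 h1
  obtain ⟨Wb, -, -, -, -, hres, -⟩ := oc_rho_quotient D hNK t hcentK
  have hQ : Nat.card (C ⧸ R) ≤ 60 := by
    rcases hres with ⟨h, -⟩ | ⟨h, -⟩ <;> refine le_trans (le_of_eq h) ?_ <;> omega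
  let F : LC → C ⧸ R := fun l => π l.1
  have hF : Function.Bijective F := by
    refine (Nat.bijective_iff_injective_and_card _).2
      ⟨fun a b h => Subtype.ext (hinjL _ _ a.2 b.2 h), ?_⟩
    have h60 : Nat.card LC = 60 := by
      rw [hLCdef, Nat.card_congr (subgroupOfEquivOfLe hLC).toEquiv, hcard]
    have := Nat.card_le_card_of_injective F fun a b h => Subtype.ext (hinjL _ _ a.2 b.2 h)
    omega
  intro c hc hcρ x hx
  obtain ⟨l, hl⟩ := hF.2 (π ⟨c, hc, mem_cent.2 hcρ⟩)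
  obtain ⟨i, hi⟩ := QuotientGroup.eq.1 hl
  have hi' : D.ρ ^ i = l.1.1⁻¹ * c := by
    simpa using hi
  have hce : c = l.1.1 * D.ρ ^ i := by rw [hi', mul_inv_cancel_left]
  have hcx : D.ρ ^ i * x * (D.ρ ^ i)⁻¹ = x := by
    rw [← ((show Commute x D.ρ from hLρ x hx).zpow_right i).eq, mul_inv_cancel_right]
  rw [hce, show l.1.1 * D.ρ ^ i * x * (l.1.1 * D.ρ ^ i)⁻¹ =
    l.1.1 * (D.ρ ^ i * x * (D.ρ ^ i)⁻¹) * l.1.1⁻¹ by group, hcx]
  exact mul_mem (mul_mem l.2 hx) (inv_mem l.2)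

/-- From the three-cycle `h` one gets a three-cycle trivial on `A / W`. -/
theorem oc_exists_twist (D : HData z) {N : Subgroup G} (hNK : N ⊓ centralizer {z} = D.K)
    {A : Subgroup G} (hp : Piece z D.u D.U D.K A) {h : G} (hN : h ∈ N) (h3 : orderOf h = 3)
    (hρ : h * D.ρ = D.ρ * h) (hA : h ∈ normalizer (A : Set G)) (hz : h * z * h⁻¹ = D.u)
    (hu : h * D.u * h⁻¹ = z * D.u) :
    ∃ d v, OCTwist D N A d ∧ v ∈ A ∧ v ∉ D.ocW ∧ d * v = v * d := by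
  classical
  have hρN : D.ρ ∈ N := (hNK ▸ inf_le_left : D.K ≤ N) D.ρ_mem
  have hWA : D.ocW ≤ A := fun w hw => hp.w_mem (D.mem_ocW.1 hw)
  have hρW : ∀ w ∈ D.ocW, Commute D.ρ w := fun w hw => D.K_comm_ocW D.ρ_mem hw
  have hρA : ∀ a ∈ A, D.ρ * a * D.ρ⁻¹ ∈ A := fun a ha => conj_mem_of_normal hp.normal D.ρ_mem ha
  have hρi : ∀ a ∈ A, D.ρ⁻¹ * a * D.ρ ∈ A := fun a ha => by
    simpa using conj_mem_of_normal hp.normal (inv_mem D.ρ_mem) ha
  have hρ3 : D.ρ * D.ρ * D.ρ = 1 := by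
    have := pow_orderOf_eq_one D.ρ
    rwa [D.ρ_order, pow_succ, pow_two] at this
  have hAc : ∀ x ∈ A, ∀ y ∈ A, x * y = y * x := by
    intro x hx y hy
    have h := hp.sq _ (mul_mem hx hy)
    calc x * y = x * (x * y * (x * y)) * y := by rw [h, mul_one]
      _ = (x * x) * (y * x) * (y * y) := by group
      _ = y * x := by rw [hp.sq x hx, hp.sq y hy, one_mul, mul_one]
  obtain ⟨a, ha, haW⟩ : ∃ a ∈ A, a ∉ D.ocW := by
    by_contra hh
    push Not at hh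
    have := card_le_of_le (show A ≤ D.ocW from hh)
    rw [hp.card, D.card_ocW] at this
    omega
  have hfree : ∀ b ∈ A, D.ρ * b * D.ρ⁻¹ * b⁻¹ ∈ D.ocW → b ∈ D.ocW := fun b hb h =>
    D.mem_ocW.2 (D.ρ_free b (hp.le hb) (D.mem_ocW.1 h))
  -- the four cosets
  set r : Fin 4 → G := ![1, a, D.ρ * a * D.ρ⁻¹, D.ρ⁻¹ * a * D.ρ] with hr
  have hrA : ∀ i, r i ∈ A := by
    intro i; fin_cases i
    exacts [one_mem _, ha, hρA a ha, hρi a ha]
  have hdiff : ∀ i j, (r i)⁻¹ * r j ∈ D.ocW → i = j := by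
    have n1 : a ∉ D.ocW := haW
    have n2 : D.ρ * a * D.ρ⁻¹ ∉ D.ocW := fun h => haW (by
      have e : a = D.ρ⁻¹ * ((D.ρ * a * D.ρ⁻¹) * D.ρ) := by group
      rw [e, ← (hρW _ h).eq, inv_mul_cancel_left]; exact h)
    have n3 : D.ρ⁻¹ * a * D.ρ ∉ D.ocW := fun h => haW (by
      have e : a = D.ρ * (D.ρ⁻¹ * a * D.ρ) * D.ρ⁻¹ := by group
      rw [e, (hρW _ h).eq, mul_inv_cancel_right]; exact h)
    have n4 : a⁻¹ * (D.ρ * a * D.ρ⁻¹) ∉ D.ocW := fun h => haW (hfree a ha (by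
      rwa [hAc _ (inv_mem ha) _ (hρA a ha)] at h))
    have n5 : (D.ρ⁻¹ * a * D.ρ)⁻¹ * a ∉ D.ocW := fun h => n3 (hfree _ (hρi a ha) (by
      rw [show D.ρ * (D.ρ⁻¹ * a * D.ρ) * D.ρ⁻¹ = a by group,
        hAc _ ha _ (inv_mem (hρi a ha))]
      exact h))
    have n6 : (D.ρ * a * D.ρ⁻¹)⁻¹ * (D.ρ⁻¹ * a * D.ρ) ∉ D.ocW := fun h => n2 (hfree _ (hρA a ha) (by
      rw [show D.ρ * (D.ρ * a * D.ρ⁻¹) * D.ρ⁻¹ = D.ρ⁻¹ * a * D.ρ by
          rw [show D.ρ⁻¹ = D.ρ * D.ρ from inv_eq_of_mul_eq_one_left hρ3]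
          simp only [mul_assoc]
          rw [show D.ρ * (D.ρ * (D.ρ * D.ρ)) = D.ρ from by
            rw [← mul_assoc, ← mul_assoc, hρ3, one_mul]],
        hAc _ (hρi a ha) _ (inv_mem (hρA a ha))]
      exact h))
    have sym : ∀ x y : G, x⁻¹ * y ∈ D.ocW → y⁻¹ * x ∈ D.ocW := fun x y h => by
      simpa using inv_mem h
    intro i j hij
    fin_cases i <;> fin_cases j <;> first
      | rfl
      | (exfalso; simp [r] at hij; first
          | exact n1 hij | exact n2 hij | exact n3 hij | exact n4 hij | exact n5 hij | exact n6 hij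
          | exact n4 (sym _ _ (by simpa [mul_assoc] using hij))
          | exact n5 (sym _ _ (by simpa [mul_assoc] using hij))
          | exact n6 (sym _ _ (by simpa [mul_assoc] using hij))
          | exact n1 (by simpa using inv_mem hij)
          | exact n2 (by simpa [mul_assoc] using inv_mem hij)
          | exact n3 (by simpa [mul_assoc] using inv_mem hij)
          | exact n4 (by simpa [mul_assoc] using hij)
          | exact n5 (by simpa [mul_assoc] using hij)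
          | exact n6 (by simpa [mul_assoc] using hij))
  let Φ : Fin 4 × D.ocW → A := fun p => ⟨r p.1 * p.2.1, mul_mem (hrA _) (hWA p.2.2)⟩
  have hΦ : Function.Bijective Φ := by
    refine (Nat.bijective_iff_injective_and_card _).2 ⟨?_, ?_⟩
    · rintro ⟨i, w⟩ ⟨j, w'⟩ he
      have he' : r i * w.1 = r j * w'.1 := congrArg Subtype.val he
      have hij : i = j := hdiff i j (by
        have e : (r i)⁻¹ * r j = w.1 * w'.1⁻¹ := by
          rw [eq_mul_inv_iff_mul_eq, mul_assoc, ← he', inv_mul_cancel_left]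
        rw [e]; exact mul_mem w.2 (inv_mem w'.2))
      subst hij
      exact Prod.ext rfl (Subtype.ext (mul_left_cancel he'))
    · rw [Nat.card_prod, Nat.card_fin, D.card_ocW, hp.card]
  obtain ⟨⟨i, w⟩, hiw⟩ := hΦ.2 ⟨h * a * h⁻¹, (mem_normalizer_iff.1 hA a).1 ha⟩
  replace hiw : r i * w.1 = h * a * h⁻¹ := congrArg Subtype.val hiw
  have hcyc : ∀ b ∈ D.ocW, h * b * h⁻¹ ∈ D.ocW := by
    intro b hb
    rcases D.ocW_cases hb with rfl | rfl | rfl | rfl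
    · simp
    · rw [hz]; exact D.u_mem_ocW
    · rw [hu]; exact mul_mem D.z_mem_ocW D.u_mem_ocW
    · rw [show h * (z * D.u) * h⁻¹ = (h * z * h⁻¹) * (h * D.u * h⁻¹) by group, hz, hu]
      exact mul_mem D.u_mem_ocW (mul_mem D.z_mem_ocW D.u_mem_ocW)
  have h33 : h ^ 3 = 1 := by rw [← h3]; exact pow_orderOf_eq_one h
  have hρp : D.ρ ^ 3 = 1 := by rw [← D.ρ_order]; exact pow_orderOf_eq_one _
  obtain ⟨c, hcρ, hcc⟩ : ∃ c : G, c ∈ zpowers D.ρ ∧ (c * h) * a * (c * h)⁻¹ * a⁻¹ ∈ D.ocW := by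
    have key : ∀ c : G, c ∈ zpowers D.ρ → c * r i * c⁻¹ = a →
        (c * h) * a * (c * h)⁻¹ * a⁻¹ ∈ D.ocW := by
      rintro c ⟨n, rfl⟩ hc
      have hcw : Commute (D.ρ ^ n) w.1 := (hρW _ w.2).zpow_left n
      change D.ρ ^ n * r i * (D.ρ ^ n)⁻¹ = a at hc
      change D.ρ ^ n * h * a * (D.ρ ^ n * h)⁻¹ * a⁻¹ ∈ D.ocW
      have e : D.ρ ^ n * h * a * (D.ρ ^ n * h)⁻¹ * a⁻¹ = w.1 := by
        calc D.ρ ^ n * h * a * (D.ρ ^ n * h)⁻¹ * a⁻¹
            = D.ρ ^ n * (h * a * h⁻¹) * (D.ρ ^ n)⁻¹ * a⁻¹ := by group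
          _ = (D.ρ ^ n * r i * (D.ρ ^ n)⁻¹) * (D.ρ ^ n * w.1 * (D.ρ ^ n)⁻¹) * a⁻¹ := by
              rw [← hiw]; group
          _ = w.1 := by
              rw [hc, hcw.eq, mul_inv_cancel_right, hAc _ ha _ (hWA w.2), mul_inv_cancel_right]
      rw [e]
      exact w.2
    fin_cases i
    · exfalso
      apply haW
      have hm : h * a * h⁻¹ ∈ D.ocW := by rw [← hiw]; simpa [r] using w.2
      have h1 := hcyc _ (hcyc _ hm)
      have e : h * (h * (h * a * h⁻¹) * h⁻¹) * h⁻¹ = (h * h * h) * a * (h * h * h)⁻¹ := by group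
      rw [e, show h * h * h = 1 by rw [← h33, pow_succ, pow_two]] at h1
      simpa using h1
    · exact ⟨1, one_mem _, key 1 (one_mem _) (by simp [r])⟩
    · exact ⟨D.ρ⁻¹, inv_mem (mem_zpowers _), key _ (inv_mem (mem_zpowers _)) (by
        simp [r, mul_assoc])⟩
    · exact ⟨D.ρ, mem_zpowers _, key _ (mem_zpowers _) (by simp [r, mul_assoc])⟩
  obtain ⟨n, rfl⟩ := hcρ
  change D.ρ ^ n * h * a * (D.ρ ^ n * h)⁻¹ * a⁻¹ ∈ D.ocW at hcc
  set d := D.ρ ^ n * h with hd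
  have hρh : Commute D.ρ h := hρ.symm
  have hcz : Commute (D.ρ ^ n) z := (hρW z D.z_mem_ocW).zpow_left n
  have hcu : Commute (D.ρ ^ n) (z * D.u) :=
    (hρW _ (mul_mem D.z_mem_ocW D.u_mem_ocW)).zpow_left n
  have hdz : d * z * d⁻¹ = D.u := by
    rw [hd, show D.ρ ^ n * h * z * (D.ρ ^ n * h)⁻¹ = D.ρ ^ n * (h * z * h⁻¹) * (D.ρ ^ n)⁻¹ by group,
      hz, ((hρW _ D.u_mem_ocW).zpow_left n).eq, mul_inv_cancel_right]
  have hdu : d * D.u * d⁻¹ = z * D.u := by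
    rw [hd, show D.ρ ^ n * h * D.u * (D.ρ ^ n * h)⁻¹ = D.ρ ^ n * (h * D.u * h⁻¹) * (D.ρ ^ n)⁻¹ by
      group, hu, hcu.eq, mul_inv_cancel_right]
  have hdA : ∀ b ∈ A, d * b * d⁻¹ ∈ A := by
    intro b hb
    rw [hd, show D.ρ ^ n * h * b * (D.ρ ^ n * h)⁻¹ = D.ρ ^ n * (h * b * h⁻¹) * (D.ρ ^ n)⁻¹ by group]
    exact conj_mem_of_normal hp.normal (zpow_mem D.ρ_mem n) ((mem_normalizer_iff.1 hA b).1 hb)
  have hdρ : d * D.ρ = D.ρ * d := (((Commute.refl D.ρ).zpow_left n).mul_left hρh.symm).eq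
  have hd3 : orderOf d = 3 := by
    haveI : Fact (Nat.Prime 3) := ⟨by norm_num⟩
    refine orderOf_eq_prime ?_ fun h1 => ?_
    · rw [hd, (hρh.zpow_left n).mul_pow, h33, mul_one, ← zpow_natCast, ← zpow_mul, mul_comm,
        zpow_mul, zpow_natCast, hρp, one_zpow]
    · rw [h1] at hdz
      simp only [one_mul, inv_one, mul_one] at hdz
      exact D.u_ne hdz.symm
  have hconjW : ∀ b ∈ D.ocW, d * b * d⁻¹ ∈ D.ocW := by
    intro b hb
    rw [hd, show D.ρ ^ n * h * b * (D.ρ ^ n * h)⁻¹ = D.ρ ^ n * (h * b * h⁻¹) * (D.ρ ^ n)⁻¹ by group,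
      ((hρW _ (hcyc b hb)).zpow_left n).eq, mul_inv_cancel_right]
    exact hcyc b hb
  -- `d` is trivial on `A / W`
  have htriv : ∀ b ∈ A, d * b * d⁻¹ * b⁻¹ ∈ D.ocW := by
    have hW1 : ∀ b ∈ D.ocW, d * b * d⁻¹ * b⁻¹ ∈ D.ocW := fun b hb =>
      mul_mem (hconjW b hb) (inv_mem hb)
    have hmul : ∀ b ∈ A, ∀ c ∈ A, d * b * d⁻¹ * b⁻¹ ∈ D.ocW → d * c * d⁻¹ * c⁻¹ ∈ D.ocW →
        d * (b * c) * d⁻¹ * (b * c)⁻¹ ∈ D.ocW := by
      intro b hb c hc h1 h2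
      have e : d * (b * c) * d⁻¹ * (b * c)⁻¹ = d * b * d⁻¹ * (d * c * d⁻¹ * c⁻¹) * b⁻¹ := by group
      rw [e, hAc _ (hdA b hb) _ (hWA h2), mul_assoc]
      exact mul_mem h2 h1
    have hstep : ∀ b ∈ A, d * b * d⁻¹ * b⁻¹ ∈ D.ocW → ∀ m : ℤ,
        d * (D.ρ ^ m * b * (D.ρ ^ m)⁻¹) * d⁻¹ * (D.ρ ^ m * b * (D.ρ ^ m)⁻¹)⁻¹ ∈ D.ocW := by
      intro b _ hb m
      have hc : Commute d (D.ρ ^ m) := (show Commute d D.ρ from hdρ).zpow_right m
      have e : d * (D.ρ ^ m * b * (D.ρ ^ m)⁻¹) * d⁻¹ * (D.ρ ^ m * b * (D.ρ ^ m)⁻¹)⁻¹ =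
          D.ρ ^ m * (d * b * d⁻¹ * b⁻¹) * (D.ρ ^ m)⁻¹ := by
        calc d * (D.ρ ^ m * b * (D.ρ ^ m)⁻¹) * d⁻¹ * (D.ρ ^ m * b * (D.ρ ^ m)⁻¹)⁻¹
            = (d * D.ρ ^ m) * b * (d * D.ρ ^ m)⁻¹ * D.ρ ^ m * b⁻¹ * (D.ρ ^ m)⁻¹ := by group
          _ = _ := by rw [hc.eq]; group
      rw [e, ((hρW _ hb).zpow_left m).eq, mul_inv_cancel_right]
      exact hb
    intro b hb
    obtain ⟨⟨j, w'⟩, hj⟩ := hΦ.2 ⟨b, hb⟩
    replace hj : r j * w'.1 = b := congrArg Subtype.val hj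
    rw [← hj]
    refine hmul _ (hrA j) _ (hWA w'.2) ?_ (hW1 _ w'.2)
    fin_cases j
    · simp [r]
    · exact hcc
    · simpa [r] using hstep a ha hcc 1
    · simpa [r] using hstep a ha hcc (-1)
  have t : OCTwist D N A d := ⟨mul_mem (zpow_mem hρN n) hN, hd3, hdA, hdz, hdu, htriv, hdρ⟩
  obtain ⟨v, hv, hdv, hav⟩ := oc_fixed_in_coset t hp.sq hWA ha
  refine ⟨d, v, t, hv, fun h => haW ?_, hdv⟩
  simpa using mul_mem hav h

/-- All involutions of `U` are conjugate to `z`. -/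
theorem oc_main (D : HData z) {N : Subgroup G} [N.Normal]
    (hNK : N ⊓ centralizer {z} = D.K) (hns : ¬ Group.IsSolvable N)
    {A₁ A₂ : Subgroup G} (hP : Pair z D.u D.U D.K A₁ A₂) {h : G} (hN : h ∈ N)
    (h3 : orderOf h = 3) (hρ : h * D.ρ = D.ρ * h) (hK : h ∈ normalizer (D.K : Set G))
    (hA₁ : h ∈ normalizer (A₁ : Set G)) (hA₂ : h ∈ normalizer (A₂ : Set G))
    (hz : h * z * h⁻¹ = D.u) (hu : h * D.u * h⁻¹ = z * D.u)
    {y : G} (hy : y ∈ D.U) (hy2 : orderOf y = 2) : ∃ g ∈ N, g * z * g⁻¹ = y := by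
  classical
  have hKN : D.K ≤ N := hNK ▸ inf_le_left
  have hh2 : h * h * z * (h * h)⁻¹ = z * D.u := by rw [← hu, ← hz]; group
  have hcyc : ∀ w ∈ D.ocW, w ≠ 1 →
      ∃ c, c ∈ N ∧ c ∈ normalizer (D.K : Set G) ∧ c * z * c⁻¹ = w := by
    intro w hw hw1
    rcases D.ocW_cases hw with rfl | rfl | rfl | rfl
    · exact absurd rfl hw1
    · exact ⟨1, one_mem _, one_mem _, by simp⟩
    · exact ⟨h, hN, hK, hz⟩
    · exact ⟨h * h, mul_mem hN hN, mul_mem hK hK, hh2⟩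
  have hcentK : ∀ w ∈ D.ocW, w ≠ 1 → ∀ x ∈ N, x * w = w * x → x ∈ D.K := by
    intro w hw hw1 x hx hxw
    obtain ⟨c, hcN, hcK, hc⟩ := hcyc w hw hw1
    have hm : c⁻¹ * x * c ∈ D.K := by
      rw [← hNK]
      refine Subgroup.mem_inf.2 ⟨mul_mem (mul_mem (inv_mem hcN) hx) hcN, mem_cent.2 ?_⟩
      rw [← hc] at hxw
      calc c⁻¹ * x * c * z = c⁻¹ * (x * (c * z * c⁻¹)) * c := by group
        _ = z * (c⁻¹ * x * c) := by rw [hxw]; group
    have := (mem_normalizer_iff.1 hcK _).1 hm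
    simpa [mul_assoc] using this
  -- all involutions of `U` outside `W` are conjugate under `H`
  obtain ⟨a, ha, haW⟩ : ∃ a ∈ A₁, a ∉ D.ocW := by
    by_contra hh
    push Not at hh
    have := card_le_of_le (show A₁ ≤ D.ocW from hh)
    rw [hP.p₁.card, D.card_ocW] at this
    omega
  have horb : ∀ x ∈ D.U, orderOf x = 2 → x ∉ D.ocW →
      ∃ c ∈ centralizer ({z} : Set G), c * a * c⁻¹ = x := by
    have h1 : ∀ x ∈ A₁, x ∉ D.ocW → ∃ c ∈ centralizer ({z} : Set G), c * a * c⁻¹ = x := by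
      intro x hx hxW
      obtain ⟨k, hk, hke⟩ := hP.p₁.trans a ha (fun h => haW (D.mem_ocW.2 h)) x hx
        (fun h => hxW (D.mem_ocW.2 h))
      exact ⟨k, D.K_le hk, hke⟩
    intro x hx hx2 hxW
    rcases hP.invol x hx hx2 with hxA | hxA
    · exact h1 x hxA hxW
    · obtain ⟨s, hs, hmap⟩ := hP.swap
      rw [← hmap] at hxA
      obtain ⟨x₁, hx₁, rfl⟩ := hxA
      change s * x₁ * s⁻¹ ∉ D.ocW at hxW
      obtain ⟨c, hc, hce⟩ := h1 x₁ hx₁ fun h => hxW (D.oc_conj_ocW hs h)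
      refine ⟨s * c, mul_mem hs hc, ?_⟩
      change s * c * a * (s * c)⁻¹ = s * x₁ * s⁻¹
      rw [← hce]; group
  by_cases hex : ∃ y₀ ∈ D.U, orderOf y₀ = 2 ∧ y₀ ∉ D.ocW ∧ ∃ g ∈ N, g * z * g⁻¹ = y₀
  · by_cases hyW : y ∈ D.ocW
    · obtain ⟨c, hcN, -, hc⟩ := hcyc y hyW (fun h => by rw [h, orderOf_one] at hy2; omega)
      exact ⟨c, hcN, hc⟩
    obtain ⟨y₀, hy₀, hy₀2, hy₀W, g, hg, hge⟩ := hex
    obtain ⟨c₀, hc₀, hc₀e⟩ := horb y₀ hy₀ hy₀2 hy₀W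
    obtain ⟨c₁, hc₁, hc₁e⟩ := horb y hy hy2 hyW
    have hc : c₁ * c₀⁻¹ ∈ centralizer ({z} : Set G) := mul_mem hc₁ (inv_mem hc₀)
    refine ⟨(c₁ * c₀⁻¹) * g * (c₁ * c₀⁻¹)⁻¹, Subgroup.Normal.conj_mem ‹N.Normal› g hg _, ?_⟩
    set c := c₁ * c₀⁻¹ with hcdef
    have hcz : c⁻¹ * z * c = z := by
      rw [mul_assoc, ← mem_cent.1 hc, inv_mul_cancel_left]
    calc c * g * c⁻¹ * z * (c * g * c⁻¹)⁻¹ = c * (g * (c⁻¹ * z * c) * g⁻¹) * c⁻¹ := by group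
      _ = c * y₀ * c⁻¹ := by rw [hcz, hge]
      _ = y := by rw [← hc₀e, ← hc₁e, hcdef]; group
  exfalso
  have hnone : ∀ x ∈ D.U, orderOf x = 2 → ∀ g ∈ N, g * z * g⁻¹ = x → x ∈ D.ocW := fun x hx hx2 g hg he =>
    by_contra fun hW => hex ⟨x, hx, hx2, hW, g, hg, he⟩
  have hU2 : ∀ {A : Subgroup G}, Piece z D.u D.U D.K A → ∀ v ∈ A, v ∉ D.ocW →
      v ∈ D.U ∧ orderOf v = 2 := fun hp v hv hvW =>
    ⟨hp.le hv, orderOf_two_of_sq (hp.sq v hv) fun h => hvW (h ▸ one_mem _)⟩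
  -- the case in which the involutions commuting with `v` lie in `U`
  have htwelve : ∀ v ∈ D.U, orderOf v = 2 → v ∉ D.ocW →
      (∀ x ∈ N, orderOf x = 2 → x * v = v * x → x ∈ D.U) → False := by
    intro v hv hv2 hvW hTT
    have hTTall : ∀ r ∈ D.U, orderOf r = 2 → r ∉ D.ocW →
        ∀ x ∈ N, orderOf x = 2 → x * r = r * x → x ∈ D.U := by
      intro r hr hr2 hrW x hx hx2 hxr
      obtain ⟨c₁, hc₁, hc₁e⟩ := horb r hr hr2 hrW
      obtain ⟨c₀, hc₀, hc₀e⟩ := horb v hv hv2 hvW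
      set c := c₁ * c₀⁻¹ with hcdef
      have hc : c ∈ centralizer ({z} : Set G) := mul_mem hc₁ (inv_mem hc₀)
      have hrv : c * v * c⁻¹ = r := by rw [← hc₀e, ← hc₁e, hcdef]; group
      have hm : c⁻¹ * x * c ∈ D.U := by
        refine hTT _ (by simpa using Subgroup.Normal.conj_mem ‹N.Normal› x hx c⁻¹) ?_ ?_
        · rw [← hx2]
          simpa using orderOf_injective (MulAut.conj c⁻¹).toMonoidHom (MulAut.conj c⁻¹).injective x
        · rw [← hrv] at hxr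
          calc c⁻¹ * x * c * v = c⁻¹ * (x * (c * v * c⁻¹)) * c := by group
            _ = v * (c⁻¹ * x * c) := by rw [hxr]; group
      have := conj_mem_of_normal D.U_normal hc hm
      simpa [mul_assoc] using this
    have hconj : ∀ g ∈ N, g * z * g⁻¹ ∈ D.ocW := by
      intro g hg
      set z' := g * z * g⁻¹ with hz'
      have hz'2 : orderOf z' = 2 :=
        (orderOf_injective (MulAut.conj g).toMonoidHom (MulAut.conj g).injective z).trans D.hz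
      have hz'N : z' ∈ N := mul_mem (mul_mem hg (hKN (D.U_le D.z_mem))) (inv_mem hg)
      have hvN : v ∈ N := hKN (D.U_le hv)
      obtain ⟨m, -, -, hr2, hra, hrb, -⟩ := TwoTransfer.exists_commuting_involution
        (a := (⟨z', hz'N⟩ : N)) (b := (⟨v, hvN⟩ : N))
        (by rw [Subgroup.orderOf_mk]; exact hz'2) (by rw [Subgroup.orderOf_mk]; exact hv2)
        (fun hc => by
          obtain ⟨e, he⟩ := isConj_iff.1 hc
          have he' : e.1 * z' * e.1⁻¹ = v := congrArg Subtype.val he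
          refine hvW (hnone v hv hv2 (e.1 * g) (mul_mem e.2 hg) ?_)
          rw [← he', hz']; group)
      set r := ((⟨z', hz'N⟩ : N) * ⟨v, hvN⟩) ^ m
      have hr2' : orderOf r.1 = 2 := by rw [Subgroup.orderOf_coe]; exact hr2
      have hrz : z' * r.1 = r.1 * z' := (congrArg Subtype.val hra.eq).symm
      have hrv : r.1 * v = v * r.1 := congrArg Subtype.val hrb.eq
      have hrU := hTT r.1 r.2 hr2' hrv
      have hz'U : z' ∈ D.U := by
        by_cases hrW : r.1 ∈ D.ocW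
        · exact D.involution_mem_U (hcentK r.1 hrW
            (fun h => by rw [h, orderOf_one] at hr2'; omega) z' hz'N hrz) hz'2
        · exact hTTall r.1 hrU hr2' hrW z' hz'N hz'2 hrz
      exact hnone z' hz'U hz'2 g hg hz'.symm
    apply hns
    haveI := D.solvable
    haveI : Fact (Nat.Prime 3) := ⟨by norm_num⟩
    set K' : Subgroup N := D.K.subgroupOf N with hK'
    let f : N → {w : D.ocW // w ≠ 1} := fun g =>
      ⟨⟨g.1 * z * g.1⁻¹, hconj g.1 g.2⟩, fun h => D.z_ne_one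
        (conj_eq_one_iff.1 (congrArg Subtype.val h : g.1 * z * g.1⁻¹ = 1))⟩
    have hf : ∀ a b : N, f a = f b ↔ a⁻¹ * b ∈ K' := by
      intro a b
      constructor
      · intro he
        have he' : a.1 * z * a.1⁻¹ = b.1 * z * b.1⁻¹ := congrArg (fun t => t.1.1) he
        change a.1⁻¹ * b.1 ∈ D.K
        rw [← hNK]
        refine Subgroup.mem_inf.2 ⟨mul_mem (inv_mem a.2) b.2, mem_cent.2 ?_⟩
        calc a.1⁻¹ * b.1 * z = a.1⁻¹ * (b.1 * z * b.1⁻¹) * b.1 := by group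
          _ = z * (a.1⁻¹ * b.1) := by rw [← he']; group
      · intro hm
        refine Subtype.ext (Subtype.ext ?_)
        have hm' : Commute (a.1⁻¹ * b.1) z := mem_cent.1 (D.K_le hm)
        change a.1 * z * a.1⁻¹ = b.1 * z * b.1⁻¹
        calc a.1 * z * a.1⁻¹ = a.1 * ((a.1⁻¹ * b.1) * z * (a.1⁻¹ * b.1)⁻¹) * a.1⁻¹ := by
              rw [hm'.eq, mul_inv_cancel_right]
          _ = b.1 * z * b.1⁻¹ := by group
    haveI : K'.Normal := ⟨fun k hk g => by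
      have hne : g.1⁻¹ * z * g.1⁻¹⁻¹ ≠ 1 := fun h => D.z_ne_one (conj_eq_one_iff.1 h)
      have hw := hconj g.1⁻¹ (inv_mem g.2)
      change g.1 * k.1 * g.1⁻¹ ∈ D.K
      rw [← hNK]
      refine Subgroup.mem_inf.2 ⟨mul_mem (mul_mem g.2 k.2) (inv_mem g.2), mem_cent.2 ?_⟩
      have hc := D.K_comm_ocW (show k.1 ∈ D.K from hk) hw
      calc g.1 * k.1 * g.1⁻¹ * z = g.1 * (k.1 * (g.1⁻¹ * z * g.1⁻¹⁻¹)) * g.1⁻¹ := by group
        _ = z * (g.1 * k.1 * g.1⁻¹) := by rw [hc]; group⟩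
    have h3' : Nat.card (N ⧸ K') = 3 := by
      have hbij : Function.Bijective (fun q : N ⧸ K' => f q.out) := by
        refine ⟨fun q q' he => ?_, fun w => ?_⟩
        · rw [← QuotientGroup.out_eq' q, ← QuotientGroup.out_eq' q', QuotientGroup.eq]
          exact (hf _ _).1 he
        · obtain ⟨c, hcN, -, hc⟩ := hcyc w.1.1 w.1.2 fun h => w.2 (Subtype.ext h)
          refine ⟨((⟨c, hcN⟩ : N) : N ⧸ K'), ?_⟩
          refine ((hf _ _).2 ?_).trans (Subtype.ext (Subtype.ext hc) : f ⟨c, hcN⟩ = w)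
          rw [← QuotientGroup.eq, QuotientGroup.out_eq']
      rw [Nat.card_eq_of_bijective _ hbij]
      haveI : Fintype D.ocW := Fintype.ofFinite _
      rw [Nat.card_eq_fintype_card, Fintype.card_subtype_compl, Fintype.card_subtype_eq,
        ← Nat.card_eq_fintype_card, D.card_ocW]
    haveI : Group.IsSolvable K' := Group.isSolvable_of_isSolvable_injective
      (f := ((N.subtype).comp K'.subtype).codRestrict (centralizer ({z} : Set G))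
        fun x => D.K_le x.2)
      (fun a b he => Subtype.ext (Subtype.ext
        (congrArg (fun t : centralizer ({z} : Set G) => (t : G)) he)))
    haveI : Group.IsSolvable (N ⧸ K') := Group.isSolvable_of_comm fun a b => by
      haveI := isCyclic_of_prime_card (α := N ⧸ K') (p := 3) h3'
      exact (IsCyclic.isMulCommutative (α := N ⧸ K')).is_comm.comm a b
    exact Group.isSolvable_of_ker_le_range K'.subtype (QuotientGroup.mk' K') (by simp)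
  obtain ⟨d₁, v₁, t₁, hv₁, hv₁W, hdv₁⟩ := oc_exists_twist D hNK hP.p₁ hN h3 hρ hA₁ hz hu
  obtain ⟨d₂, v₂, t₂, hv₂, hv₂W, hdv₂⟩ := oc_exists_twist D hNK hP.p₂ hN h3 hρ hA₂ hz hu
  rcases oc_piece D hNK hnone hP.p₁ t₁ hv₁ hv₁W hdv₁ with hT | hL₁
  · obtain ⟨hvU, hv2⟩ := hU2 hP.p₁ v₁ hv₁ hv₁W
    exact htwelve v₁ hvU hv2 hv₁W hT
  rcases oc_piece D hNK hnone hP.p₂ t₂ hv₂ hv₂W hdv₂ with hT | hL₂
  · obtain ⟨hvU, hv2⟩ := hU2 hP.p₂ v₂ hv₂ hv₂W
    exact htwelve v₂ hvU hv2 hv₂W hT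
  obtain ⟨L₁, hL₁N, hL₁c, hL₁s, hWL₁, hd₁L, hL₁v, hL₁ρ⟩ := hL₁
  obtain ⟨L₂, hL₂N, hL₂c, hL₂s, hWL₂, hd₂L, hL₂v, hL₂ρ⟩ := hL₂
  have hnorm := oc_rho_normalizes D hNK t₁ hcentK hL₁N hL₁c hL₁s hWL₁ hd₁L hL₁ρ
  -- the two simple groups coincide
  have hsub : (L₁.subgroupOf L₂).Normal := ⟨fun n hn g =>
    hnorm g.1 (hL₂N g.2) (hL₂ρ g.1 g.2) n.1 hn⟩
  have hne : L₁.subgroupOf L₂ ≠ ⊥ := by
    intro he
    have hm : (⟨z, hWL₂ D.z_mem_ocW⟩ : L₂) ∈ L₁.subgroupOf L₂ := hWL₁ D.z_mem_ocW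
    rw [he, mem_bot] at hm
    exact D.z_ne_one (congrArg Subtype.val hm)
  haveI := hL₂s
  have htop := (hsub.eq_bot_or_eq_top).resolve_left hne
  have hLL : L₂ = L₁ := eq_of_le_of_card_ge (subgroupOf_eq_top.1 htop) (by rw [hL₁c, hL₂c])
  have hd₁v₂ : Commute d₁ v₂ := hL₂v d₁ (hLL ▸ hd₁L)
  have hd₁v₁ : Commute d₁ v₁ := hL₁v d₁ hd₁L
  set c := v₁ * v₂ * v₁⁻¹ * v₂⁻¹ with hc
  have hv₁K : v₁ ∈ D.K := D.U_le (hP.p₁.le hv₁)
  have hv₂K : v₂ ∈ D.K := D.U_le (hP.p₂.le hv₂)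
  have hc1 : c ∈ A₁ := by
    rw [hc, show v₁ * v₂ * v₁⁻¹ * v₂⁻¹ = v₁ * (v₂ * v₁⁻¹ * v₂⁻¹) by group]
    exact mul_mem hv₁ (conj_mem_of_normal hP.p₁.normal hv₂K (inv_mem hv₁))
  have hc2 : c ∈ A₂ := by
    rw [hc]
    exact mul_mem (conj_mem_of_normal hP.p₂.normal hv₁K hv₂) (inv_mem hv₂)
  have hcW : c ∈ D.ocW := D.mem_ocW.2 (by rw [← hP.inter]; exact ⟨hc1, hc2⟩)
  have hcd : d₁ * c = c * d₁ :=
    (((hd₁v₁.mul_right hd₁v₂).mul_right hd₁v₁.inv_right).mul_right hd₁v₂.inv_right).eq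
  have hc0 : c = 1 := t₁.eq_one_of_comm hcW hcd
  have hcomm : v₁ * v₂ = v₂ * v₁ := by
    rw [hc, mul_inv_eq_one, mul_inv_eq_iff_eq_mul] at hc0
    exact hc0
  have h21 : v₂ ∈ A₁ := by
    rw [← hP.p₁.cent v₁ hv₁ fun h => hv₁W (D.mem_ocW.2 h)]
    exact ⟨hv₂K, mem_cent.2 hcomm.symm⟩
  refine hv₂W (D.mem_ocW.2 ?_)
  rw [← hP.inter]
  exact ⟨h21, hv₂⟩

end Cfsg.Agent.PGammaThreeFour
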