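import Cfsg.Agent.PGammaThreeFour.Fusion
import Cfsg.Agent.PGammaThreeFour.OneClassFinal

/-!
# All involutions of `U` are conjugate in `N`
-/

set_option autoImplicit false

namespace Cfsg.Agent.PGammaThreeFour

open Subgroup

variable {G : Type*} [Group G] [Finite G] {z : G}

/-- If `N` is not solvable, every involution of `U` is conjugate to `z` in `N`. -/
theorem HData.isConj_of_mem_U (D : HData z) {N : Subgroup G} [N.Normal]
    (hNK : N ⊓ centralizer {z} = D.K) (hns : ¬ Group.IsSolvable N) {y : G} (hy : y ∈ D.U)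
    (hy2 : orderOf y = 2) : ∃ g ∈ N, g * z * g⁻¹ = y := by
  obtain ⟨A₁, A₂, hP, h, hN, h3, hρ, hK, -, hA₁, hA₂, hz, hu⟩ := D.exists_h hNK hns
  exact oc_main D hNK hns hP hN h3 hρ hK hA₁ hA₂ hz hu hy hy2

end Cfsg.Agent.PGammaThreeFour
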