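import Cfsg.Agent.PGammaThreeFour.Basics
import Cfsg.Agent.PGammaThreeFour.FourSelfCent
import Cfsg.Agent.Invol.IsolatedApps
import Cfsg.Agent.Core.PCore

/-!
# The centraliser of an involution of `U ∖ W` when `W` is the whole fusion of `z` in `U`

If no involution of `U ∖ W` is conjugate to `z` in `N` and `y ∈ A ∖ W` is fixed by the three-cycle
`d`, then the fixed points of `d` in `A` are isolated, hence central, in `C_N(y)`, and `C_N(y)` is
that group times a group `L` with self-centralizing four group `W`.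
-/

set_option autoImplicit false

namespace Cfsg.Agent.PGammaThreeFour

open Subgroup
open scoped Pointwise

theorem oc_inverted {G : Type*} [Group G] [Finite G] {O : Subgroup G} {w : G} (hw : w * w = 1)
    (hn : ∀ x ∈ O, w * x * w⁻¹ ∈ O) (hfix : ∀ x ∈ O, w * x = x * w → x = 1) :
    ∀ x ∈ O, w * x * w⁻¹ = x⁻¹ := by
  let f : O → O := fun x => ⟨x.1⁻¹ * (w * x.1 * w⁻¹), mul_mem (inv_mem x.2) (hn _ x.2)⟩
  have hf : Function.Injective f := by
    intro a b h
    have h' : a.1⁻¹ * (w * a.1 * w⁻¹) = b.1⁻¹ * (w * b.1 * w⁻¹) := congrArg Subtype.val h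
    have hfx : w * (a.1 * b.1⁻¹) * w⁻¹ = a.1 * b.1⁻¹ := by
      calc w * (a.1 * b.1⁻¹) * w⁻¹
          = a.1 * (a.1⁻¹ * (w * a.1 * w⁻¹)) * (w * b.1 * w⁻¹)⁻¹ := by group
        _ = a.1 * b.1⁻¹ := by rw [h']; group
    exact Subtype.ext (mul_inv_eq_one.1
      (hfix _ (mul_mem a.2 (inv_mem b.2)) (mul_inv_eq_iff_eq_mul.1 hfx)))
  intro x hx
  obtain ⟨a, ha⟩ := (Finite.injective_iff_surjective.1 hf) ⟨x, hx⟩
  have ha' : a.1⁻¹ * (w * a.1 * w⁻¹) = x := congrArg Subtype.val ha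
  have hww : w * (w * a.1 * w⁻¹) * w⁻¹ = a.1 := by
    rw [show w * (w * a.1 * w⁻¹) * w⁻¹ = (w * w) * a.1 * (w * w)⁻¹ by group, hw]
    group
  rw [← ha', show w * (a.1⁻¹ * (w * a.1 * w⁻¹)) * w⁻¹ =
    (w * a.1 * w⁻¹)⁻¹ * (w * (w * a.1 * w⁻¹) * w⁻¹) by group, hww]
  group

variable {G : Type*} [Group G]

namespace HData

variable {z : G} (D : HData z)
include D

/-- The four group `W = Z(U)`. -/
def ocW : Subgroup G := D.U ⊓ centralizer (D.U : Set G)

theorem mem_ocW {x : G} : x ∈ D.ocW ↔ x ∈ wSet z D.u := by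
  constructor
  · rintro ⟨hx, hc⟩
    exact (D.center x hx).1 fun y hy => (mem_centralizer_iff.1 hc y hy).symm
  · intro hx
    exact ⟨D.wSet_subset hx, mem_centralizer_iff.2 fun y hy =>
      ((D.center x (D.wSet_subset hx)).2 hx y hy).symm⟩

theorem ocW_le_U : D.ocW ≤ D.U := inf_le_left

theorem z_mem_ocW : z ∈ D.ocW := D.mem_ocW.2 (Or.inr (Or.inl rfl))

theorem u_mem_ocW : D.u ∈ D.ocW := D.mem_ocW.2 (Or.inr (Or.inr (Or.inl rfl)))

theorem ocW_cases {x : G} (hx : x ∈ D.ocW) : x = 1 ∨ x = z ∨ x = D.u ∨ x = z * D.u := by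
  rcases D.mem_ocW.1 hx with h | h | h | h
  exacts [Or.inl h, Or.inr (Or.inl h), Or.inr (Or.inr (Or.inl h)), Or.inr (Or.inr (Or.inr h))]

theorem ocW_comm {x y : G} (hx : x ∈ D.ocW) (hy : y ∈ D.U) : x * y = y * x :=
  (mem_centralizer_iff.1 hx.2 y hy).symm

theorem ocW_sq {x : G} (hx : x ∈ D.ocW) : x * x = 1 := by
  rcases D.ocW_cases hx with rfl | rfl | rfl | rfl
  · exact one_mul 1
  · exact D.z_sq'
  · exact D.u_sq'
  · calc z * D.u * (z * D.u) = z * (D.u * z) * D.u := by group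
      _ = (z * z) * (D.u * D.u) := by rw [D.u_comm]; group
      _ = 1 := by rw [D.z_sq', D.u_sq', one_mul]

theorem ocW_order {x : G} (hx : x ∈ D.ocW) (h1 : x ≠ 1) : orderOf x = 2 :=
  orderOf_two_of_sq (D.ocW_sq hx) h1

theorem K_comm_ocW {k x : G} (hk : k ∈ D.K) (hx : x ∈ D.ocW) : k * x = x * k := by
  have hz : Commute k z := mem_cent.1 (D.K_le hk)
  have hu : Commute k D.u := D.K_cent k hk
  rcases D.ocW_cases hx with rfl | rfl | rfl | rfl
  exacts [by simp, hz, hu, hz.mul_right hu]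

theorem card_ocW : Nat.card D.ocW = 4 := by
  classical
  have hset : ∀ x, x ∈ D.ocW ↔ x ∈ ({1, z, D.u, z * D.u} : Finset G) := by
    intro x
    rw [D.mem_ocW]
    simp [wSet]
  rw [Nat.subtype_card _ fun x => (hset x).symm]
  have h1 : z * D.u ≠ z := fun h => D.u_ne_one (mul_eq_left.1 h)
  have h2 : z * D.u ≠ D.u := fun h => D.z_ne_one (mul_eq_right.1 h)
  rw [Finset.card_insert_of_notMem, Finset.card_insert_of_notMem, Finset.card_insert_of_notMem,
    Finset.card_singleton]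
  · simpa using h2.symm
  · simp only [Finset.mem_insert, Finset.mem_singleton, not_or]
    exact ⟨D.u_ne.symm, h1.symm⟩
  · simp only [Finset.mem_insert, Finset.mem_singleton, not_or]
    exact ⟨D.z_ne_one.symm, D.u_ne_one.symm, D.zu_ne_one.symm⟩

end HData

/-- A three-cycle of `W` in `N` normalizing `A` and trivial on `A / W`. -/
structure OCTwist {z : G} (D : HData z) (N A : Subgroup G) (d : G) : Prop where
  mem : d ∈ N
  order : orderOf d = 3
  norm : ∀ a ∈ A, d * a * d⁻¹ ∈ A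
  conj_z : d * z * d⁻¹ = D.u
  conj_u : d * D.u * d⁻¹ = z * D.u
  triv : ∀ a ∈ A, d * a * d⁻¹ * a⁻¹ ∈ D.ocW
  comm : d * D.ρ = D.ρ * d

namespace OCTwist

variable {z : G} {D : HData z} {N A : Subgroup G} {d : G}

theorem pow3 (t : OCTwist D N A d) : d * d * d = 1 := by
  have := pow_orderOf_eq_one d
  rwa [t.order, pow_succ, pow_two] at this

theorem inv_eq (t : OCTwist D N A d) : d⁻¹ = d * d :=
  inv_eq_of_mul_eq_one_left t.pow3

theorem conj_zu (t : OCTwist D N A d) : d * (z * D.u) * d⁻¹ = z := by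
  rw [show d * (z * D.u) * d⁻¹ = (d * z * d⁻¹) * (d * D.u * d⁻¹) by group, t.conj_z, t.conj_u,
    ← mul_assoc, D.u_comm, mul_assoc, D.u_sq', mul_one]

theorem inv_conj_u (t : OCTwist D N A d) : d⁻¹ * D.u * d = z := by
  rw [← t.conj_z]
  group

theorem conj_ocW (t : OCTwist D N A d) {w : G} (hw : w ∈ D.ocW) : d * w * d⁻¹ ∈ D.ocW := by
  rcases D.ocW_cases hw with rfl | rfl | rfl | rfl
  · simp
  · rw [t.conj_z]; exact D.u_mem_ocW
  · rw [t.conj_u]; exact mul_mem D.z_mem_ocW D.u_mem_ocW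
  · rw [t.conj_zu]; exact D.z_mem_ocW

theorem inv_conj_ocW (t : OCTwist D N A d) {w : G} (hw : w ∈ D.ocW) :
    d⁻¹ * w * d ∈ D.ocW := by
  have h := t.conj_ocW (t.conj_ocW hw)
  rw [show d⁻¹ * w * d = d⁻¹ * w * d⁻¹⁻¹ by rw [inv_inv], t.inv_eq]
  simpa [mul_assoc] using h

theorem eq_one_of_comm (t : OCTwist D N A d) {w : G} (hw : w ∈ D.ocW) (hc : d * w = w * d) :
    w = 1 := by
  have h : d * w * d⁻¹ = w := mul_inv_eq_iff_eq_mul.2 hc
  rcases D.ocW_cases hw with rfl | rfl | rfl | rfl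
  · rfl
  · exact absurd (t.conj_z.symm.trans h) D.u_ne
  · exact absurd (mul_eq_right.1 (t.conj_u.symm.trans h)) D.z_ne_one
  · exact absurd (left_eq_mul.1 (t.conj_zu.symm.trans h)) D.u_ne_one

theorem ocW_le (t : OCTwist D N A d) {w : G} (hw : w ∈ D.ocW) :
    ∃ w' ∈ D.ocW, d * w' * d⁻¹ * w'⁻¹ = w := by
  have hu := D.u_sq'
  have hz := D.z_sq'
  have hzi : z⁻¹ = z := inv_eq_of_mul_eq_one_right hz
  have hui : D.u⁻¹ = D.u := inv_eq_of_mul_eq_one_right hu
  rcases D.ocW_cases hw with rfl | rfl | rfl | rfl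
  · exact ⟨1, one_mem _, by simp⟩
  · refine ⟨D.u, D.u_mem_ocW, ?_⟩
    rw [t.conj_u, hui, mul_assoc, hu, mul_one]
  · refine ⟨z * D.u, mul_mem D.z_mem_ocW D.u_mem_ocW, ?_⟩
    rw [t.conj_zu, inv_eq_of_mul_eq_one_right
      (D.ocW_sq (mul_mem D.z_mem_ocW D.u_mem_ocW)), ← mul_assoc, hz, one_mul]
  · refine ⟨z, D.z_mem_ocW, ?_⟩
    rw [t.conj_z, hzi, D.u_comm]

end OCTwist

/-- The elements fixed by `d` meet every coset of `W` in `A`. -/
theorem oc_fixed_in_coset {z : G} {D : HData z} {N A : Subgroup G} {d : G}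
    (t : OCTwist D N A d) (hA : ∀ a ∈ A, a * a = 1) (hW : D.ocW ≤ A) {a : G} (ha : a ∈ A) :
    ∃ v ∈ A, d * v = v * d ∧ a * v⁻¹ ∈ D.ocW := by
  have hAc : ∀ x ∈ A, ∀ y ∈ A, x * y = y * x := by
    intro x hx y hy
    have h := hA _ (mul_mem hx hy)
    calc x * y = x * (x * y * (x * y)) * y := by rw [h, mul_one]
      _ = (x * x) * (y * x) * (y * y) := by group
      _ = y * x := by rw [hA x hx, hA y hy, one_mul, mul_one]
  set b := d * a * d⁻¹ with hb
  have hbA : b ∈ A := t.norm a ha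
  set c := d * b * d⁻¹ with hc
  have hcA : c ∈ A := t.norm b hbA
  have hca : d * c * d⁻¹ = a := by
    rw [hc, hb, show d * (d * (d * a * d⁻¹) * d⁻¹) * d⁻¹ = (d * d * d) * a * (d * d * d)⁻¹ by group,
      t.pow3]
    group
  refine ⟨a * b * c, mul_mem (mul_mem ha hbA) hcA, ?_, ?_⟩
  · rw [← mul_inv_eq_iff_eq_mul]
    calc d * (a * b * c) * d⁻¹ = (d * a * d⁻¹) * (d * b * d⁻¹) * (d * c * d⁻¹) := by group
      _ = b * c * a := by rw [← hb, ← hc, hca]
      _ = a * (b * c) := hAc _ (mul_mem hbA hcA) _ ha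
      _ = a * b * c := (mul_assoc _ _ _).symm
  · have h1 : b * a⁻¹ ∈ D.ocW := t.triv a ha
    have h2 : c * b⁻¹ ∈ D.ocW := t.triv b hbA
    have hai : a⁻¹ = a := inv_eq_of_mul_eq_one_right (hA a ha)
    have hbi : b⁻¹ = b := inv_eq_of_mul_eq_one_right (hA b hbA)
    have hci : c⁻¹ = c := inv_eq_of_mul_eq_one_right (hA c hcA)
    rw [show a * (a * b * c)⁻¹ = a * (c⁻¹ * b⁻¹) * a⁻¹ by group, hci,
      hAc _ ha _ (hW h2), mul_inv_cancel_right]
    exact h2

/-- The local analysis of `C_N(y)`. -/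
theorem oc_local [Finite G] {z : G} (D : HData z) {N : Subgroup G} [N.Normal]
    (hNK : N ⊓ centralizer {z} = D.K)
    (hnone : ∀ y ∈ D.U, orderOf y = 2 → ∀ g ∈ N, g * z * g⁻¹ = y → y ∈ D.ocW)
    {A : Subgroup G} (hp : Piece z D.u D.U D.K A) {d : G} (t : OCTwist D N A d)
    {y : G} (hy : y ∈ A) (hyW : y ∉ D.ocW) (hdy : d * y = y * d) :
    (∀ v ∈ A, d * v = v * d → ∀ x ∈ N, x * y = y * x → x * v = v * x) ∧
    ∃ L : Subgroup G, L ≤ N ∧ (∀ x ∈ L, x * y = y * x) ∧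
      (∀ g ∈ N, g * y = y * g → ∀ x ∈ L, g * x * g⁻¹ ∈ L) ∧
      D.ocW ≤ L ∧ d ∈ L ∧
      (∀ x ∈ L, ∀ w ∈ D.ocW, w ≠ 1 → x * w = w * x → x ∈ D.ocW) ∧
      (∀ x ∈ N, x * y = y * x → ∃ v ∈ A, d * v = v * d ∧ x * v⁻¹ ∈ L) ∧
      ((Nat.card L = 12 ∧ ∀ x ∈ L, ∀ w ∈ D.ocW, x * w * x⁻¹ ∈ D.ocW) ∨
        (Nat.card L = 60 ∧ IsSimpleGroup L)) := by
  classical
  haveI : Fact (Nat.Prime 2) := ⟨Nat.prime_two⟩
  have hAc : ∀ a ∈ A, ∀ b ∈ A, a * b = b * a := by
    intro a ha b hb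
    have h := hp.sq _ (mul_mem ha hb)
    calc a * b = a * (a * b * (a * b)) * b := by rw [h, mul_one]
      _ = (a * a) * (b * a) * (b * b) := by group
      _ = b * a := by rw [hp.sq a ha, hp.sq b hb, one_mul, mul_one]
  have hWA : D.ocW ≤ A := fun w hw => hp.w_mem (D.mem_ocW.1 hw)
  have hKN : D.K ≤ N := hNK ▸ inf_le_left
  have hAN : A ≤ N := (hp.le.trans D.U_le).trans hKN
  have hywS : y ∉ wSet z D.u := fun h => hyW (D.mem_ocW.2 h)
  have hcentz : ∀ x ∈ N, x * z = z * x → x * y = y * x → x ∈ A := by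
    intro x hx hxz hxy
    rw [← hp.cent y hy hywS]
    exact ⟨hNK ▸ ⟨hx, mem_cent.2 hxz⟩, mem_cent.2 hxy⟩
  set X : Subgroup G := N ⊓ centralizer {y} with hX
  have hmemX : ∀ {x : G}, x ∈ X ↔ x ∈ N ∧ x * y = y * x := fun {x} => by
    rw [hX, Subgroup.mem_inf, mem_cent]
  have hdX : d ∈ X := hmemX.2 ⟨t.mem, hdy⟩
  have hAX : A ≤ X := fun a ha => hmemX.2 ⟨hAN ha, hAc a ha y hy⟩
  have hcentW : ∀ x ∈ X, ∀ w ∈ D.ocW, w ≠ 1 → x * w = w * x → x ∈ A := by
    intro x hx w hw hw1 hc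
    have hdA : ∀ a ∈ A, d⁻¹ * a * d ∈ A := by
      intro a ha
      have := t.norm _ (t.norm a ha)
      rw [show d⁻¹ * a * d = d⁻¹ * a * d⁻¹⁻¹ by rw [inv_inv], t.inv_eq]
      simpa [mul_assoc] using this
    have hdz : ∀ e : G, e ∈ X → e * z * e⁻¹ = w → (∀ a ∈ A, e * a * e⁻¹ ∈ A) → x ∈ A := by
      intro e he hew hen
      have hmem : e⁻¹ * x * e ∈ A := by
        have hm := hmemX.1 (mul_mem (mul_mem (inv_mem he) hx) he)
        refine hcentz _ hm.1 ?_ hm.2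
        rw [← hew] at hc
        calc e⁻¹ * x * e * z = e⁻¹ * (x * (e * z * e⁻¹)) * e := by group
          _ = z * (e⁻¹ * x * e) := by rw [hc]; group
      have := hen _ hmem
      simpa [mul_assoc] using this
    rcases D.ocW_cases hw with rfl | rfl | rfl | rfl
    · exact absurd rfl hw1
    · exact hdz 1 (one_mem _) (by simp) (by simp)
    · exact hdz d hdX t.conj_z t.norm
    · refine hdz (d * d) (mul_mem hdX hdX) ?_ fun a ha => ?_
      · rw [← t.conj_u, ← t.conj_z]; group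
      · have := t.norm _ (t.norm a ha)
        simpa [mul_assoc] using this
  -- the normalizer of `A` in `X`
  have hnorm : ∀ g ∈ X, (∀ a ∈ A, g * a * g⁻¹ ∈ A) →
      g ∈ A ∨ d⁻¹ * g ∈ A ∨ d * g ∈ A := by
    intro g hg hgn
    have hz2 : g * z * g⁻¹ ∈ D.ocW := by
      have hm := hgn z (hWA D.z_mem_ocW)
      refine hnone _ (hp.le hm) ?_ g (hmemX.1 hg).1 rfl
      exact (orderOf_injective (MulAut.conj g).toMonoidHom (MulAut.conj g).injective z).trans D.hz
    have hfixz : ∀ e ∈ X, e * z * e⁻¹ = z → e ∈ A := fun e he hez =>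
      hcentz e (hmemX.1 he).1 (mul_inv_eq_iff_eq_mul.1 hez) (hmemX.1 he).2
    rcases D.ocW_cases hz2 with e | e | e | e
    · exact absurd (conj_eq_one_iff.1 e) D.z_ne_one
    · exact Or.inl (hfixz g hg e)
    · refine Or.inr (Or.inl (hfixz _ (mul_mem (inv_mem hdX) hg) ?_))
      rw [show d⁻¹ * g * z * (d⁻¹ * g)⁻¹ = d⁻¹ * (g * z * g⁻¹) * d by group, e, t.inv_conj_u]
    · refine Or.inr (Or.inr (hfixz _ (mul_mem hdX hg) ?_))
      rw [show d * g * z * (d * g)⁻¹ = d * (g * z * g⁻¹) * d⁻¹ by group, e, t.conj_zu]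
  set A' : Subgroup X := A.subgroupOf X with hA'
  have hA'p : IsPGroup 2 A' :=
    (IsPGroup.of_card (n := 4) (by rw [hp.card]; norm_num) : IsPGroup 2 A).comap_subtype
  obtain ⟨S, hS⟩ := hA'p.exists_le_sylow
  have hSA : (S : Subgroup X) = A' := by
    by_contra hne
    have hlt : A' < S := lt_of_le_of_ne hS (Ne.symm hne)
    haveI : Group.IsNilpotent (S : Subgroup X) := S.2.isNilpotent
    have hlt' : A'.subgroupOf (S : Subgroup X) < ⊤ :=
      lt_top_iff_ne_top.2 fun h => hlt.not_ge (subgroupOf_eq_top.1 h)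
    obtain ⟨g, hg, hgA⟩ := SetLike.exists_of_lt (Group.normalizerCondition_of_isNilpotent _ hlt')
    have hgn : ∀ a ∈ A, g.1.1 * a * g.1.1⁻¹ ∈ A := fun a ha =>
      (mem_normalizer_iff.1 hg ⟨⟨a, hAX ha⟩, hS ha⟩).1 ha
    have hd : (⟨d, hdX⟩ : X) ∈ (S : Subgroup X) → False := by
      intro h
      obtain ⟨k, hk⟩ := IsPGroup.iff_orderOf.1 S.2 ⟨_, h⟩
      rw [orderOf_mk, orderOf_mk, t.order] at hk
      rcases k with _ | k
      · norm_num at hk
      · have : (2 : ℕ) ∣ 3 := hk ▸ dvd_pow_self 2 (Nat.succ_ne_zero k)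
        norm_num at this
    rcases hnorm g.1.1 g.1.2 hgn with h | h | h
    · exact hgA h
    · refine hd ?_
      have hm : (⟨d⁻¹ * g.1.1, mul_mem (inv_mem hdX) g.1.2⟩ : X) ∈ (S : Subgroup X) := hS h
      have := mul_mem g.2 (inv_mem hm)
      convert this using 1
      ext; simp
    · refine hd ?_
      have hm : (⟨d * g.1.1, mul_mem hdX g.1.2⟩ : X) ∈ (S : Subgroup X) := hS h
      have := mul_mem hm (inv_mem g.2)
      convert this using 1
      ext; simp
  haveI : IsMulCommutative (S : Subgroup X) := ⟨⟨fun a b => by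
    have ha : a.1.1 ∈ A := hSA.le a.2
    have hb : b.1.1 ∈ A := hSA.le b.2
    exact Subtype.ext (Subtype.ext (hAc _ ha _ hb))⟩⟩
  -- the odd core is trivial
  have hcore : Cfsg.oddCore X = ⊥ := by
    refine (eq_bot_iff_forall _).2 fun n hn => ?_
    have hodd : Odd (Nat.card (Cfsg.oddCore X)) :=
      Nat.coprime_two_right.1 (Core.coprime_card_pPrimeCore (p := 2) (G := X))
    have hinv : ∀ w ∈ D.ocW, w ≠ 1 → ∀ x : X, x ∈ Cfsg.oddCore X → w * x.1 * w⁻¹ = x.1⁻¹ := by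
      intro w hw hw1 x hx
      have h := oc_inverted (O := Cfsg.oddCore X) (w := ⟨w, hAX (hWA hw)⟩)
        (Subtype.ext (D.ocW_sq hw))
        (fun e he => Subgroup.Normal.conj_mem inferInstance e he _) (fun e he hec => ?_) x hx
      · exact congrArg Subtype.val h
      · have heA : e.1 ∈ A := hcentW e.1 e.2 w hw hw1 (congrArg Subtype.val hec).symm
        have h2 : orderOf e ∣ 2 := orderOf_dvd_of_pow_eq_one
          (Subtype.ext (by rw [pow_two]; exact hp.sq _ heA))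
        rcases (Nat.dvd_prime Nat.prime_two).1 h2 with h3 | h3
        · exact orderOf_eq_one_iff.1 h3
        · exfalso
          have := Subgroup.orderOf_dvd_natCard (Cfsg.oddCore X) he
          rw [h3] at this
          exact (Nat.not_even_iff_odd.2 hodd) (even_iff_two_dvd.2 this)
    have h1 := hinv z D.z_mem_ocW D.z_ne_one n hn
    have h2 := hinv D.u D.u_mem_ocW D.u_ne_one n hn
    have h3 := hinv (z * D.u) (mul_mem D.z_mem_ocW D.u_mem_ocW) D.zu_ne_one n hn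
    have h4 : n.1 = n.1⁻¹ := by
      rw [← h3, show z * D.u * n.1 * (z * D.u)⁻¹ = z * (D.u * n.1 * D.u⁻¹) * z⁻¹ by group, h2,
        show z * n.1⁻¹ * z⁻¹ = (z * n.1 * z⁻¹)⁻¹ by group, h1, inv_inv]
    by_contra hne
    have h5 : orderOf n = 2 := orderOf_eq_prime
      (Subtype.ext (by rw [pow_two]; exact mul_eq_one_iff_eq_inv.2 h4)) hne
    have := Subgroup.orderOf_dvd_natCard (Cfsg.oddCore X) hn
    rw [h5] at this
    exact (Nat.not_even_iff_odd.2 hodd) (even_iff_two_dvd.2 this)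
  -- the fixed points of `d` in `A` are isolated, hence central
  have hfus : ∀ v ∈ A, d * v = v * d → ∀ g : X, g.1 * v * g.1⁻¹ ∈ A → g.1 * v * g.1⁻¹ = v := by
    intro v hv hdv g hg
    obtain ⟨n, hn, he⟩ := S.conj_eq_normalizer_conj_of_mem (⟨v, hAX hv⟩ : X) g⁻¹
      (hSA.ge hv : (⟨v, hAX hv⟩ : X) ∈ (S : Subgroup X)) (hSA.ge (by
        change g⁻¹⁻¹.1 * v * g⁻¹.1 ∈ A
        simpa using hg))
    have he' : g.1 * v * g.1⁻¹ = n.1⁻¹ * v * n.1 := by
      have := congrArg Subtype.val he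
      simpa using this
    rw [he']
    have hnc : ∀ e : X, e ∈ normalizer ((S : Subgroup X) : Set X) → e.1 * v = v * e.1 := by
      intro e hen
      have hen' : ∀ a ∈ A, e.1 * a * e.1⁻¹ ∈ A := by
        intro a ha
        have := (mem_normalizer_iff.1 hen ⟨a, hAX ha⟩).1 (by rw [hSA]; exact ha)
        rw [hSA] at this
        exact this
      have hvd : Commute v d := hdv.symm
      rcases hnorm e.1 e.2 hen' with h | h | h
      · exact hAc _ h _ hv
      · have h' : Commute v (d⁻¹ * e.1) := (hAc _ hv _ h)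
        have := (hvd.mul_right h').eq
        rw [mul_inv_cancel_left] at this
        exact this.symm
      · have h' : Commute v (d * e.1) := (hAc _ hv _ h)
        have := (hvd.inv_right.mul_right h').eq
        rw [inv_mul_cancel_left] at this
        exact this.symm
    rw [mul_assoc, ← hnc n hn, inv_mul_cancel_left]
  have hcen : ∀ v ∈ A, d * v = v * d → ∀ g : X, g.1 * v = v * g.1 := by
    intro v hv hdv g
    rcases eq_or_ne v 1 with rfl | hv1
    · simp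
    set v' : X := ⟨v, hAX hv⟩
    have hord : orderOf v' = 2 :=
      orderOf_two_of_sq (Subtype.ext (hp.sq v hv)) fun h => hv1 (congrArg Subtype.val h)
    have hiso : Cfsg.IsIsolatedInvolution v' := by
      refine ⟨hord, fun k hk => ?_⟩
      have hord2 : orderOf (k * v' * k⁻¹) = 2 :=
        (orderOf_injective (MulAut.conj k).toMonoidHom (MulAut.conj k).injective v').trans hord
      have hpz : ∀ e : X, orderOf e = 2 → IsPGroup 2 (zpowers e) := fun e he =>
        IsPGroup.of_card (n := 1) (by rw [Nat.card_zpowers, he, pow_one])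
      have hle : zpowers v' ≤ normalizer ((zpowers (k * v' * k⁻¹) : Subgroup X) : Set X) := by
        rw [zpowers_le]
        refine centralizer_le_normalizer _ (mem_centralizer_iff.2 ?_)
        rintro _ ⟨i, rfl⟩
        exact ((hk.zpow_right i).eq).symm
      obtain ⟨R, hR⟩ := ((hpz _ hord).to_sup_of_normal_right' (hpz _ hord2) hle).exists_le_sylow
      obtain ⟨c, hc⟩ := MulAction.exists_smul_eq X R S
      have hin : ∀ e : X, e ∈ (R : Subgroup X) → (c * e * c⁻¹).1 ∈ A := by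
        intro e he
        have : c * e * c⁻¹ ∈ (S : Subgroup X) := by
          rw [← hc]; exact ⟨e, he, rfl⟩
        rw [hSA] at this
        exact this
      have h1 := hfus v hv hdv c (hin _ (hR (le_sup_left (a := zpowers v') (mem_zpowers v'))))
      have h2 := hfus v hv hdv (c * k) (by
        have := hin _ (hR (le_sup_right (b := zpowers (k * v' * k⁻¹))
          (mem_zpowers (k * v' * k⁻¹))))
        simpa [v', mul_assoc] using this)
      apply Subtype.ext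
      change k.1 * v * k.1⁻¹ = v
      have h3 : c.1 * (k.1 * v * k.1⁻¹) * c.1⁻¹ = c.1 * v * c.1⁻¹ := by
        rw [h1]
        simpa [mul_assoc] using h2
      exact mul_left_cancel (mul_right_cancel h3)
    obtain ⟨o, ho, hoc⟩ := Invol.isolated_decomp hiso g
    rw [hcore, mem_bot] at ho
    rw [ho, inv_one, one_mul] at hoc
    exact congrArg Subtype.val hoc.eq
  refine ⟨fun v hv hdv x hx hxy => hcen v hv hdv ⟨x, hmemX.2 ⟨hx, hxy⟩⟩, ?_⟩
  -- transfer to `A / W`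
  set B : Subgroup (S : Subgroup X) := (D.ocW.subgroupOf X).subgroupOf (S : Subgroup X) with hB
  letI : CommGroup (S : Subgroup X) :=
    { (S : Subgroup X).toGroup with mul_comm := fun a b => IsMulCommutative.is_comm.comm a b }
  have hmk : ∀ a : (S : Subgroup X), (QuotientGroup.mk a : (S : Subgroup X) ⧸ B) = 1 ↔
      a.1.1 ∈ D.ocW := fun a => QuotientGroup.eq_one_iff a
  set φ : (S : Subgroup X) →* (S : Subgroup X) ⧸ B := QuotientGroup.mk' B with hφ
  set T : X →* (S : Subgroup X) ⧸ B := φ.transfer with hT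
  have hsq : ∀ q : (S : Subgroup X) ⧸ B, q * q = 1 := by
    intro q
    obtain ⟨a, rfl⟩ := QuotientGroup.mk_surjective q
    rw [← QuotientGroup.mk_mul, hmk]
    have ha : a.1.1 ∈ A := hSA.le a.2
    change a.1.1 * a.1.1 ∈ D.ocW
    rw [hp.sq _ ha]
    exact one_mem _
  have hTd : T ⟨d, hdX⟩ = 1 := by
    have h3 : (⟨d, hdX⟩ : X) * ⟨d, hdX⟩ * ⟨d, hdX⟩ = 1 := Subtype.ext t.pow3
    have := congrArg T h3
    rwa [map_mul, map_mul, map_one, hsq, one_mul] at this
  have hTW : ∀ w (hw : w ∈ D.ocW), T ⟨w, hAX (hWA hw)⟩ = 1 := by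
    intro w hw
    obtain ⟨w', hw', he⟩ := t.ocW_le hw
    have he' : (⟨w, hAX (hWA hw)⟩ : X) =
        ⟨d, hdX⟩ * ⟨w', hAX (hWA hw')⟩ * (⟨d, hdX⟩ : X)⁻¹ * (⟨w', hAX (hWA hw')⟩ : X)⁻¹ :=
      Subtype.ext he.symm
    rw [he', map_mul, map_mul, map_mul, map_inv, map_inv, hTd, one_mul, inv_one, mul_one,
      mul_inv_cancel]
  have hTv : ∀ v (hv : v ∈ A), d * v = v * d →
      T ⟨v, hAX hv⟩ = φ ⟨⟨v, hAX hv⟩, by rw [hSA]; exact hv⟩ := by
    intro v hv hdv
    rw [hT, MonoidHom.transfer_eq_pow φ (⟨v, hAX hv⟩ : X) (fun k g _ => ?_)]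
    · congr 1
      ext
      change v ^ (S : Subgroup X).index = v
      obtain ⟨m, hm⟩ : Odd (S : Subgroup X).index :=
        Nat.odd_iff.2 (Nat.two_dvd_ne_zero.1 S.not_dvd_index)
      rw [hm, pow_succ, pow_mul, pow_two, hp.sq v hv, one_pow, one_mul]
    · apply Subtype.ext
      have hc : Commute g.1 (v ^ k) := Commute.pow_right (hcen v hv hdv g) k
      change g.1⁻¹ * v ^ k * g.1 = v ^ k
      rw [mul_assoc, ← hc.eq, inv_mul_cancel_left]
  set L : Subgroup G := T.ker.map X.subtype with hL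
  have hmemL : ∀ x : X, x.1 ∈ L ↔ T x = 1 := fun x => by
    rw [hL, mem_map]
    refine ⟨?_, fun h => ⟨x, h, rfl⟩⟩
    rintro ⟨x', hx', he⟩
    obtain rfl : x' = x := Subtype.ext he
    exact hx'
  have hLX : L ≤ X := map_subtype_le _
  have hLA : ∀ a ∈ A, a ∈ L → a ∈ D.ocW := by
    intro a ha haL
    obtain ⟨v, hv, hdv, haw⟩ := oc_fixed_in_coset t hp.sq hWA ha
    have h1 : T ⟨a, hAX ha⟩ = 1 := (hmemL _).1 haL
    have h2 : (⟨a, hAX ha⟩ : X) = ⟨a * v⁻¹, hAX (hWA haw)⟩ * ⟨v, hAX hv⟩ :=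
      Subtype.ext (by simp)
    rw [h2, map_mul, hTW _ haw, one_mul, hTv v hv hdv] at h1
    have hvW := (hmk _).1 h1
    have := mul_mem haw hvW
    simpa using this
  have hLcent : ∀ x ∈ L, ∀ w ∈ D.ocW, w ≠ 1 → x * w = w * x → x ∈ D.ocW := fun x hx w hw hw1 hc =>
    hLA x (hcentW x (hLX hx) w hw hw1 hc) hx
  have hWL : D.ocW ≤ L := fun w hw => (hmemL ⟨w, hAX (hWA hw)⟩).2 (hTW w hw)
  have hdL : d ∈ L := (hmemL ⟨d, hdX⟩).2 hTd
  refine ⟨L, fun x hx => (hmemX.1 (hLX hx)).1, fun x hx => (hmemX.1 (hLX hx)).2, ?_, hWL, hdL,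
    hLcent, ?_, ?_⟩
  · intro g hg hgy x hx
    have hgX : g ∈ X := hmemX.2 ⟨hg, hgy⟩
    have h := (hmemL ⟨x, hLX hx⟩).1 hx
    refine (hmemL (⟨g, hgX⟩ * ⟨x, hLX hx⟩ * (⟨g, hgX⟩ : X)⁻¹)).2 ?_
    rw [map_mul, map_mul, map_inv, h, mul_one, mul_inv_cancel]
  · intro x hx hxy
    have hxX : x ∈ X := hmemX.2 ⟨hx, hxy⟩
    obtain ⟨a, ha⟩ := QuotientGroup.mk_surjective (T ⟨x, hxX⟩)
    have haA : a.1.1 ∈ A := hSA.le a.2
    obtain ⟨v, hv, hdv, haw⟩ := oc_fixed_in_coset t hp.sq hWA haA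
    refine ⟨v, hv, hdv, (hmemL (⟨x, hxX⟩ * (⟨v, hAX hv⟩ : X)⁻¹)).2 ?_⟩
    rw [map_mul, map_inv, hTv v hv hdv, ← ha, mul_inv_eq_one]
    apply QuotientGroup.eq.2
    change a.1.1⁻¹ * v ∈ D.ocW
    have := inv_mem haw
    rw [mul_inv_rev, inv_inv] at this
    rwa [hAc v hv _ (inv_mem haA)] at this
  · set WL : Subgroup L := D.ocW.subgroupOf L with hWLdef
    have hWL4 : Nat.card WL = 4 := by
      rw [hWLdef, Nat.card_congr (subgroupOfEquivOfLe hWL).toEquiv, D.card_ocW]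
    have hdn : (⟨d, hdL⟩ : L) ∈ normalizer (WL : Set L) := by
      refine mem_normalizer_iff.2 fun x => ⟨fun hx => t.conj_ocW hx, fun hx => ?_⟩
      have := t.inv_conj_ocW (w := d * x.1 * d⁻¹) hx
      simpa [WL, mem_subgroupOf, mul_assoc] using this
    have hres := four_self_cent WL hWL4 (fun w hw => Subtype.ext (D.ocW_sq hw))
      (fun w hw hw1 x hx => hLcent x.1 x.2 w.1 hw (fun h => hw1 (Subtype.ext h))
        (congrArg Subtype.val (mem_centralizer_singleton_iff.1 hx))) ?_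
    · rcases hres with ⟨h12, hn⟩ | h60
      · exact Or.inl ⟨h12, fun x hx w hw => hn.conj_mem ⟨w, hWL hw⟩ hw ⟨x, hx⟩⟩
      · exact Or.inr h60
    intro w hw hw1 w' hw' hw'1
    have key : ∀ a ∈ D.ocW, a ≠ 1 → ∃ k : L, k ∈ normalizer (WL : Set L) ∧
        k.1 * z * k.1⁻¹ = a := by
      intro a ha ha1
      rcases D.ocW_cases ha with rfl | rfl | rfl | rfl
      · exact absurd rfl ha1
      · exact ⟨1, one_mem _, by simp⟩
      · exact ⟨⟨d, hdL⟩, hdn, t.conj_z⟩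
      · refine ⟨⟨d, hdL⟩ * ⟨d, hdL⟩, mul_mem hdn hdn, ?_⟩
        rw [← t.conj_u, ← t.conj_z]
        simp [mul_assoc]
    obtain ⟨k, hk, hke⟩ := key w.1 hw (fun h => hw1 (Subtype.ext h))
    obtain ⟨k', hk', hke'⟩ := key w'.1 hw' (fun h => hw'1 (Subtype.ext h))
    refine ⟨k' * k⁻¹, mul_mem hk' (inv_mem hk), Subtype.ext ?_⟩
    change k'.1 * k.1⁻¹ * w.1 * (k'.1 * k.1⁻¹)⁻¹ = w'.1
    rw [← hke, ← hke']
    group

end Cfsg.Agent.PGammaThreeFour
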