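import Cfsg.Agent.PGammaThreeFour.Basics
import Cfsg.Agent.TwoTransfer.Basic
import Cfsg.Agent.Coprime.Tools

/-!
# Fusion of the outer involutions, and a normal subgroup of index 4
-/

set_option autoImplicit false

namespace Cfsg.Agent.PGammaThreeFour

open Subgroup

variable {G : Type*} [Group G] [Finite G]

/-- Generalised Thompson transfer lemma, recording part of the kernel. -/
theorem exists_index_two' (S : Sylow 2 G) (M : Subgroup G) (hM : M.relIndex S = 2)
    {x : G} (hx : x ∈ S) (hx2 : x * x = 1)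
    (hfix : ∀ g : G, g⁻¹ * x * g ∈ S → g⁻¹ * x * g ∉ M) :
    ∃ N : Subgroup G, N.Normal ∧ N.index = 2 ∧ x ∉ N ∧
      ∀ y : G, (∀ (k : ℕ) (g : G), g⁻¹ * y ^ k * g ∈ S → g⁻¹ * y ^ k * g ∈ M) → y ∈ N := by
  classical
  have hM' : (M.subgroupOf (S : Subgroup G)).index = 2 := hM
  set θ := TwoTransfer.sgn (M.subgroupOf (S : Subgroup G)) hM' with hθ
  set φ := MonoidHom.transfer θ with hφ
  have hker : ∀ y : G, (∀ (k : ℕ) (g : G), g⁻¹ * y ^ k * g ∈ S → g⁻¹ * y ^ k * g ∈ M) →
      φ y = 1 := by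
    intro y hy
    let : Fintype (Quotient (MulAction.orbitRel (zpowers y) (G ⧸ (S : Subgroup G)))) :=
      Fintype.ofFinite _
    rw [hφ, MonoidHom.transfer_eq_prod_quotient_orbitRel_zpowers_quot]
    refine Finset.prod_eq_one fun q _ => ?_
    rw [hθ, TwoTransfer.sgn_apply_of_mem]
    have hmem := QuotientGroup.out_conj_pow_minimalPeriod_mem (S : Subgroup G) y q.out
    simp only [Subgroup.mem_subgroupOf] at hmem ⊢
    exact hy _ _ hmem
  let : Fintype (Quotient (MulAction.orbitRel (zpowers x) (G ⧸ (S : Subgroup G)))) :=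
    Fintype.ofFinite _
  have hval : ∀ q : Quotient (MulAction.orbitRel (zpowers x) (G ⧸ (S : Subgroup G))),
      θ ⟨_, QuotientGroup.out_conj_pow_minimalPeriod_mem (S : Subgroup G) x q.out⟩ =
        Multiplicative.ofAdd ((Function.minimalPeriod (x • ·) q.out : ℕ) : ZMod 2) := by
    intro q
    have hmem := QuotientGroup.out_conj_pow_minimalPeriod_mem (S : Subgroup G) x q.out
    have hd : Function.minimalPeriod (x • ·) q.out ∣ 2 := by
      apply Function.IsPeriodicPt.minimalPeriod_dvd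
      simp only [Function.IsPeriodicPt, Function.IsFixedPt, smul_iterate, pow_two, hx2, one_smul]
    rcases (Nat.dvd_prime Nat.prime_two).1 hd with hk | hk
    · rw [hθ, TwoTransfer.sgn_apply_of_notMem]
      · simp [hk]
      · simp only [hk, pow_one, Subgroup.mem_subgroupOf] at hmem ⊢
        exact hfix _ hmem
    · rw [hθ, TwoTransfer.sgn_apply_of_mem]
      · rw [hk]; rfl
      · simp only [hk, Subgroup.mem_subgroupOf, pow_two, hx2, mul_one, inv_mul_cancel]
        exact one_mem _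
  have hsum : φ x = Multiplicative.ofAdd (((S : Subgroup G).index : ℕ) : ZMod 2) := by
    rw [hφ, MonoidHom.transfer_eq_prod_quotient_orbitRel_zpowers_quot]
    simp only [hval]
    rw [← ofAdd_sum, ← Nat.cast_sum, ← Subgroup.index_eq_sum_minimalPeriod]
  have hodd : (((S : Subgroup G).index : ℕ) : ZMod 2) = 1 := by
    have h2 : ¬ 2 ∣ (S : Subgroup G).index := S.not_dvd_index
    rw [ZMod.natCast_eq_one_iff_odd]
    exact Nat.odd_iff.2 (by omega)
  rw [hodd] at hsum
  refine ⟨φ.ker, inferInstance, ?_, by simp [MonoidHom.mem_ker, hsum], hker⟩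
  rw [Subgroup.index_ker]
  have : φ.range = ⊤ := by
    rw [eq_top_iff]
    rintro a -
    have key : a = 1 ∨ a = Multiplicative.ofAdd 1 := by revert a; decide
    rcases key with rfl | rfl
    · exact one_mem _
    · exact ⟨x, hsum⟩
  rw [this, Subgroup.card_top]
  simp

/-- The involution `z` is the only involution which is a square in `Q`. -/
def OnlySquare (z : G) (Q : Subgroup G) : Prop :=
  (∀ p ∈ Q, orderOf (p * p) = 2 → p * p = z) ∧ ∃ p ∈ Q, p * p = z

namespace HData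

variable {z : G} (D : HData z)
include D

theorem exists_outer_sylow {y : G} (hy : y ∈ centralizer ({z} : Set G)) (hy2 : orderOf y = 2)
    (hyK : y ∉ D.K) :
    ∃ Q : Sylow 2 (centralizer ({y} : Set G)),
      OnlySquare z ((Q : Subgroup (centralizer ({y} : Set G))).map
        (centralizer ({y} : Set G)).subtype) ∧
      (Q : Subgroup (centralizer ({y} : Set G))).map (centralizer ({y} : Set G)).subtype ≤
        centralizer {z} := by
  haveI : Fact (Nat.Prime 2) := ⟨Nat.prime_two⟩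
  obtain ⟨hsq, p, hp, hpy, hpz⟩ := D.outer_sq y hy hy2 hyK
  set C := centralizer ({y} : Set G) with hC
  set Hy : Subgroup C := (centralizer ({z} : Set G)).subgroupOf C with hHy
  have hp4 : p ^ (2 ^ 2) = 1 := by
    rw [show (2 : ℕ) ^ 2 = 2 + 2 from rfl, pow_add, pow_two, hpz, D.z_sq']
  let pH : Hy := ⟨⟨p, mem_cent.2 hpy⟩, hp⟩
  have hpg : IsPGroup 2 (zpowers pH) := by
    have : pH ^ (2 ^ 2) = 1 := Subtype.ext (Subtype.ext (by simpa [pH] using hp4))
    rintro ⟨w, k, rfl⟩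
    refine ⟨2, Subtype.ext ?_⟩
    rw [SubmonoidClass.coe_pow]
    show (pH ^ k) ^ (2 ^ 2) = 1
    rw [← zpow_natCast, ← zpow_mul, mul_comm, zpow_mul, zpow_natCast, this, one_zpow]
  obtain ⟨Q₀, hQ₀⟩ := hpg.exists_le_sylow
  set Q₁ : Subgroup C := (Q₀ : Subgroup Hy).map Hy.subtype with hQ₁
  have hQ₁p : IsPGroup 2 Q₁ := Q₀.2.map _
  obtain ⟨Q, hQ⟩ := hQ₁p.exists_le_sylow
  have hOS : OnlySquare z (Q₁.map C.subtype) := by
    refine ⟨?_, p, ⟨_, ⟨pH, hQ₀ (mem_zpowers _), rfl⟩, rfl⟩, hpz⟩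
    rintro _ ⟨_, ⟨x, -, rfl⟩, rfl⟩ hx
    exact hsq _ x.2 (mem_cent.1 x.1.2) hx
  have hmemz : ∀ x : C, x ∈ Q₁ → (x : G) ∈ centralizer ({z} : Set G) := by
    rintro _ ⟨x, -, rfl⟩
    exact x.2
  have heq : Q₁ = Q := by
    by_contra hne
    have hlt : Q₁ < Q := lt_of_le_of_ne hQ hne
    obtain ⟨r, hrQ, hrQ₁, hr⟩ : ∃ r ∈ (Q : Subgroup C), r ∉ Q₁ ∧ r ∈ normalizer (Q₁ : Set C) := by
      haveI : Group.IsNilpotent (Q : Subgroup C) := Q.2.isNilpotent
      have hlt' : Q₁.subgroupOf (Q : Subgroup C) < ⊤ := by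
        rw [lt_top_iff_ne_top]
        intro h
        exact hlt.not_ge (subgroupOf_eq_top.1 h)
      obtain ⟨r, hr, hr'⟩ := SetLike.exists_of_lt (Group.normalizerCondition_of_isNilpotent _ hlt')
      refine ⟨r, r.2, hr', ?_⟩
      rw [mem_normalizer_iff] at hr ⊢
      intro x
      constructor
      · intro hx
        exact (hr ⟨x, hQ hx⟩).1 hx
      · intro hx
        have hxQ : x ∈ (Q : Subgroup C) := by
          have := mul_mem (mul_mem (inv_mem r.2) (hQ hx)) r.2
          simpa [mul_assoc] using this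
        exact (hr ⟨x, hxQ⟩).2 hx
    have hzfix : (r : G) * z * (r : G)⁻¹ = z := by
      have h1 : r * (pH : C) * r⁻¹ ∈ Q₁ :=
        (mem_normalizer_iff.1 hr _).1 ⟨pH, hQ₀ (mem_zpowers _), rfl⟩
      have h2 := hOS.1 _ ⟨_, h1, rfl⟩
      have e : (r : G) * p * (r : G)⁻¹ * ((r : G) * p * (r : G)⁻¹) = (r : G) * z * (r : G)⁻¹ := by
        rw [← hpz]; group
      simp only [pH, Subgroup.coe_subtype, Subgroup.coe_mul, Subgroup.coe_inv, e] at h2
      refine h2 ?_
      rw [orderOf_conj_eq]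
      exact D.hz
    have hrH : r ∈ Hy := mem_cent.2 (mul_inv_eq_iff_eq_mul.1 hzfix)
    apply hrQ₁
    have hle : (Q₀ : Subgroup Hy) ≤ (Q : Subgroup C).subgroupOf Hy := fun x hx => hQ ⟨x, hx, rfl⟩
    have := Q₀.3 (Q.2.comap_subtype (K := Hy)) hle
    have : (⟨r, hrH⟩ : Hy) ∈ (Q₀ : Subgroup Hy) := this ▸ (show _ ∈ _ from hrQ)
    exact ⟨_, this, rfl⟩
  refine ⟨Q, by rw [← heq]; exact hOS, ?_⟩
  rw [← heq]
  rintro _ ⟨x, hx, rfl⟩
  exact hmemz x hx
where
  orderOf_conj_eq {r x : G} : orderOf (r * x * r⁻¹) = orderOf x :=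
    orderOf_injective (MulAut.conj r).toMonoidHom (MulAut.conj r).injective x

theorem isConj_outer {y : G} (hy : y ∈ centralizer ({z} : Set G)) (hy2 : orderOf y = 2)
    (hyK : y ∉ D.K) {g : G} (hg : g * y * g⁻¹ ∈ centralizer ({z} : Set G)) :
    g * y * g⁻¹ ∉ D.K ∧ ∃ h ∈ centralizer ({z} : Set G), h * y * h⁻¹ = g * y * g⁻¹ := by
  haveI : Fact (Nat.Prime 2) := ⟨Nat.prime_two⟩
  obtain ⟨Q, hQ, hQH⟩ := D.exists_outer_sylow hy hy2 hyK
  set y' := g * y * g⁻¹ with hy'
  have hy'2 : orderOf y' = 2 := by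
    rw [← hy2]; exact orderOf_injective (MulAut.conj g).toMonoidHom (MulAut.conj g).injective y
  -- conjugation by `g⁻¹` maps `C(y')` to `C(y)`
  let f : centralizer ({y'} : Set G) →* centralizer ({y} : Set G) :=
    { toFun := fun x => ⟨g⁻¹ * x * g, mem_cent.2 (by
        have := mem_cent.1 x.2
        calc g⁻¹ * x * g * y = g⁻¹ * (x * (g * y * g⁻¹)) * g := by group
          _ = g⁻¹ * ((g * y * g⁻¹) * x) * g := congrArg (fun t => g⁻¹ * t * g) this
          _ = y * (g⁻¹ * x * g) := by group)⟩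
      map_one' := Subtype.ext (by simp)
      map_mul' := fun a b => Subtype.ext (by simp [mul_assoc]) }
  -- every 2-subgroup of `C(y')` is conjugate to one inside `Q`
  have key : ∀ P : Subgroup (centralizer ({y'} : Set G)), IsPGroup 2 P →
      ∃ c : G, c * y' * c⁻¹ = y ∧ ∀ x ∈ P,
        c * (x : G) * c⁻¹ ∈ (Q : Subgroup _).map (centralizer ({y} : Set G)).subtype := by
    intro P hP
    obtain ⟨R, hR⟩ := (hP.map f).exists_le_sylow
    obtain ⟨d, hd⟩ := MulAction.exists_smul_eq (centralizer ({y} : Set G)) R Q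
    refine ⟨(d : G) * g⁻¹, ?_, fun x hx => ⟨d * f x * d⁻¹, ?_, ?_⟩⟩
    · calc (d : G) * g⁻¹ * y' * ((d : G) * g⁻¹)⁻¹ = (d : G) * y * (d : G)⁻¹ := by rw [hy']; group
        _ = y := by rw [mem_cent.1 d.2, mul_inv_cancel_right]
    · rw [← hd, Sylow.coe_subgroup_smul]
      exact ⟨f x, hR ⟨x, hx, rfl⟩, rfl⟩
    · simp [f, mul_assoc]
  have hy'K : y' ∉ D.K := by
    intro hK
    obtain ⟨Q', hQ'le, hQ'2, p, hp, q, hq, hp2, hq2, hne⟩ :=
      D.inner_sq y' (D.involution_mem_U hK hy'2) hy'2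
    obtain ⟨c, -, hc⟩ := key (Q'.subgroupOf _) hQ'2.comap_subtype
    have hval : ∀ x ∈ Q', orderOf (x * x) = 2 → c * (x * x) * c⁻¹ = z := by
      intro x hx hx2
      have := hQ.1 _ (hc ⟨x, (hQ'le hx).2⟩ hx) (by
        rw [show c * x * c⁻¹ * (c * x * c⁻¹) = c * (x * x) * c⁻¹ by group, ← hx2]
        exact orderOf_injective (MulAut.conj c).toMonoidHom (MulAut.conj c).injective _)
      rw [← this]; group
    exact hne (by simpa using (hval p hp hp2).trans (hval q hq hq2).symm)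
  refine ⟨hy'K, ?_⟩
  obtain ⟨Q', hQ', -⟩ := D.exists_outer_sylow hg hy'2 hy'K
  obtain ⟨c, hcy, hc⟩ := key Q' Q'.2
  obtain ⟨p, hp, hpz⟩ := hQ'.2
  obtain ⟨x, hx, rfl⟩ := hp
  have hz2 : orderOf (c * z * c⁻¹) = 2 := by
    rw [← D.hz]; exact orderOf_injective (MulAut.conj c).toMonoidHom (MulAut.conj c).injective z
  have hcz : c * z * c⁻¹ = z := by
    have h := hQ.1 _ (hc x hx)
    rw [show c * (x : G) * c⁻¹ * (c * x * c⁻¹) = c * ((x : G) * x) * c⁻¹ by group] at h
    simp only [Subgroup.coe_subtype] at hpz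
    rw [hpz] at h
    exact h hz2
  refine ⟨c⁻¹, inv_mem (mem_cent.2 (mul_inv_eq_iff_eq_mul.1 hcz)), ?_⟩
  rw [inv_inv, ← hcy]; group

theorem not_isConj_z {y : G} (hy : y ∈ centralizer ({z} : Set G)) (hy2 : orderOf y = 2)
    (hyK : y ∉ D.K) : ¬ IsConj y z := by
  intro h
  obtain ⟨g, hg⟩ := isConj_iff.1 h
  have := (D.isConj_outer hy hy2 hyK (g := g) (by rw [hg]; exact D.z_mem_H)).1
  rw [hg] at this
  exact this (D.U_le D.z_mem)

theorem card_sylow (S : Sylow 2 G) (hS : (S : Subgroup G) ≤ centralizer {z}) :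
    Nat.card S = 256 := by
  haveI : Fact (Nat.Prime 2) := ⟨Nat.prime_two⟩
  have h1 : Nat.card S ∣ 768 := D.card_H ▸ Subgroup.card_dvd_of_le hS
  obtain ⟨n, hn⟩ := IsPGroup.iff_card.1 S.2
  have h2 : n ≤ 8 := by
    by_contra h
    have : 2 ^ 9 ∣ Nat.card S := hn ▸ pow_dvd_pow 2 (by omega)
    have := this.trans h1
    norm_num at this
  have h3 : 2 ^ 8 ∣ Nat.card S := by
    apply S.pow_dvd_card_of_pow_dvd_card
    exact (show 2 ^ 8 ∣ 768 by norm_num).trans (D.card_H ▸ Subgroup.card_subgroup_dvd_card _)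
  rw [hn] at h3 ⊢
  have := Nat.le_of_dvd (by positivity) h3
  rw [Nat.pow_le_pow_iff_right (by norm_num)] at this
  rw [show n = 8 by omega]
  norm_num

theorem exists_sylow_le : ∃ S : Sylow 2 G, (S : Subgroup G) ≤ centralizer {z} := by
  haveI : Fact (Nat.Prime 2) := ⟨Nat.prime_two⟩
  haveI := D.finite_H
  obtain ⟨S₀⟩ : Nonempty (Sylow 2 (centralizer ({z} : Set G))) := inferInstance
  set S₁ := (S₀ : Subgroup (centralizer ({z} : Set G))).map (centralizer ({z} : Set G)).subtype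
  have hcard : Nat.card S₁ = 256 := by
    rw [Nat.card_congr (equivMapOfInjective _ _ (centralizer ({z} : Set G)).subtype_injective).symm.toEquiv,
      S₀.card_eq_multiplicity, D.card_H]
    rw [show (768 : ℕ) = 2 ^ 8 * 3 from rfl]
    rw [Nat.factorization_mul (by norm_num) (by norm_num), Nat.Prime.factorization_pow Nat.prime_two]
    simp [Nat.prime_three.factorization]
  obtain ⟨S, hS⟩ := (S₀.2.map (centralizer ({z} : Set G)).subtype).exists_le_sylow
  refine ⟨S, ?_⟩
  by_contra hle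
  have hlt : S₁ < (S : Subgroup G) :=
    lt_of_le_of_ne hS fun e => hle (e ▸ Subgroup.map_subtype_le _)
  haveI : Group.IsNilpotent (S : Subgroup G) := S.2.isNilpotent
  have hlt' : S₁.subgroupOf (S : Subgroup G) < ⊤ := by
    rw [lt_top_iff_ne_top]; intro h; exact hlt.not_ge (subgroupOf_eq_top.1 h)
  obtain ⟨r, hr, hr'⟩ := SetLike.exists_of_lt (Group.normalizerCondition_of_isNilpotent _ hlt')
  have hz1 : z ∈ S₁ := by
    let zz : centralizer ({z} : Set G) := ⟨z, D.z_mem_H⟩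
    have hp : IsPGroup 2 (zpowers zz) := by
      have : Nat.card (zpowers zz) = 2 ^ 1 := by
        rw [Nat.card_zpowers, pow_one, ← D.hz,
          ← orderOf_injective (centralizer ({z} : Set G)).subtype (subtype_injective _) zz]
        rfl
      exact IsPGroup.of_card this
    obtain ⟨R, hR⟩ := hp.exists_le_sylow
    obtain ⟨d, hd⟩ := MulAction.exists_smul_eq (centralizer ({z} : Set G)) R S₀
    refine ⟨zz, ?_, rfl⟩
    rw [← hd, Sylow.coe_subgroup_smul]
    refine ⟨zz, hR (mem_zpowers _), Subtype.ext ?_⟩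
    simp [zz, mem_cent.1 d.2]
  have hrz : (r : G) * z * (r : G)⁻¹ ∈ S₁ := by
    have := (mem_normalizer_iff.1 hr ⟨z, hS hz1⟩).1 hz1
    exact this
  have hc := D.sylow_center S₁ (map_subtype_le _) hcard _ hrz (fun y hy => by
    have hy' : (r : G)⁻¹ * y * r ∈ S₁ := by
      have := (mem_normalizer_iff.1 hr ⟨(r : G)⁻¹ * y * r,
        mul_mem (mul_mem (inv_mem r.2) (hS hy)) r.2⟩).2 (by
          simpa [mem_subgroupOf, mul_assoc] using hy)
      exact this
    have := mem_cent.1 (map_subtype_le _ hy')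
    calc (r : G) * z * (r : G)⁻¹ * y = r * (z * ((r : G)⁻¹ * y * r)) * (r : G)⁻¹ := by group
      _ = r * (((r : G)⁻¹ * y * r) * z) * (r : G)⁻¹ := by rw [this]
      _ = y * ((r : G) * z * (r : G)⁻¹) := by group)
  rcases hc with h | h
  · exact D.z_ne_one (conj_eq_one_iff.1 h)
  · apply hr'
    rw [mem_subgroupOf]
    have hrH : (r : G) ∈ centralizer ({z} : Set G) := mem_cent.2 (mul_inv_eq_iff_eq_mul.1 h)
    have hle' : (S₀ : Subgroup _) ≤ (S : Subgroup G).subgroupOf (centralizer ({z} : Set G)) :=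
      fun x hx => hS ⟨x, hx, rfl⟩
    have heq := S₀.3 S.2.comap_subtype hle'
    refine ⟨⟨r, hrH⟩, ?_, rfl⟩
    rw [← heq]
    exact r.2

/-- The subgroup `K ∪ xK` for an involution `x` of `H`. -/
theorem mem_sup_iff {x : G} (hx : x ∈ centralizer ({z} : Set G)) (hx2 : x * x = 1) {h : G} :
    h ∈ D.K ⊔ zpowers x ↔ h ∈ D.K ∨ x * h ∈ D.K := by
  constructor
  · intro h'
    rw [Coprime.mem_sup_of_le_normalizer (zpowers_le.2 (D.K_normal hx))] at h'
    obtain ⟨k, hk, w, ⟨n, rfl⟩, rfl⟩ := h'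
    rcases Int.even_or_odd n with ⟨m, rfl⟩ | ⟨m, rfl⟩
    · left
      have e : x ^ (m + m) = 1 := by
        rw [← two_mul, zpow_mul, zpow_two, hx2, one_zpow]
      simpa [e] using hk
    · right
      have e : x ^ (2 * m + 1) = x := by
        rw [zpow_add, zpow_mul, zpow_two, hx2, one_zpow, one_mul, zpow_one]
      have := conj_mem_of_normal D.K_normal hx hk
      rw [inv_eq_of_mul_eq_one_right hx2] at this
      simpa [e, mul_assoc] using this
  · rintro (h' | h')
    · exact mem_sup_left h'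
    · have : h = x * (x * h) := by rw [← mul_assoc, hx2, one_mul]
      rw [this]
      exact mul_mem (mem_sup_right (mem_zpowers x)) (mem_sup_left h')

theorem exists_kernel {x y : G} (hx : x ∈ centralizer ({z} : Set G)) (hx2 : orderOf x = 2)
    (hxK : x ∉ D.K) (hy : y ∈ centralizer ({z} : Set G)) (hy2 : orderOf y = 2)
    (hyK : y ∉ D.K) (hxy : y * x ∉ D.K) :
    ∃ N : Subgroup G, N.Normal ∧ N.index = 2 ∧ x ∉ N ∧ y ∈ N := by
  haveI : Fact (Nat.Prime 2) := ⟨Nat.prime_two⟩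
  haveI := D.finite_H
  obtain ⟨S, hS⟩ := D.exists_sylow_le
  have hcl : ∀ w : G, w ∈ centralizer ({z} : Set G) → orderOf w = 2 →
      ∃ c ∈ centralizer ({z} : Set G), c * w * c⁻¹ ∈ S := by
    intro w hw hw2
    have hp : IsPGroup 2 (zpowers (⟨w, hw⟩ : centralizer ({z} : Set G))) := by
      have : Nat.card (zpowers (⟨w, hw⟩ : centralizer ({z} : Set G))) = 2 ^ 1 := by
        rw [Nat.card_zpowers, pow_one, ← hw2,
          ← orderOf_injective (centralizer ({z} : Set G)).subtype (subtype_injective _)]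
        rfl
      exact IsPGroup.of_card this
    obtain ⟨R, hR⟩ := hp.exists_le_sylow
    obtain ⟨c, hc⟩ := MulAction.exists_smul_eq (centralizer ({z} : Set G)) R (S.subtype hS)
    refine ⟨c, c.2, ?_⟩
    have hm : c * ⟨w, hw⟩ * c⁻¹ ∈ ((S.subtype hS : Sylow 2 _) : Subgroup _) := by
      rw [← hc, Sylow.coe_subgroup_smul]
      exact ⟨_, hR (mem_zpowers _), rfl⟩
    rw [Sylow.coe_subtype, mem_subgroupOf] at hm
    exact hm
  obtain ⟨c, hc, hcS⟩ := hcl x hx hx2
  have hy2' := mul_self_of_orderOf_two hy2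
  have hMH : D.K ⊔ zpowers y ≤ centralizer {z} := sup_le D.K_le (zpowers_le.2 hy)
  have hxM : ∀ h ∈ centralizer ({z} : Set G), h * x * h⁻¹ ∉ D.K ⊔ zpowers y := by
    intro h hh hm
    rw [D.mem_sup_iff hy hy2'] at hm
    have hcm := D.comm_mem hh hx
    have e : h * x * h⁻¹ = (h * x * h⁻¹ * x⁻¹) * x := by group
    rcases hm with hm | hm
    · exact hxK (by rw [e] at hm; exact (mul_mem_cancel_left hcm).1 hm)
    · apply hxy
      have hn := conj_mem_of_normal D.K_normal hy hcm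
      have e' : y * (h * x * h⁻¹) = (y * (h * x * h⁻¹ * x⁻¹) * y⁻¹) * (y * x) := by group
      rw [e'] at hm
      exact (mul_mem_cancel_left hn).1 hm
  have hM : (D.K ⊔ zpowers y).relIndex (S : Subgroup G) = 2 := by
    have hle : ∀ h ∈ (S : Subgroup G), h ∈ D.K ⊔ zpowers y ∨
        (c * x * c⁻¹) * h ∈ D.K ⊔ zpowers y := by
      intro h hh
      rcases em (h ∈ D.K ⊔ zpowers y) with h' | h'
      · exact Or.inl h'
      refine Or.inr ?_
      haveI := normal_subgroupOf_of_le_normalizer D.K_normal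
      -- `H/K` is a four-group
      have four : ∀ w ∈ centralizer ({z} : Set G),
          w ∈ D.K ∨ x * w ∈ D.K ∨ y * w ∈ D.K ∨ y * x * w ∈ D.K := D.cases_pair hx hxK hy hyK hxy
      have hw := hS hh
      rw [D.mem_sup_iff hy hy2'] at h' ⊢
      push Not at h'
      have hcm := D.comm_mem hc hx
      have hn := conj_mem_of_normal D.K_normal hy hcm
      rcases four h hw with h1 | h1 | h1 | h1
      · exact absurd h1 h'.1
      · left
        rw [show c * x * c⁻¹ * h = (c * x * c⁻¹ * x⁻¹) * (x * h) by group]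
        exact mul_mem hcm h1
      · exact absurd h1 h'.2
      · right
        rw [show y * (c * x * c⁻¹ * h) = (y * (c * x * c⁻¹ * x⁻¹) * y⁻¹) * (y * x * h) by group]
        exact mul_mem hn h1
    rw [Subgroup.relIndex, Subgroup.index_eq_two_iff]
    refine ⟨⟨c * x * c⁻¹, hcS⟩, fun b => ?_⟩
    simp only [mem_subgroupOf, Subgroup.coe_mul]
    have hcx : c * x * c⁻¹ ∉ D.K ⊔ zpowers y := hxM c hc
    rcases hle _ b.2 with h1 | h1
    · exact Or.inr ⟨h1, fun h2 => hcx ((mul_mem_cancel_left h1).1 h2)⟩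
    · by_cases h2 : (b : G) ∈ D.K ⊔ zpowers y
      · exact absurd ((mul_mem_cancel_right h2).1 h1) hcx
      · left
        refine ⟨?_, h2⟩
        have hcomm := D.comm_mem (hS b.2) (hS hcS)
        rw [show (b : G) * (c * x * c⁻¹) = ((b : G) * (c * x * c⁻¹) * (b : G)⁻¹ * (c * x * c⁻¹)⁻¹) *
          (c * x * c⁻¹ * b) by group]
        exact mul_mem (mem_sup_left hcomm) h1
  have hfix : ∀ g : G, g⁻¹ * (c * x * c⁻¹) * g ∈ S →
      g⁻¹ * (c * x * c⁻¹) * g ∉ D.K ⊔ zpowers y := by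
    intro g hg
    rw [show g⁻¹ * (c * x * c⁻¹) * g = (g⁻¹ * c) * x * (g⁻¹ * c)⁻¹ by group] at hg ⊢
    obtain ⟨-, h, hh, e⟩ := D.isConj_outer hx hx2 hxK (hS hg)
    rw [← e]
    exact hxM h hh
  have hx2' : (c * x * c⁻¹) * (c * x * c⁻¹) = 1 := by
    rw [show c * x * c⁻¹ * (c * x * c⁻¹) = c * (x * x) * c⁻¹ by group,
      mul_self_of_orderOf_two hx2]
    group
  obtain ⟨N, hN, hNi, hxN, hker⟩ := exists_index_two' S (D.K ⊔ zpowers y) hM hcS hx2' hfix
  refine ⟨N, hN, hNi, fun h => hxN (hN.conj_mem _ h c), hker y fun k g hg => ?_⟩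
  rcases Nat.even_or_odd k with ⟨m, rfl⟩ | ⟨m, rfl⟩
  · rw [← two_mul, pow_mul, pow_two, hy2', one_pow]; simpa using one_mem _
  · rw [pow_succ, pow_mul, pow_two, hy2', one_pow, one_mul] at hg ⊢
    obtain ⟨-, h, hh, e⟩ := D.isConj_outer hy hy2 hyK (g := g⁻¹) (by simpa using hS hg)
    simp only [inv_inv] at e
    rw [← e]
    have hcm := D.comm_mem hh hy
    rw [show h * y * h⁻¹ = (h * y * h⁻¹ * y⁻¹) * y by group]
    exact mul_mem (mem_sup_left hcm) (mem_sup_right (mem_zpowers y))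

theorem U_le_of_index_two {N : Subgroup G} [N.Normal] (hN : N.index = 2) : D.U ≤ N := by
  have hsq : ∀ g : G, g * g ∈ N := fun g => Subgroup.mul_self_mem_of_index_two hN g
  have hρ : D.ρ ∈ N := by
    have h3 : D.ρ ^ 3 = 1 := by rw [← D.ρ_order]; exact pow_orderOf_eq_one _
    have : D.ρ = (D.ρ * D.ρ)⁻¹ := by
      rw [eq_inv_iff_mul_eq_one, ← mul_assoc]
      simpa [pow_succ] using h3
    rw [this]
    exact inv_mem (hsq _)
  have hW : ∀ x ∈ wSet z D.u, x ∈ N := by
    obtain ⟨p, -, hp⟩ := D.z_sq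
    obtain ⟨q, -, hq⟩ := D.u_sq
    rintro x (rfl | rfl | rfl | rfl)
    exacts [one_mem _, hp ▸ hsq p, hq ▸ hsq q, mul_mem (hp ▸ hsq p) (hq ▸ hsq q)]
  haveI := D.finite_U
  let c : D.U → G ⧸ (Subgroup.closure (wSet z D.u)) := fun x =>
    QuotientGroup.mk (D.ρ * x * D.ρ⁻¹ * (x : G)⁻¹)
  intro x hx
  by_contra hxN
  -- `x ↦ [ρ, x]` meets every coset of `W` in `U`
  have hWU : Subgroup.closure (wSet z D.u) ≤ D.U := (closure_le _).2 D.wSet_subset
  have hWN : Subgroup.closure (wSet z D.u) ≤ N := (closure_le _).2 hW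
  have hcl : ∀ y ∈ Subgroup.closure (wSet z D.u), y ∈ wSet z D.u := by
    intro y hy
    refine (D.center y (hWU hy)).1 fun w hw => ?_
    have hle : Subgroup.closure (wSet z D.u) ≤ centralizer (D.U : Set G) :=
      (closure_le _).2 fun v hv => mem_centralizer_iff.2 fun m hm =>
        (((D.center v (D.wSet_subset hv)).2 hv) m hm).symm
    exact (mem_centralizer_iff.1 (hle hy) w hw).symm
  set W := (Subgroup.closure (wSet z D.u)).subgroupOf D.U with hWdef
  have hcW : ∀ w : D.U, w ∈ W → ∀ y : D.U, y * w = w * y := fun w hw y =>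
    Subtype.ext (((D.center w w.2).2 (hcl _ hw) y y.2).symm)
  haveI hWn : W.Normal := ⟨fun w hw g => by rw [hcW w hw g, mul_inv_cancel_right]; exact hw⟩
  have hρU : ∀ y : D.U, D.ρ * y * D.ρ⁻¹ ∈ D.U := fun y =>
    conj_mem_of_normal D.U_normal (D.K_le D.ρ_mem) y.2
  let f : D.U ⧸ W → D.U ⧸ W := Quotient.lift
    (fun y : D.U => (QuotientGroup.mk (⟨_, mul_mem (hρU y) (inv_mem y.2)⟩ : D.U) : D.U ⧸ W))
    (by
      intro a b hab
      have hab' : a⁻¹ * b ∈ W := QuotientGroup.leftRel_apply.1 hab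
      apply QuotientGroup.eq.2
      rw [mem_subgroupOf] at hab' ⊢
      obtain ⟨w, rfl⟩ : ∃ w : D.U, b = a * w := ⟨a⁻¹ * b, by group⟩
      simp only [Subgroup.coe_mul, Subgroup.coe_inv, inv_mul_cancel_left] at hab' ⊢
      have hcw : ∀ y ∈ D.U, (w : G) * y = y * w := (D.center w w.2).2 (hcl _ hab')
      have hρw : D.ρ * (w : G) = w * D.ρ := by
        rcases hcl _ hab' with h | h | h | h <;> rw [h]
        · simp
        · exact mem_cent.1 (D.K_le D.ρ_mem)
        · exact D.K_cent _ D.ρ_mem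
        · rw [← mul_assoc, mem_cent.1 (D.K_le D.ρ_mem), mul_assoc, D.K_cent _ D.ρ_mem, mul_assoc]
      have e : D.ρ * ((a : G) * w) * D.ρ⁻¹ * ((a : G) * w)⁻¹ =
          D.ρ * (a : G) * D.ρ⁻¹ * (a : G)⁻¹ := by
        calc D.ρ * ((a : G) * w) * D.ρ⁻¹ * ((a : G) * w)⁻¹
            = D.ρ * a * ((w : G) * D.ρ⁻¹ * (w : G)⁻¹) * (a : G)⁻¹ := by group
          _ = _ := by
            rw [mul_inv_eq_iff_eq_mul.2 (show (w : G) * D.ρ⁻¹ = D.ρ⁻¹ * w from
              (Commute.inv_left (show Commute D.ρ (w : G) from hρw)).eq.symm)]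
      rw [e, inv_mul_cancel]
      exact one_mem _)
  have hfker : Function.Surjective f := by
    refine Finite.surjective_of_injective fun q₁ q₂ => ?_
    induction q₁ using QuotientGroup.induction_on with
    | _ a =>
      induction q₂ using QuotientGroup.induction_on with
      | _ b =>
        intro h
        have hm := QuotientGroup.eq.1 h
        rw [mem_subgroupOf] at hm
        apply QuotientGroup.eq.2
        rw [mem_subgroupOf]
        simp only [Subgroup.coe_mul, Subgroup.coe_inv] at hm ⊢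
        set v := (D.ρ * (a : G) * D.ρ⁻¹ * (a : G)⁻¹)⁻¹ * (D.ρ * b * D.ρ⁻¹ * (b : G)⁻¹) with hv
        have hvU : ∀ y ∈ D.U, v * y = y * v := (D.center v (hWU hm)).2 (hcl _ hm)
        refine Subgroup.subset_closure (D.ρ_free _ (mul_mem (inv_mem a.2) b.2) ?_)
        have e : D.ρ * ((a : G)⁻¹ * b) * D.ρ⁻¹ * ((a : G)⁻¹ * b)⁻¹ = (a : G)⁻¹ * v * a := by
          rw [hv]; group
        rw [e, mul_assoc, hvU _ a.2, inv_mul_cancel_left]
        exact hcl _ hm
  obtain ⟨q, hq⟩ := hfker (QuotientGroup.mk ⟨x, hx⟩)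
  induction q using QuotientGroup.induction_on with
  | _ a =>
    have hm := QuotientGroup.eq.1 hq
    rw [mem_subgroupOf] at hm
    simp only [Subgroup.coe_mul, Subgroup.coe_inv] at hm
    apply hxN
    have hcN : D.ρ * (a : G) * D.ρ⁻¹ * (a : G)⁻¹ ∈ N := by
      rw [mul_assoc, mul_assoc]
      refine mul_mem hρ ?_
      rw [← mul_assoc]
      exact Subgroup.Normal.conj_mem inferInstance _ (inv_mem hρ) _
    have := mul_mem hcN (hWN hm)
    simpa [← mul_assoc] using this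

theorem exists_peel : ∃ N : Subgroup G, N.Normal ∧ N ⊓ centralizer {z} = D.K ∧
    (∀ g : G, g * g ∈ N) ∧ (Group.IsSolvable N → Group.IsSolvable G) := by
  have haa := mul_self_of_orderOf_two D.a_order
  have hbb := mul_self_of_orderOf_two D.b_order
  have hba : D.b * D.a ∉ D.K := by
    intro h
    have := mul_mem (D.comm_mem D.a_mem D.b_mem) h
    apply D.ab_notMem
    rwa [show D.a * D.b * D.a⁻¹ * D.b⁻¹ * (D.b * D.a) = D.a * D.b by group] at this
  obtain ⟨N₁, h₁, i₁, ha₁, hb₁⟩ :=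
    D.exists_kernel D.a_mem D.a_order D.a_notMem D.b_mem D.b_order D.b_notMem hba
  obtain ⟨N₂, h₂, i₂, hb₂, ha₂⟩ :=
    D.exists_kernel D.b_mem D.b_order D.b_notMem D.a_mem D.a_order D.a_notMem D.ab_notMem
  haveI := h₁
  haveI := h₂
  have hK : D.K ≤ N₁ ⊓ N₂ := by
    intro k hk
    have hU := D.U_le_of_index_two i₁
    have hU' := D.U_le_of_index_two i₂
    haveI := normal_subgroupOf_of_le_normalizer D.U_le_normalizer
    have h3 := (D.U.subgroupOf D.K).pow_index_mem ⟨k, hk⟩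
    rw [show (D.U.subgroupOf D.K).index = 3 from D.index_U, mem_subgroupOf] at h3
    simp only [SubmonoidClass.coe_pow] at h3
    have : ∀ M : Subgroup G, M.index = 2 → D.U ≤ M → k ∈ M := fun M hM hle => by
      have h2 : k * k ∈ M := Subgroup.mul_self_mem_of_index_two hM k
      have : k = k ^ 3 * (k * k)⁻¹ := by group
      rw [this]
      exact mul_mem (hle h3) (inv_mem h2)
    exact ⟨this N₁ i₁ hU, this N₂ i₂ hU'⟩
  refine ⟨N₁ ⊓ N₂, inferInstance, ?_, fun g =>
    ⟨Subgroup.mul_self_mem_of_index_two i₁ g, Subgroup.mul_self_mem_of_index_two i₂ g⟩, ?_⟩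
  · refine le_antisymm ?_ (le_inf hK D.K_le)
    rintro h ⟨⟨h₁'', h₂''⟩, hh⟩
    have h₁' : h ∈ N₁ := h₁''
    have h₂' : h ∈ N₂ := h₂''
    rcases D.cases_pair D.a_mem D.a_notMem D.b_mem D.b_notMem hba h hh with hc | hc | hc | hc
    · exact hc
    · exact absurd ((mul_mem_cancel_right h₁').1 (hK hc).1) ha₁
    · exact absurd ((mul_mem_cancel_right h₂').1 (hK hc).2) hb₂
    · exact absurd ((mul_mem_cancel_left hb₁).1 ((mul_mem_cancel_right h₁').1 (hK hc).1)) ha₁
  · intro hN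
    have hq : Group.IsSolvable (G ⧸ (N₁ ⊓ N₂)) := by
      refine Group.isSolvable_of_comm fun x y => ?_
      have hsq : ∀ q : G ⧸ (N₁ ⊓ N₂), q * q = 1 := by
        intro q
        induction q using QuotientGroup.induction_on with
        | _ w =>
          rw [← QuotientGroup.mk_mul]
          exact (QuotientGroup.eq_one_iff (w * w)).2
            ⟨Subgroup.mul_self_mem_of_index_two i₁ w, Subgroup.mul_self_mem_of_index_two i₂ w⟩
      have hi : ∀ q : G ⧸ (N₁ ⊓ N₂), q⁻¹ = q := fun q => inv_eq_of_mul_eq_one_right (hsq q)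
      rw [← hi (x * y), mul_inv_rev, hi, hi]
    exact Group.isSolvable_of_ker_le_range (N₁ ⊓ N₂).subtype (QuotientGroup.mk' (N₁ ⊓ N₂)) (by simp)

end HData

end Cfsg.Agent.PGammaThreeFour
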