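import Cfsg.Agent.PGammaThreeFour.RecogFrame
import Mathlib.GroupTheory.GroupAction.Quotient
import Mathlib.Tactic.IntervalCases

/-!
# The action on the five classes of non-central involutions, and lifts of three transpositions
-/

set_option autoImplicit false

namespace Cfsg.Agent.PGammaThreeFour.Recog

open Equiv

universe u

variable {C : Type u} [Group C] {z : C} {E : Subgroup C}

/-- A subgroup of order 24 of the permutations of five letters fixes a letter. -/
theorem exists_fixed {S : Subgroup (Perm (Fin 5))} (hS : Nat.card S = 24) :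
    ∃ i, ∀ σ ∈ S, σ i = i := by
  by_contra hc
  push Not at hc
  have horb : ∀ i : Fin 5, Nat.card (MulAction.orbit (↥S) i) * Nat.card (MulAction.stabilizer (↥S) i) = 24 := by
    intro i
    rw [← hS, ← Nat.card_prod]
    exact Nat.card_congr (MulAction.orbitProdStabilizerEquivGroup (↥S) i)
  have hle : ∀ i : Fin 5, Nat.card (MulAction.orbit (↥S) i) ≤ 5 := fun i => by
    have h := Finite.card_subtype_le (fun j : Fin 5 => j ∈ MulAction.orbit (↥S) i)
    simpa using h
  have hge : ∀ i : Fin 5, 2 ≤ Nat.card (MulAction.orbit (↥S) i) := by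
    intro i
    obtain ⟨σ, hσ, hne⟩ := hc i
    have : Nontrivial (MulAction.orbit (↥S) i) :=
      ⟨⟨σ i, ⟨⟨σ, hσ⟩, rfl⟩⟩, ⟨i, MulAction.mem_orbit_self i⟩, fun e => hne (congrArg Subtype.val e)⟩
    exact Finite.one_lt_card
  -- no orbit of two letters: its stabiliser of order twelve would act on three
  have hne2 : ∀ i : Fin 5, Nat.card (MulAction.orbit (↥S) i) ≠ 2 := by
    intro i h2
    have hst : Nat.card (MulAction.stabilizer (↥S) i) = 12 := by
      have := horb i
      rw [h2] at this
      omega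
    have h2' : (MulAction.orbit (↥S) i).ncard = 2 := (Nat.card_coe_set_eq _).symm.trans h2
    obtain ⟨p, q, hpq, hO⟩ := Set.ncard_eq_two.1 h2'
    have hfix : ∀ s ∈ MulAction.stabilizer (↥S) i, (s : Perm (Fin 5)) p = p ∧ (s : Perm (Fin 5)) q = q := by
      intro s hs
      have hsi : (s : Perm (Fin 5)) i = i := hs
      have hmem : ∀ j ∈ MulAction.orbit (↥S) i, (s : Perm (Fin 5)) j ∈ MulAction.orbit (↥S) i := fun j hj =>
        MulAction.mem_orbit_of_mem_orbit s hj
      have hi : i = p ∨ i = q := by simpa [hO] using MulAction.mem_orbit_self (M := ↥S) i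
      have hp' : (s : Perm (Fin 5)) p = p ∨ (s : Perm (Fin 5)) p = q := by
        simpa [hO] using hmem p (by simp [hO])
      have hq' : (s : Perm (Fin 5)) q = p ∨ (s : Perm (Fin 5)) q = q := by
        simpa [hO] using hmem q (by simp [hO])
      rcases hi with rfl | rfl
      · exact ⟨hsi, hq'.resolve_left fun h => hpq ((s : Perm (Fin 5)).injective (h.trans hsi.symm)).symm⟩
      · exact ⟨hp'.resolve_right fun h => hpq ((s : Perm (Fin 5)).injective (h.trans hsi.symm)), hsi⟩
    classical
    let φ : MulAction.stabilizer (↥S) i → {σ : Perm (Fin 5) // σ p = p ∧ σ q = q} := fun s =>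
      ⟨(s.1 : Perm (Fin 5)), hfix s.1 s.2⟩
    have hφ : Function.Injective φ := fun a b e => Subtype.ext (Subtype.ext (Subtype.ext_iff.1 e : _))
    have hle' := Nat.card_le_card_of_injective φ hφ
    have h6 : ∀ p q : Fin 5, p ≠ q → Fintype.card {σ : Perm (Fin 5) // σ p = p ∧ σ q = q} = 6 := by
      decide +kernel
    rw [Nat.card_eq_fintype_card (α := {σ : Perm (Fin 5) // σ p = p ∧ σ q = q}), h6 p q hpq, hst] at hle'
    omega
  -- hence a single orbit of size three or four, leaving out at most two letters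
  set O := MulAction.orbit (↥S) (0 : Fin 5) with hO
  have h5 : Nat.card O ≠ 5 := fun h => by
    have := horb 0
    rw [← hO, h] at this
    omega
  obtain ⟨j, hj⟩ : ∃ j, j ∉ O := by
    by_contra h
    push Not at h
    refine h5 ?_
    rw [Set.eq_univ_of_forall h]
    simp
  have hd : Disjoint O (MulAction.orbit (↥S) j) := by
    refine Set.disjoint_left.2 fun k hk hk' => hj ?_
    rw [hO, ← MulAction.orbit_eq_iff.2 hk, MulAction.orbit_eq_iff.2 hk']
    exact MulAction.mem_orbit_self j
  have hsum : Nat.card O + Nat.card (MulAction.orbit (↥S) j) ≤ 5 := by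
    have h := Set.ncard_union_eq hd
    have h' := Set.ncard_le_ncard (Set.subset_univ (O ∪ MulAction.orbit (↥S) j)) Set.finite_univ
    rw [h, Set.ncard_univ] at h'
    rw [Nat.card_coe_set_eq, Nat.card_coe_set_eq]
    simpa using h'
  have := hge 0
  have := hge j
  have := hne2 0
  have := hne2 j
  rw [← hO] at *
  omega

/-- The sign element. -/
def zs (z : C) (b : Bool) : C := if b then z else 1

namespace Ex

variable (X : Ex z E)
include X

theorem zs_comm (b : Bool) (x : C) : zs z b * x = x * zs z b := by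
  cases b
  · simp [zs]
  · exact X.zc x

theorem zs_xor (a b : Bool) : zs z (xor a b) = zs z a * zs z b := by
  cases a <;> cases b <;> simp [zs, X.zz]

theorem zs_mem (b : Bool) : zs z b ∈ E := by
  cases b
  exacts [one_mem _, X.mem]

theorem zs_sq (b : Bool) (x : C) : zs z b * (zs z b * x) = x := by
  cases b
  · simp [zs]
  · exact X.z_mul_z x

theorem pulls (b : Bool) (x y : C) : x * (zs z b * y) = zs z b * (x * y) := by
  rw [← mul_assoc, ← X.zs_comm, mul_assoc]

end Ex

/-- The product of the chosen ones among four elements. -/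
def prodS (q : Fin 4 → C) (s : Fin 4 → Bool) : C :=
  (if s 0 then q 0 else 1) * ((if s 1 then q 1 else 1) * ((if s 2 then q 2 else 1) * (if s 3 then q 3 else 1)))

/-- The five involutions of a frame. -/
def q5 (q : Fin 4 → C) (i : Fin 5) : C :=
  if h : (i : ℕ) < 4 then q ⟨i, h⟩ else q 0 * (q 1 * (q 2 * q 3))

/-- Four pairwise anticommuting involutions in `E`. -/
structure Frame (z : C) (E : Subgroup C) (q : Fin 4 → C) : Prop where
  mem : ∀ i, q i ∈ E
  sq : ∀ i, q i * q i = 1
  anti : ∀ i j, i ≠ j → Anti z (q i) (q j)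

namespace Frame

variable {q : Fin 4 → C} (X : Ex z E) (Fr : Frame z E q)
include X Fr

theorem prodS_mem (s : Fin 4 → Bool) : prodS q s ∈ E := by
  have h : ∀ i, (if s i then q i else 1) ∈ E := fun i => by split <;> [exact Fr.mem i; exact one_mem _]
  exact mul_mem (h 0) (mul_mem (h 1) (mul_mem (h 2) (h 3)))

/-- The commutation of an element of the frame with a product. -/
theorem q_prodS (i : Fin 4) (s : Fin 4 → Bool) :
    q i * prodS q s = zs z (xor (s i) (xor (xor (s 0) (s 1)) (xor (s 2) (s 3)))) * (prodS q s * q i) := by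
  have step : ∀ j, q i * (if s j then q j else 1) =
      zs z (s j && !decide (i = j)) * ((if s j then q j else 1) * q i) := by
    intro j
    by_cases hj : i = j
    · subst hj; cases s i <;> simp [zs]
    · cases s j
      · simp [zs]
      · simpa [zs, hj, Anti] using Fr.anti i j hj
  have chain : ∀ {u v : Bool} {a b : C}, q i * a = zs z u * (a * q i) → q i * b = zs z v * (b * q i) →
      q i * (a * b) = zs z (xor u v) * (a * b * q i) := by
    intro u v a b ha hb
    rw [← mul_assoc, ha, mul_assoc, mul_assoc a, hb, X.pulls, ← mul_assoc (zs z u), ← X.zs_xor, mul_assoc a]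
  rw [prodS, chain (step 0) (chain (step 1) (chain (step 2) (step 3)))]
  congr 2
  revert i s
  have aux : ∀ (i : Fin 4) (s : Fin 4 → Bool),
      xor (s 0 && !decide (i = 0)) (xor (s 1 && !decide (i = 1)) (xor (s 2 && !decide (i = 2))
        (s 3 && !decide (i = 3)))) = xor (s i) (xor (xor (s 0) (s 1)) (xor (s 2) (s 3))) := by decide +kernel
  intro i s _ _
  exact aux i s

theorem q5_mem (i : Fin 5) : q5 q i ∈ E := by
  unfold q5
  split
  · exact Fr.mem _
  · exact mul_mem (Fr.mem _) (mul_mem (Fr.mem _) (mul_mem (Fr.mem _) (Fr.mem _)))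

omit X Fr in
theorem q5_last : q5 q 4 = prodS q fun _ => true := by simp [q5, prodS]

omit X Fr in
theorem q5_lt (i : Fin 4) : q5 q i.castSucc = q i := by
  have hi : ((i.castSucc : Fin 5) : ℕ) < 4 := i.2
  rw [q5, dif_pos hi]
  rfl

theorem q5_sq (i : Fin 5) : q5 q i * q5 q i = 1 := by
  unfold q5
  split
  · exact Fr.sq _
  · -- the square of the product of the four
    have a01 := Fr.anti 1 0 (by decide); have a02 := Fr.anti 2 0 (by decide); have a03 := Fr.anti 3 0 (by decide)
    have a12 := Fr.anti 2 1 (by decide); have a13 := Fr.anti 3 1 (by decide); have a23 := Fr.anti 3 2 (by decide)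
    have r : ∀ {a b : C}, Anti z b a → ∀ x, b * (a * x) = z * (a * (b * x)) := fun h x => by
      rw [← mul_assoc, h, mul_assoc z, mul_assoc]
    have s : ∀ (j : Fin 4) (x : C), q j * (q j * x) = x := fun j x => by rw [← mul_assoc, Fr.sq, one_mul]
    simp only [mul_assoc]
    simp only [r a03, r a02, r a01, X.pull, s, X.z_mul_z]
    simp only [r a13, r a12, X.pull, s, X.z_mul_z]
    simp only [r a23, X.pull, s, Fr.sq, X.z_mul_z, mul_one, X.zz]

theorem q5_anti (i j : Fin 5) (h : i ≠ j) : Anti z (q5 q i) (q5 q j) := by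
  have key : ∀ k : Fin 4, Anti z (q k) (prodS q fun _ => true) := fun k => by
    have := Fr.q_prodS X k fun _ => true
    exact this
  rcases Fin.eq_castSucc_or_eq_last i with ⟨i', rfl⟩ | rfl <;>
    rcases Fin.eq_castSucc_or_eq_last j with ⟨j', rfl⟩ | rfl
  · rw [q5_lt, q5_lt]
    exact Fr.anti i' j' fun e => h (by rw [e])
  · rw [q5_lt, show (Fin.last 4 : Fin 5) = 4 from rfl, q5_last]
    exact key i'
  · rw [q5_lt, show (Fin.last 4 : Fin 5) = 4 from rfl, q5_last]
    exact X.anti_symm (key j')
  · exact absurd rfl h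

theorem q5_ne (i : Fin 5) (b : Bool) : q5 q i ≠ zs z b := by
  obtain ⟨j, hj⟩ : ∃ j, j ≠ i := exists_ne i
  intro h
  refine X.not_both (Fr.q5_anti X j i hj) ?_
  rw [h, X.zs_comm]

theorem q5_inj {i j : Fin 5} (b : Bool) (h : q5 q i = zs z b * q5 q j) : i = j ∧ b = false := by
  have hij : i = j := by
    by_contra hne
    refine X.not_both (Fr.q5_anti X j i (Ne.symm hne)) ?_
    rw [h, X.pulls, mul_assoc]
  refine ⟨hij, ?_⟩
  subst hij
  cases b
  · rfl
  · exact absurd (mul_eq_right.1 h.symm) X.ne

/-- Elements are determined up to sign by their commutation with the frame. -/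
theorem exists_eq [Finite C] {x : C} (hx : x ∈ E) : ∃ b s, x = zs z b * prodS q s := by
  classical
  let φ : Bool × (Fin 4 → Bool) → E := fun p =>
    ⟨zs z p.1 * prodS q p.2, mul_mem (X.zs_mem p.1) (Fr.prodS_mem X p.2)⟩
  have hpat : ∀ (b : Bool) (s : Fin 4 → Bool) (i : Fin 4), q i * (zs z b * prodS q s) =
      zs z (xor (s i) (xor (xor (s 0) (s 1)) (xor (s 2) (s 3)))) * (zs z b * prodS q s * q i) := by
    intro b s i
    rw [X.pulls, Fr.q_prodS X, ← mul_assoc (zs z b), ← X.zs_comm, mul_assoc]
    simp only [mul_assoc]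
  have hφ : Function.Injective φ := by
    rintro ⟨a, s⟩ ⟨b, t⟩ h
    have h' : zs z a * prodS q s = zs z b * prodS q t := congrArg Subtype.val h
    have hst : ∀ i, xor (s i) (xor (xor (s 0) (s 1)) (xor (s 2) (s 3))) =
        xor (t i) (xor (xor (t 0) (t 1)) (xor (t 2) (t 3))) := by
      intro i
      have h1 := hpat a s i
      rw [h', hpat b t i] at h1
      have h2 := mul_right_cancel h1
      revert h2
      cases xor (s i) (xor (xor (s 0) (s 1)) (xor (s 2) (s 3))) <;>
        cases xor (t i) (xor (xor (t 0) (t 1)) (xor (t 2) (t 3))) <;>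
        simp [zs, X.ne, X.ne.symm]
    have : s = t := by
      have aux : ∀ (s t : Fin 4 → Bool), (∀ i, xor (s i) (xor (xor (s 0) (s 1)) (xor (s 2) (s 3))) =
          xor (t i) (xor (xor (t 0) (t 1)) (xor (t 2) (t 3)))) → s = t := by decide +kernel
      exact aux s t hst
    subst this
    refine Prod.ext ?_ rfl
    have h3 := mul_right_cancel h'
    revert h3
    cases a <;> cases b <;> simp [zs, X.ne, X.ne.symm]
  have hcard : Nat.card (Bool × (Fin 4 → Bool)) = Nat.card E := by
    rw [X.card, Nat.card_eq_fintype_card]; rfl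
  obtain ⟨⟨b, s⟩, h⟩ := ((Nat.bijective_iff_injective_and_card φ).2 ⟨hφ, hcard⟩).2 ⟨x, hx⟩
  exact ⟨b, s, (congrArg Subtype.val h).symm⟩

/-- An element of `C` commuting with the five involutions up to nothing lies in `E`. -/
theorem mem_of_comm [Finite C] {x : C} (h : ∀ i, x * q i = q i * x) : x ∈ E := by
  refine X.self x fun a ha => ?_
  obtain ⟨b, s, rfl⟩ := Fr.exists_eq X ha
  have h1 : ∀ i, Commute x (if s i then q i else 1) := fun i => by
    split
    exacts [h i, Commute.one_right x]
  exact (Commute.mul_right (X.zs_comm b x).symm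
    ((h1 0).mul_right ((h1 1).mul_right ((h1 2).mul_right (h1 3))))).eq

/-- The non-central involutions are the five classes. -/
theorem invol_class [Finite C] {x : C} (hx : x ∈ E) (h2 : x * x = 1) (h1 : x ≠ 1) (hz : x ≠ z) :
    ∃ i b, x = zs z b * q5 q i := by
  obtain ⟨b, s, rfl⟩ := Fr.exists_eq X hx
  rw [mul_assoc, X.pulls, X.zs_sq] at h2
  have a01 := Fr.anti 1 0 (by decide); have a02 := Fr.anti 2 0 (by decide); have a03 := Fr.anti 3 0 (by decide)
  have a12 := Fr.anti 2 1 (by decide); have a13 := Fr.anti 3 1 (by decide); have a23 := Fr.anti 3 2 (by decide)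
  have r : ∀ {a b : C}, Anti z b a → ∀ x, b * (a * x) = z * (a * (b * x)) := fun h x => by
    rw [← mul_assoc, h, mul_assoc z, mul_assoc]
  have r' : ∀ {a b : C}, Anti z b a → b * a = z * (a * b) := fun h => h
  have sj : ∀ (j : Fin 4) (x : C), q j * (q j * x) = x := fun j x => by rw [← mul_assoc, Fr.sq, one_mul]
  revert h2 h1 hz
  unfold prodS
  cases hs0 : s 0 <;> cases hs1 : s 1 <;> cases hs2 : s 2 <;> cases hs3 : s 3 <;> intro h2 h1 hz
  all_goals simp only [Bool.false_eq_true, if_false, if_true, one_mul, mul_one] at h2 h1 hz ⊢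
  all_goals first
    | exact absurd (by cases b <;> simp [zs] : zs z b = 1 ∨ zs z b = z) (by tauto)
    | (refine ⟨0, b, ?_⟩; simp [q5]; done)
    | (refine ⟨1, b, ?_⟩; simp [q5]; done)
    | (refine ⟨2, b, ?_⟩; simp [q5]; done)
    | (refine ⟨3, b, ?_⟩; simp [q5]; done)
    | (refine ⟨4, b, ?_⟩; simp [q5]; done)
    | (exfalso; refine X.ne ?_
       rw [← h2]
       simp only [mul_assoc, r a03, r a02, r a01, r' a03, r' a02, r' a01, X.pull, sj, Fr.sq, X.z_mul_z]
       try simp only [r a13, r a12, r' a13, r' a12, X.pull, sj, Fr.sq, X.z_mul_z, mul_one]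
       try simp only [r a23, r' a23, X.pull, sj, Fr.sq, X.z_mul_z, mul_one, X.zz])

theorem q5_flip (j : Fin 4) (i : Fin 4) :
    q j * (q5 q 4 * q i) = zs z (decide (j = i)) * (q5 q 4 * q i * q j) := by
  have h : Anti z (q j) (q5 q 4) := by
    have := Fr.q5_anti X j.castSucc 4 (Fin.ne_of_val_ne (by have := j.2; simp; omega))
    rwa [q5_lt] at this
  by_cases hji : j = i
  · subst hji
    rw [decide_eq_true rfl, show zs z true = z from rfl, ← mul_assoc, h]
    simp only [mul_assoc]
  · rw [decide_eq_false hji, show zs z false = 1 from rfl, one_mul]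
    exact X.comm_mul h (Fr.anti j i hji)

end Frame

/-- The data of the action. -/
theorem exists_action [Finite C] {q : Fin 4 → C} (X : Ex z E) (Fr : Frame z E q) [E.Normal] :
    ∃ π : C →* Perm (Fin 5), π.ker = E ∧ ∀ h i, ∃ b, h * q5 q i * h⁻¹ = zs z b * q5 q (π h i) := by
  classical
  have hex : ∀ (h : C) (i : Fin 5), ∃ j b, h * q5 q i * h⁻¹ = zs z b * q5 q j := by
    intro h i
    refine Fr.invol_class X (X.normal _ (Fr.q5_mem X i) h) ?_ ?_ ?_
    · rw [show h * q5 q i * h⁻¹ * (h * q5 q i * h⁻¹) = h * (q5 q i * q5 q i) * h⁻¹ by group, Fr.q5_sq X]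
      group
    · intro e
      exact Fr.q5_ne X i false (conj_eq_one_iff.1 e)
    · intro e
      refine Fr.q5_ne X i true ?_
      rw [show zs z true = z from rfl]
      calc q5 q i = h⁻¹ * (h * q5 q i * h⁻¹) * h := by group
        _ = z := by rw [e, mul_assoc, X.zc, inv_mul_cancel_left]
  choose π b hπ using hex
  have huniq : ∀ h i j c, h * q5 q i * h⁻¹ = zs z c * q5 q j → π h i = j := by
    intro h i j c e
    rw [hπ h i] at e
    refine (Fr.q5_inj X (xor (b h i) c) ?_).1
    rw [X.zs_xor, mul_assoc, ← e, ← mul_assoc, ← X.zs_xor, Bool.xor_self]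
    simp [zs]
  have hone : ∀ i, π 1 i = i := fun i => huniq 1 i i false (by simp [zs])
  have hmul : ∀ g h i, π (g * h) i = π g (π h i) := by
    intro g h i
    refine huniq _ _ _ (xor (b h i) (b g (π h i))) ?_
    rw [show g * h * q5 q i * (g * h)⁻¹ = g * (h * q5 q i * h⁻¹) * g⁻¹ by group, hπ h i, ← mul_assoc,
      ← X.zs_comm, mul_assoc (zs z _), mul_assoc (zs z _), hπ g, X.zs_xor, mul_assoc]
  let e : C → Perm (Fin 5) := fun h => ⟨π h, π h⁻¹, fun i => by rw [← hmul, inv_mul_cancel, hone],
    fun i => by rw [← hmul, mul_inv_cancel, hone]⟩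
  let P : C →* Perm (Fin 5) := MonoidHom.mk' e fun g h => Equiv.ext (hmul g h)
  refine ⟨P, ?_, fun h i => ⟨b h i, hπ h i⟩⟩
  ext h
  constructor
  · intro hk
    have hfix : ∀ i, π h i = i := fun i => by
      have : P h i = i := by rw [MonoidHom.mem_ker.1 hk]; rfl
      exact this
    -- correct the signs by an element of `E`
    have hsgn : ∀ i : Fin 4, h * q i * h⁻¹ = zs z (b h i.castSucc) * q i := fun i => by
      have := hπ h i.castSucc
      rwa [hfix, Frame.q5_lt] at this
    obtain ⟨s, hs⟩ : ∃ s : Fin 4 → Bool, ∀ i : Fin 4,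
        xor (s i) (xor (xor (s 0) (s 1)) (xor (s 2) (s 3))) = b h i.castSucc := by
      have : ∀ c : Fin 4 → Bool, ∃ s : Fin 4 → Bool, ∀ i : Fin 4,
          xor (s i) (xor (xor (s 0) (s 1)) (xor (s 2) (s 3))) = c i := by decide
      exact this fun i => b h i.castSucc
    have hx : ∀ i, (prodS q s)⁻¹ * h * q i = q i * ((prodS q s)⁻¹ * h) := by
      intro i
      have h1 := Fr.q_prodS X i s
      rw [hs] at h1
      have h2 := hsgn i
      calc (prodS q s)⁻¹ * h * q i = (prodS q s)⁻¹ * (h * q i * h⁻¹) * h := by group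
        _ = (prodS q s)⁻¹ * (zs z (b h i.castSucc) * (q i * h)) := by rw [h2]; simp only [mul_assoc]
        _ = zs z (b h i.castSucc) * ((prodS q s)⁻¹ * q i * h) := by rw [X.pulls]; simp only [mul_assoc]
        _ = zs z (b h i.castSucc) * (zs z (b h i.castSucc) * (q i * (prodS q s)⁻¹) * h) := by
          congr 1
          congr 1
          calc (prodS q s)⁻¹ * q i = (prodS q s)⁻¹ * (q i * prodS q s) * (prodS q s)⁻¹ := by group
            _ = (prodS q s)⁻¹ * (zs z (b h i.castSucc) * (prodS q s * q i)) * (prodS q s)⁻¹ := by rw [h1]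
            _ = zs z (b h i.castSucc) * (q i * (prodS q s)⁻¹) := by
              rw [X.pulls, inv_mul_cancel_left, mul_assoc]
        _ = q i * ((prodS q s)⁻¹ * h) := by rw [mul_assoc (zs z _), X.zs_sq]; simp only [mul_assoc]
    have := mul_mem (Fr.prodS_mem X s) (Fr.mem_of_comm X hx)
    rwa [mul_inv_cancel_left] at this
  · intro hE
    refine MonoidHom.mem_ker.2 (Equiv.ext fun i => ?_)
    show π h i = i
    rcases X.comm h hE _ (Fr.q5_mem X i) with e | e
    · exact huniq h i i false (by rw [e, mul_inv_cancel_right]; simp [zs])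
    · exact huniq h i i true (by rw [e, mul_assoc z, mul_inv_cancel_right]; rfl)

end Cfsg.Agent.PGammaThreeFour.Recog
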