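import Cfsg.Agent.PGammaThreeFour.ModelFacts
import Cfsg.Agent.PGammaThreeFour.RecogLifts
import Cfsg.Agent.OrderType.Count
import Cfsg.Prelude.Def_Transfer

/-!
# Recognition of the centraliser: the interface data exist
-/

set_option autoImplicit false

namespace Cfsg.Agent.PGammaThreeFour.Recog

open Equiv Subgroup

universe u

variable {C : Type u} [Group C] {z : C} {E : Subgroup C} {q : Fin 4 → C}

/-- The elements of square `z`. -/
def ee (q : Fin 4 → C) (i : Fin 4) : C := q5 q 4 * q i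

namespace Frame

variable (X : Ex z E) (Fr : Frame z E q)
include X Fr

theorem ee_mem (i : Fin 4) : ee q i ∈ E := mul_mem (Fr.q5_mem X 4) (Fr.mem i)

theorem anti_four (i : Fin 4) : Anti z (q i) (q5 q 4) := by
  have := Fr.q5_anti X i.castSucc 4 (Fin.ne_of_val_ne (by have := i.2; simp; omega))
  rwa [q5_lt] at this

theorem ee_sq (i : Fin 4) : ee q i * ee q i = z := by
  rw [ee, mul_assoc, ← mul_assoc (q i), Fr.anti_four X i]
  simp only [mul_assoc]
  rw [X.pull, Fr.sq, mul_one, Fr.q5_sq X, mul_one]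

theorem ee_anti (i j : Fin 4) (h : i ≠ j) : ee q j * ee q i = z * (ee q i * ee q j) := by
  have hi : q i * q5 q 4 = z * (q5 q 4 * q i) := Fr.anti_four X i
  have hj : q j * q5 q 4 = z * (q5 q 4 * q j) := Fr.anti_four X j
  calc ee q j * ee q i = q5 q 4 * (q j * q5 q 4) * q i := by simp only [ee, mul_assoc]
    _ = z * (q5 q 4 * q5 q 4 * (q j * q i)) := by rw [hj, X.pull]; simp only [mul_assoc]
    _ = z * (q5 q 4 * q5 q 4 * (z * (q i * q j))) := by rw [Fr.anti j i (Ne.symm h)]
    _ = z * (q5 q 4 * (z * (q5 q 4 * q i)) * q j) := by simp only [X.pull, mul_assoc]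
    _ = z * (ee q i * ee q j) := by rw [← hi]; simp only [ee, mul_assoc]

/-- Flipping the signs on the elements of square `z`. -/
theorem prodS_flip (s : Fin 4 → Bool) (i : Fin 4) :
    prodS q s * ee q i = zs z (s i) * (ee q i * prodS q s) := by
  have step : ∀ j, (if s j then q j else 1) * ee q i =
      zs z (s j && decide (j = i)) * (ee q i * if s j then q j else 1) := by
    intro j
    cases s j
    · simp [zs]
    · simpa [ee] using Fr.q5_flip X j i
  have chain : ∀ {u v : Bool} {a b : C}, a * ee q i = zs z u * (ee q i * a) →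
      b * ee q i = zs z v * (ee q i * b) → a * b * ee q i = zs z (xor u v) * (ee q i * (a * b)) := by
    intro u v a b ha hb
    rw [mul_assoc, hb, X.pulls, ← mul_assoc a, ha, mul_assoc (zs z u), ← mul_assoc (zs z v), ← X.zs_xor,
      Bool.xor_comm, mul_assoc (ee q i)]
  rw [prodS, chain (step 0) (chain (step 1) (chain (step 2) (step 3)))]
  congr 2
  revert i s
  have aux : ∀ (i : Fin 4) (s : Fin 4 → Bool),
      xor (s 0 && decide (0 = i)) (xor (s 1 && decide (1 = i)) (xor (s 2 && decide (2 = i))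
        (s 3 && decide (3 = i)))) = s i := by decide +kernel
  intro s i _ _
  exact aux i s

end Frame

/-- The action on the frame. -/
def Acts (q : Fin 4 → C) (h : C) (σ : Fin 4 → Fin 4) : Prop := ∀ i, h * ee q i * h⁻¹ = ee q (σ i)

theorem Acts.mul {g h : C} {σ τ : Fin 4 → Fin 4} (hg : Acts q g σ) (hh : Acts q h τ) :
    Acts q (g * h) (σ ∘ τ) := fun i => by
  rw [show g * h * ee q i * (g * h)⁻¹ = g * (h * ee q i * h⁻¹) * g⁻¹ by group, hh i, hg]
  rfl

theorem Acts.inv_mul {g h : C} {σ τ : Fin 4 → Fin 4} (hg : Acts q g σ) (hh : Acts q h τ)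
    (hst : ∀ i, σ i = τ i) (i : Fin 4) : h⁻¹ * g * ee q i = ee q i * (h⁻¹ * g) := by
  have h1 : g * ee q i * g⁻¹ = h * ee q i * h⁻¹ := by rw [hg, hh, hst]
  calc h⁻¹ * g * ee q i = h⁻¹ * (g * ee q i * g⁻¹) * g := by group
    _ = ee q i * (h⁻¹ * g) := by rw [h1]; group

/-- From the frame with a fixed fifth class to the relations. -/
theorem exists_rel [Finite C] [E.Normal] (X : Ex z E) (Fr : Frame z E q) (π : C →* Perm (Fin 5))
    (hker : π.ker = E) (hact : ∀ h i, ∃ b, h * q5 q i * h⁻¹ = zs z b * q5 q (π h i))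
    (hfix : ∀ h, π h 4 = 4) (hidx : E.index = 24) :
    ∃ (al be : Bool) (g : ℕ → C), Model.Rel al be g ∧ g 0 = z := by
  classical
  have hr : Nat.card π.range = 24 := by rw [← index_ker, hker, hidx]
  -- every permutation fixing the fifth class is realised
  have hall : ∀ σ : Perm (Fin 5), σ 4 = 4 → ∃ h, π h = σ := by
    intro σ hσ
    have hle : π.range ≤ MulAction.stabilizer (Perm (Fin 5)) (4 : Fin 5) := by
      rintro _ ⟨h, rfl⟩
      exact hfix h
    have h24 : Nat.card (MulAction.stabilizer (Perm (Fin 5)) (4 : Fin 5)) = 24 := by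
      have : Fintype.card {σ : Perm (Fin 5) // σ 4 = 4} = 24 := by decide +kernel
      rw [← this, ← Nat.card_eq_fintype_card]
      exact Nat.card_congr (Equiv.subtypeEquivRight fun σ => Iff.rfl)
    have he := eq_of_le_of_card_ge hle (by rw [h24, hr])
    have : σ ∈ π.range := he ▸ hσ
    exact this
  -- an element commuting with the four elements of square `z` is 1 or `z`
  have hcent : ∀ x, (∀ i, x * ee q i = ee q i * x) → ∃ b, x = zs z b := by
    intro x hx
    obtain ⟨b4, hb4⟩ := hact x 4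
    rw [hfix] at hb4
    have hq : ∀ i, x * q i * x⁻¹ = zs z b4 * q i := by
      intro i
      have e1 : q i = q5 q 4 * ee q i := by rw [ee, ← mul_assoc, Fr.q5_sq X, one_mul]
      calc x * q i * x⁻¹ = (x * q5 q 4 * x⁻¹) * (x * ee q i * x⁻¹) := by rw [e1]; group
        _ = zs z b4 * q5 q 4 * ee q i := by rw [hb4, hx, mul_inv_cancel_right]
        _ = zs z b4 * q i := by rw [mul_assoc, ← e1]
    have hb : b4 = false := by
      have e : x * q5 q 4 * x⁻¹ = x * q 0 * x⁻¹ * ((x * q 1 * x⁻¹) * ((x * q 2 * x⁻¹) * (x * q 3 * x⁻¹))) := by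
        rw [Frame.q5_last]
        simp only [prodS, if_true]
        group
      rw [hb4, hq, hq, hq, hq] at e
      have e' : q5 q 4 = q 0 * (q 1 * (q 2 * q 3)) := by rw [Frame.q5_last]; simp [prodS]
      simp only [mul_assoc, X.pulls, X.zs_sq] at e
      rw [← e'] at e
      exact (Frame.q5_inj X Fr b4 (i := 4) (j := 4) e.symm).2
    subst hb
    have hq' : ∀ i, x * q i = q i * x := fun i => by
      have := hq i
      simp only [zs, Bool.false_eq_true, if_false, one_mul] at this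
      exact mul_inv_eq_iff_eq_mul.1 this
    have hxE := Fr.mem_of_comm X hq'
    rcases X.centre x hxE (fun a ha => by
      obtain ⟨b, s, rfl⟩ := Fr.exists_eq X ha
      have h1 : ∀ i, Commute x (if s i then q i else 1) := fun i => by
        split
        exacts [hq' i, Commute.one_right x]
      exact (Commute.mul_right (X.zs_comm b x).symm
        ((h1 0).mul_right ((h1 1).mul_right ((h1 2).mul_right (h1 3))))).eq) with e | e
    · exact ⟨false, e⟩
    · exact ⟨true, e⟩
  -- lifts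
  have hlift : ∀ a b : Fin 4, ∃ t, Acts q t (Equiv.swap a b) := by
    intro a b
    obtain ⟨h, hh⟩ := hall (Equiv.swap a.castSucc b.castSucc) (Equiv.swap_apply_of_ne_of_ne
      (Fin.ne_of_val_ne (by have := a.2; simp; omega)) (Fin.ne_of_val_ne (by have := b.2; simp; omega)))
    obtain ⟨c4, hc4⟩ := hact h 4
    rw [hfix] at hc4
    have hc : ∀ i : Fin 4, ∃ c, h * ee q i * h⁻¹ = zs z c * ee q (Equiv.swap a b i) := by
      intro i
      obtain ⟨c, hc⟩ := hact h i.castSucc
      have hi : π h i.castSucc = (Equiv.swap a b i).castSucc := by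
        rw [hh]
        simp only [Equiv.swap_apply_def, Fin.castSucc_inj]
        split_ifs <;> rfl
      rw [hi, Frame.q5_lt, Frame.q5_lt] at hc
      refine ⟨xor c4 c, ?_⟩
      calc h * ee q i * h⁻¹ = (h * q5 q 4 * h⁻¹) * (h * q i * h⁻¹) := by rw [ee]; group
        _ = zs z c4 * q5 q 4 * (zs z c * q (Equiv.swap a b i)) := by rw [hc4, hc]
        _ = zs z (xor c4 c) * ee q (Equiv.swap a b i) := by
          rw [X.zs_xor, mul_assoc, X.pulls, ee, mul_assoc]
    choose c hc using hc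
    refine ⟨prodS q (fun k => c (Equiv.swap a b k)) * h, fun i => ?_⟩
    rw [show prodS q (fun k => c (Equiv.swap a b k)) * h * ee q i *
        (prodS q (fun k => c (Equiv.swap a b k)) * h)⁻¹ = prodS q (fun k => c (Equiv.swap a b k)) *
        (h * ee q i * h⁻¹) * (prodS q (fun k => c (Equiv.swap a b k)))⁻¹ by group, hc i, X.pulls,
      Fr.prodS_flip X, Equiv.swap_apply_self, X.zs_sq, mul_inv_cancel_right]
  obtain ⟨t5, ht5⟩ := hlift 0 1
  obtain ⟨t6₀, ht6₀⟩ := hlift 1 2
  obtain ⟨t7₀, ht7₀⟩ := hlift 2 3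
  have ratio : ∀ {x y : C} {σ τ : Fin 4 → Fin 4}, Acts q x σ → Acts q y τ → (∀ i, σ i = τ i) →
      ∃ b, x = zs z b * y := by
    intro x y σ τ hx hy hst
    obtain ⟨b, hb⟩ := hcent _ (hx.inv_mul hy hst)
    exact ⟨b, by rw [X.zs_comm, ← hb, mul_inv_cancel_left]⟩
  have zAct : ∀ {x : C} {σ : Fin 4 → Fin 4}, Acts q x σ → ∀ b, Acts q (zs z b * x) σ := by
    intro x σ hx b i
    rw [show zs z b * x * ee q i * (zs z b * x)⁻¹ = zs z b * (x * ee q i * x⁻¹) * (zs z b)⁻¹ by group, hx i,
      X.zs_comm, mul_inv_cancel_right]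
  have sqr : ∀ {x : C} {a b : Fin 4}, Acts q x (Equiv.swap a b) → ∃ c, x * x = zs z c := by
    intro x a b hx
    refine hcent _ fun i => ?_
    have h := hx.mul hx i
    simp only [Function.comp_apply, Equiv.swap_apply_self] at h
    exact mul_inv_eq_iff_eq_mul.1 h
  obtain ⟨al, hal⟩ := sqr ht5
  -- normalise the second and third lifts
  have braid : ∀ {x y₀ : C} {σ τ : Fin 4 → Fin 4}, Acts q x σ → Acts q y₀ τ →
      (∀ i, τ (σ (τ i)) = σ (τ (σ i))) → x * x = zs z al → ∃ w, (zs z w * y₀) * (x * (zs z w * y₀)) =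
        zs z al * (x * ((zs z w * y₀) * x)) ∧ (zs z w * y₀) * (zs z w * y₀) = zs z al := by
    intro x y₀ σ τ hx hy hst hxx
    obtain ⟨r, hr'⟩ := ratio (hy.mul (hx.mul hy)) (hx.mul (hy.mul hx)) (fun i => hst i)
    refine ⟨xor r al, ?_, ?_⟩
    · rw [mul_assoc, X.pulls, X.pulls, X.zs_sq, mul_assoc (zs z _) y₀ x, X.pulls, hr', ← mul_assoc (zs z al),
        ← X.zs_xor]
      congr 2
      cases r <;> cases al <;> rfl
    · have h1 : x * y₀ * x * (x * y₀)⁻¹ = zs z r * y₀ := by
        rw [mul_inv_eq_iff_eq_mul, mul_assoc x, mul_assoc (zs z r), hr', X.zs_sq]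
      rw [mul_assoc, X.pulls, X.zs_sq]
      calc y₀ * y₀ = zs z r * y₀ * (zs z r * y₀) := by rw [mul_assoc, X.pulls, X.zs_sq]
        _ = x * y₀ * x * (x * y₀)⁻¹ * (x * y₀ * x * (x * y₀)⁻¹) := by rw [h1]
        _ = x * y₀ * (x * x) * (x * y₀)⁻¹ := by group
        _ = zs z al := by rw [hxx, ← X.zs_comm, mul_inv_cancel_right]
  obtain ⟨w6, hb56, hal6⟩ := braid ht5 ht6₀ (fun i => by revert i; decide) hal
  have ht6 := zAct ht6₀ w6
  obtain ⟨w7, hb67, hal7⟩ := braid ht6 ht7₀ (fun i => by revert i; decide) hal6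
  have ht7 := zAct ht7₀ w7
  generalize ht6' : zs z w6 * t6₀ = t6 at hb56 hal6 ht6 hb67
  generalize ht7' : zs z w7 * t7₀ = t7 at hb67 hal7 ht7
  obtain ⟨be, hbe⟩ := ratio (ht7.mul ht5) (ht5.mul ht7) (fun i => by revert i; decide)
  let g : ℕ → C := fun n => match n with
    | 0 => z | 1 => ee q 0 | 2 => ee q 1 | 3 => ee q 2 | 4 => ee q 3 | 5 => t5 | 6 => t6 | 7 => t7 | _ => 1
  have hzs : ∀ b, (if b then g 0 else 1) = zs z b := fun b => rfl
  refine ⟨al, be, g, ⟨X.zz, X.ne, X.zc, ?_, ?_, ?_, ?_, ?_, ?_, ?_⟩, rfl⟩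
  · intro i h1 h4
    interval_cases i <;> exact Fr.ee_sq X _
  · intro i j h1 hij h4
    interval_cases j <;> interval_cases i <;> exact Fr.ee_anti X _ _ (by decide)
  · intro a i h5 h7 h1 h4
    interval_cases a <;> interval_cases i <;> refine mul_inv_eq_iff_eq_mul.1 ?_
    · exact ht5 0
    · exact ht5 1
    · exact ht5 2
    · exact ht5 3
    · exact ht6 0
    · exact ht6 1
    · exact ht6 2
    · exact ht6 3
    · exact ht7 0
    · exact ht7 1
    · exact ht7 2
    · exact ht7 3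
  · intro a h5 h7
    interval_cases a
    exacts [hal, hal6, hal7]
  · exact hb56
  · exact hb67
  · exact hbe

/-- Three commuting involutions, none a product of the others, span a subgroup of order eight. -/
theorem exists_eight {K : Type u} [Group K] [Finite K] {x y w : K} (hx : x * x = 1) (hy : y * y = 1)
    (hw : w * w = 1) (xy : Commute x y) (xw : Commute x w) (yw : Commute y w) (h1 : x ≠ 1) (h2 : y ≠ 1)
    (h3 : w ≠ 1) (h4 : y ≠ x) (h5 : w ≠ x) (h6 : w ≠ y) (h7 : w ≠ x * y) :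
    ∃ V : Subgroup K, IsElementaryAbelian 2 V ∧ Nat.card ↥V = 8 := by
  have hpow : ∀ {a : K}, a * a = 1 → ∀ n : ℕ, a ^ n = a ^ (n % 2) := fun {a} h n => by
    conv_lhs => rw [← Nat.mod_add_div n 2, pow_add, pow_mul, pow_two, h, one_pow, mul_one]
  let p : ℕ → ℕ → ℕ → K := fun i j k => x ^ i * (y ^ j * w ^ k)
  have hmul : ∀ i j k i' j' k', p i j k * p i' j' k' = p (i + i') (j + j') (k + k') := by
    intro i j k i' j' k'
    show x ^ i * (y ^ j * w ^ k) * (x ^ i' * (y ^ j' * w ^ k')) = _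
    rw [Commute.mul_mul_mul_comm (((xy.pow_pow i' j).symm).mul_left ((xw.pow_pow i' k).symm)),
      Commute.mul_mul_mul_comm ((yw.pow_pow j' k).symm), ← pow_add, ← pow_add, ← pow_add]
  have hmod : ∀ i j k, p i j k = p (i % 2) (j % 2) (k % 2) := fun i j k => by
    show x ^ i * (y ^ j * w ^ k) = _
    rw [hpow hx i, hpow hy j, hpow hw k]
  let T : Submonoid K :=
    { carrier := {a | ∃ i j k, a = p i j k}
      one_mem' := ⟨0, 0, 0, by simp [p]⟩
      mul_mem' := by
        rintro _ _ ⟨i, j, k, rfl⟩ ⟨i', j', k', rfl⟩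
        exact ⟨i + i', j + j', k + k', hmul _ _ _ _ _ _⟩ }
  have hsq : ∀ i j k, p i j k * p i j k = 1 := fun i j k => by
    rw [hmul, hmod]
    simp [p, ← two_mul]
  have hinv : ∀ {a : K}, a ∈ T → a⁻¹ ∈ T := fun {a} ha => by
    obtain ⟨i, j, k, rfl⟩ := ha
    rw [inv_eq_of_mul_eq_one_right (hsq i j k)]
    exact ⟨i, j, k, rfl⟩
  let V : Subgroup K := { toSubmonoid := T, inv_mem' := hinv }
  refine ⟨V, ⟨⟨⟨fun a b => ?_⟩⟩, fun a ha => ?_⟩, ?_⟩
  · obtain ⟨i, j, k, ea⟩ := a.2
    obtain ⟨i', j', k', eb⟩ := b.2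
    refine Subtype.ext ?_
    show (a : K) * b = b * a
    rw [ea, eb, hmul, hmul, add_comm i, add_comm j, add_comm k]
  · obtain ⟨i, j, k, rfl⟩ := ha
    rw [pow_two, hsq]
  · let φ : Fin 2 × Fin 2 × Fin 2 → ↥V := fun t => ⟨p t.1 t.2.1 t.2.2, _, _, _, rfl⟩
    have key : ∀ i j k : Fin 2, p i j k = 1 → i = 0 ∧ j = 0 ∧ k = 0 := by
      have inv2 : ∀ {a b : K}, a * a = 1 → a * b = 1 → b = a := fun {a b} ha hab =>
        mul_left_cancel (hab.trans ha.symm)
      have n7 : x * (y * w) ≠ 1 := fun e => h7 (by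
        have e' : y * w = x := inv2 hx e
        calc w = y * (y * w) := by rw [← mul_assoc, hy, one_mul]
          _ = x * y := by rw [e', xy.eq])
      intro i j k h
      fin_cases i <;> fin_cases j <;> fin_cases k <;> simp [p] at h ⊢
      exacts [h3 h, h2 h, h6 (inv2 hy h), h1 h, h5 (inv2 hx h), h4 (inv2 hx h), n7 h]
    have hφ : Function.Bijective φ := by
      constructor
      · rintro ⟨i, j, k⟩ ⟨i', j', k'⟩ e
        have e' : p i j k = p i' j' k' := congrArg Subtype.val e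
        have h : p (i + i') (j + j') (k + k') = 1 := by rw [← hmul, e', hsq]
        rw [hmod] at h
        have hk := key ⟨(i + i') % 2, Nat.mod_lt _ (by norm_num)⟩ ⟨(j + j') % 2, Nat.mod_lt _ (by norm_num)⟩
          ⟨(k + k') % 2, Nat.mod_lt _ (by norm_num)⟩ h
        obtain ⟨e1, e2, e3⟩ := hk
        have e1' := congrArg Fin.val e1
        have e2' := congrArg Fin.val e2
        have e3' := congrArg Fin.val e3
        simp only [Fin.val_zero] at e1' e2' e3'
        refine Prod.ext (Fin.ext ?_) (Prod.ext (Fin.ext ?_) (Fin.ext ?_)) <;> dsimp only <;> omega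
      · rintro ⟨a, i, j, k, rfl⟩
        exact ⟨(⟨i % 2, Nat.mod_lt _ (by norm_num)⟩, ⟨j % 2, Nat.mod_lt _ (by norm_num)⟩,
          ⟨k % 2, Nat.mod_lt _ (by norm_num)⟩), Subtype.ext (hmod i j k).symm⟩
    rw [← Nat.card_congr (Equiv.ofBijective φ hφ)]
    simp

/-- The data exist. -/
theorem exists_hData {G : Type u} [Group G] [Finite G] (z : G) (hz : orderOf z = 2)
    (E : Subgroup ↥(Subgroup.centralizer ({z} : Set G))) [hEn : E.Normal]
    (hE : Cfsg.IsExtraspecial 2 ↥E) (hE32 : Nat.card ↥E = 32)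
    (hEminus : ∀ A : Subgroup ↥E, Cfsg.IsElementaryAbelian 2 A → Nat.card ↥A ≠ 8)
    (hCE : Subgroup.centralizer (E : Set ↥(Subgroup.centralizer ({z} : Set G))) ≤ E)
    (e : (↥(Subgroup.centralizer ({z} : Set G)) ⧸ E) ≃* Equiv.Perm (Fin 4)) : Nonempty (HData z) := by
  classical
  set zc : ↥(centralizer ({z} : Set G)) := ⟨z, mem_centralizer_singleton_iff.2 rfl⟩ with hzc
  have hcen : ∀ x, zc * x = x * zc := fun x => Subtype.ext (mem_centralizer_singleton_iff.1 x.2).symm
  have hzE : zc ∈ E := hCE (mem_centralizer_iff.2 fun a _ => (hcen a).symm)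
  have hne : zc ≠ 1 := fun h => by
    have h' : z = 1 := congrArg Subtype.val h
    rw [h', orderOf_one] at hz; norm_num at hz
  have hzz : zc * zc = 1 := Subtype.ext (by
    show z * z = 1
    rw [← pow_two, ← hz, pow_orderOf_eq_one])
  have hzmem : (⟨zc, hzE⟩ : ↥E) ∈ center ↥E := Subgroup.mem_center_iff.2 fun a => Subtype.ext (hcen a).symm
  have hcentre : ∀ a ∈ E, (∀ b ∈ E, a * b = b * a) → a = 1 ∨ a = zc := by
    intro a ha hab
    have hmem : (⟨a, ha⟩ : ↥E) ∈ center ↥E := Subgroup.mem_center_iff.2 fun b => Subtype.ext (hab b b.2).symm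
    by_contra hc
    push Not at hc
    have hsub : ({1, ⟨zc, hzE⟩, ⟨a, ha⟩} : Finset ↥E) ⊆ ((center ↥E : Set ↥E).toFinite.toFinset) := by
      intro x hx
      simp only [Finset.mem_insert, Finset.mem_singleton] at hx
      rw [Set.Finite.mem_toFinset]
      rcases hx with rfl | rfl | rfl
      exacts [one_mem _, hzmem, hmem]
    have h3 : ({1, ⟨zc, hzE⟩, ⟨a, ha⟩} : Finset ↥E).card = 3 := by
      refine Finset.card_eq_three.2 ⟨_, _, _, ?_, ?_, ?_, rfl⟩
      · exact fun h => hne (congrArg Subtype.val h).symm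
      · exact fun h => hc.1 (congrArg Subtype.val h).symm
      · exact fun h => hc.2 (congrArg Subtype.val h).symm
    have := Finset.card_le_card hsub
    rw [h3, ← Set.ncard_eq_toFinset_card, ← Nat.card_coe_set_eq] at this
    have h2 : Nat.card ↥(center ↥E) = 2 := hE.2
    simp only [SetLike.coe_sort_coe] at this
    omega
  have hcomm : ∀ a ∈ E, ∀ b ∈ E, a * b = b * a ∨ a * b = zc * (b * a) := by
    intro a ha b hb
    have h : (⟨a, ha⟩ * ⟨b, hb⟩ * ⟨a, ha⟩⁻¹ * ⟨b, hb⟩⁻¹ : ↥E) ∈ center ↥E :=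
      hE.1.2.2 ▸ commutator_mem_commutator (mem_top _) (mem_top _)
    rcases hcentre _ (Subtype.property _) (fun w hw =>
      (congrArg Subtype.val (Subgroup.mem_center_iff.1 h ⟨w, hw⟩)).symm) with e1 | e1
    · exact Or.inl (mul_inv_eq_iff_eq_mul.1 (mul_inv_eq_one.1 e1))
    · refine Or.inr ?_
      rw [← e1]
      simp only [coe_mul, coe_inv]
      group
  have hsq : ∀ a ∈ E, a * a = 1 ∨ a * a = zc := by
    intro a ha
    refine hcentre _ (mul_mem ha ha) fun b hb => ?_
    rcases hcomm a ha b hb with h | h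
    · exact ((show Commute a b from h).mul_left h).eq
    · calc a * a * b = a * (zc * (b * a)) := by rw [mul_assoc, h]
        _ = zc * (a * b) * a := by rw [← mul_assoc, ← hcen a]; simp only [mul_assoc]
        _ = zc * (zc * (b * a)) * a := by rw [h]
        _ = b * (a * a) := by rw [← mul_assoc zc zc, hzz, one_mul, mul_assoc]
  have X : Ex zc E := by
    refine ⟨hzz, hne, hzE, hcen, hsq, hcomm, hcentre, hE32, fun a ha b hb h1 h2 hab => ?_,
      fun x hx h => hEn.conj_mem x hx h, fun x hx => hCE (mem_centralizer_iff.2 fun a ha => (hx a ha).symm)⟩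
    by_contra hc
    push Not at hc
    obtain ⟨ha1, haz, hb1, hbz, hba, hbza⟩ := hc
    obtain ⟨V, hV, h8⟩ := exists_eight (x := (⟨zc, hzE⟩ : ↥E)) (y := ⟨a, ha⟩) (w := ⟨b, hb⟩) (Subtype.ext hzz)
      (Subtype.ext h1) (Subtype.ext h2) (Subtype.ext (hcen a)) (Subtype.ext (hcen b)) (Subtype.ext hab)
      (fun e => hne (congrArg Subtype.val e)) (fun e => ha1 (congrArg Subtype.val e))
      (fun e => hb1 (congrArg Subtype.val e)) (fun e => haz (congrArg Subtype.val e))
      (fun e => hbz (congrArg Subtype.val e)) (fun e => hba (congrArg Subtype.val e))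
      (fun e => hbza (congrArg Subtype.val e))
    exact hEminus V hV h8
  obtain ⟨q, hq, hqa⟩ := X.exists_frame
  have Fr : Frame zc E q := ⟨fun i => (hq i).1, fun i => (hq i).2, hqa⟩
  obtain ⟨π, hker, hact⟩ := exists_action X Fr
  have hidx : E.index = 24 := by
    rw [index_eq_card, Nat.card_congr e.toEquiv, Nat.card_eq_fintype_card, Fintype.card_perm, Fintype.card_fin]
    rfl
  obtain ⟨p, hp⟩ := exists_fixed (S := π.range) (by rw [← index_ker, hker, hidx])
  -- the frame with the fixed class last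
  let σ : Perm (Fin 5) := Equiv.swap p 4
  let q' : Fin 4 → ↥(centralizer ({z} : Set G)) := fun i => q5 q (σ i.castSucc)
  have Fr' : Frame zc E q' := ⟨fun i => Fr.q5_mem X _, fun i => Fr.q5_sq X _, fun i j hij =>
    Fr.q5_anti X _ _ fun h => hij (Fin.castSucc_injective _ (σ.injective h))⟩
  obtain ⟨π', hker', hact'⟩ := exists_action X Fr'
  have hfive : ∃ b, q5 q' 4 = zs zc b * q5 q p := by
    obtain ⟨j, b, hjb⟩ := Fr.invol_class X (Fr'.q5_mem X 4) (Fr'.q5_sq X 4)
      (fun h => Fr'.q5_ne X 4 false h) (fun h => Fr'.q5_ne X 4 true h)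
    by_cases hjp : j = p
    · exact ⟨b, hjp ▸ hjb⟩
    exfalso
    obtain ⟨i, hi⟩ : ∃ i : Fin 4, σ i.castSucc = j := by
      rcases Fin.eq_castSucc_or_eq_last (σ j) with ⟨i, hi⟩ | hi
      · exact ⟨i, by rw [← hi, Equiv.swap_apply_self]⟩
      · refine absurd ?_ hjp
        have : σ (σ j) = σ (Fin.last 4) := by rw [hi]
        rwa [Equiv.swap_apply_self, show (Fin.last 4 : Fin 5) = 4 from rfl, Equiv.swap_apply_right] at this
    refine X.not_both (Fr'.anti_four X i) ?_
    show q5 q (σ i.castSucc) * q5 q' 4 = q5 q' 4 * q5 q (σ i.castSucc)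
    rw [hjb, hi, X.pulls, mul_assoc]
  obtain ⟨b, hb⟩ := hfive
  have hfix : ∀ h, π' h 4 = 4 := by
    intro h
    obtain ⟨c, hc⟩ := hact' h 4
    obtain ⟨d, hd⟩ := hact h p
    rw [hp (π h) ⟨h, rfl⟩] at hd
    have h3 : h * q5 q' 4 * h⁻¹ = zs zc d * q5 q' 4 := by
      rw [hb, show h * (zs zc b * q5 q p) * h⁻¹ = h * zs zc b * h⁻¹ * (h * q5 q p * h⁻¹) by group, hd,
        ← X.zs_comm b h, mul_inv_cancel_right, ← mul_assoc, ← mul_assoc, X.zs_comm b (zs zc d)]
    rw [h3] at hc
    refine (Fr'.q5_inj X (xor c d) ?_).1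
    calc q5 q' (π' h 4) = zs zc c * (zs zc c * q5 q' (π' h 4)) := (X.zs_sq c _).symm
      _ = zs zc (xor c d) * q5 q' 4 := by rw [← hc, X.zs_xor, mul_assoc]
  obtain ⟨al, be, g, R, hg0⟩ := exists_rel X Fr' π' hker' hact' hfix hidx
  have hcard : Nat.card ↥(centralizer ({z} : Set G)) = 768 := by
    rw [← E.card_mul_index, hE32, hidx]
  have D : Model.Real z al be g := ⟨hz, R, by rw [hg0], hcard⟩
  refine D.exists_data ?_
  have : Fact (Nat.Prime 2) := ⟨Nat.prime_two⟩
  have hnil : Group.IsNilpotent ↥E := (IsPGroup.of_card (p := 2) (n := 5) (by rw [hE32]; norm_num)).isNilpotent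
  have hQ : Group.IsSolvable (↥(centralizer ({z} : Set G)) ⧸ E) := by
    have := OrderType.s4_solvable
    exact Group.isSolvable_of_surjective (f := e.symm.toMonoidHom) e.symm.surjective
  exact (Group.isSolvable_iff_subgroup_quotient E).2 ⟨inferInstance, hQ⟩

end Cfsg.Agent.PGammaThreeFour.Recog
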