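import Mathlib.GroupTheory.Sylow
import Mathlib.GroupTheory.Perm.Basic
import Mathlib.Tactic.FinCases

/-!
# Four anticommuting involutions in an extraspecial group of order 32 of minus type
-/

set_option autoImplicit false

namespace Cfsg.Agent.PGammaThreeFour.Recog

universe u

variable {C : Type u} [Group C]

/-- A normal extraspecial subgroup of order 32 of minus type containing its centraliser. -/
structure Ex (z : C) (E : Subgroup C) : Prop where
  zz : z * z = 1
  ne : z ≠ 1
  mem : z ∈ E
  zc : ∀ x, z * x = x * z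
  sq : ∀ a ∈ E, a * a = 1 ∨ a * a = z
  comm : ∀ a ∈ E, ∀ b ∈ E, a * b = b * a ∨ a * b = z * (b * a)
  centre : ∀ a ∈ E, (∀ b ∈ E, a * b = b * a) → a = 1 ∨ a = z
  card : Nat.card E = 32
  minus : ∀ a ∈ E, ∀ b ∈ E, a * a = 1 → b * b = 1 → a * b = b * a →
    a = 1 ∨ a = z ∨ b = 1 ∨ b = z ∨ b = a ∨ b = z * a
  normal : ∀ x ∈ E, ∀ h : C, h * x * h⁻¹ ∈ E
  self : ∀ x, (∀ a ∈ E, x * a = a * x) → x ∈ E

variable {z : C} {E : Subgroup C}

/-- Anticommutation. -/
def Anti (z a b : C) : Prop := a * b = z * (b * a)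

namespace Ex

variable (X : Ex z E)
include X

theorem z_mul_z (x : C) : z * (z * x) = x := by rw [← mul_assoc, X.zz, one_mul]

theorem pull (x y : C) : x * (z * y) = z * (x * y) := by
  rw [← mul_assoc, ← X.zc, mul_assoc]

theorem anti_symm {a b : C} (h : Anti z a b) : Anti z b a := by
  show b * a = z * (a * b)
  rw [h, X.z_mul_z]

theorem not_both {a b : C} (h : Anti z a b) : ¬ a * b = b * a := fun e => by
  have h' : a * b = z * (b * a) := h
  rw [e] at h'
  exact X.ne (mul_eq_right.1 h'.symm)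

/-- Products with an element commuting or anticommuting. -/
theorem anti_mul {a b c : C} (h : Anti z a b) (h' : a * c = c * a) : Anti z a (b * c) := by
  show a * (b * c) = z * (b * c * a)
  rw [← mul_assoc, h, mul_assoc z, mul_assoc b, h', ← mul_assoc b]

theorem comm_mul {a b c : C} (h : Anti z a b) (h' : Anti z a c) : a * (b * c) = b * c * a := by
  rw [← mul_assoc, h, mul_assoc z, mul_assoc b, h', X.pull, X.z_mul_z, ← mul_assoc]

theorem exists_anti {a : C} (ha : a ∈ E) (h1 : a ≠ 1) (h2 : a ≠ z) : ∃ b ∈ E, Anti z a b := by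
  by_contra h
  push Not at h
  rcases X.centre a ha (fun b hb => (X.comm a ha b hb).resolve_right (h b hb)) with e | e
  exacts [h1 e, h2 e]

/-- The elements commuting with an anticommuting pair do not all commute. -/
theorem exists_pair [Finite C] {a b : C} (ha : a ∈ E) (hb : b ∈ E) (h : Anti z a b) :
    ∃ d ∈ E, ∃ d' ∈ E, (a * d = d * a ∧ b * d = d * b) ∧ (a * d' = d' * a ∧ b * d' = d' * b) ∧
      Anti z d d' := by
  by_contra hc
  push Not at hc
  -- adjusting an element into the centraliser of the pair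
  have proj : ∀ x ∈ E, ∃ w ∈ [1, a, b, a * b], a * (x * w) = x * w * a ∧ b * (x * w) = x * w * b := by
    intro x hx
    have hb' := X.anti_symm h
    rcases X.comm a ha x hx with e | e <;> rcases X.comm b hb x hx with e' | e'
    · exact ⟨1, by simp, by simpa using e, by simpa using e'⟩
    · refine ⟨a, by simp, ?_, X.comm_mul e' hb'⟩
      rw [← mul_assoc, e, mul_assoc]
    · refine ⟨b, by simp, X.comm_mul e h, ?_⟩
      rw [← mul_assoc, e', mul_assoc]
    · refine ⟨a * b, by simp, X.comm_mul e (X.anti_symm ?_), X.comm_mul e' (X.anti_symm ?_)⟩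
      · show a * b * a = z * (a * (a * b))
        rw [mul_assoc, hb', X.pull]
      · show a * b * b = z * (b * (a * b))
        rw [show b * (a * b) = b * a * b from (mul_assoc b a b).symm, hb', mul_assoc z (a * b) b, X.z_mul_z]
  have hwE : ∀ w ∈ [1, a, b, a * b], w ∈ E := by
    intro w hw
    simp only [List.mem_cons, List.not_mem_nil, or_false] at hw
    rcases hw with rfl | rfl | rfl | rfl
    exacts [one_mem _, ha, hb, mul_mem ha hb]
  have hD : ∀ d ∈ E, a * d = d * a → b * d = d * b → d = 1 ∨ d = z := by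
    intro d hd e e'
    refine X.centre d hd fun x hx => ?_
    obtain ⟨w, hw, p, p'⟩ := proj x hx
    have hdw : d * w = w * d := by
      simp only [List.mem_cons, List.not_mem_nil, or_false] at hw
      rcases hw with rfl | rfl | rfl | rfl
      · simp
      · exact e.symm
      · exact e'.symm
      · exact (((show Commute d a from e.symm).mul_right e'.symm)).eq
    have h1 : d * (x * w) = x * w * d := by
      rcases X.comm d hd (x * w) (mul_mem hx (hwE w hw)) with h1 | h1
      · exact h1
      · exact absurd h1 (hc d hd (x * w) (mul_mem hx (hwE w hw)) ⟨e, e'⟩ ⟨p, p'⟩)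
    rw [mul_assoc x, ← hdw, ← mul_assoc x, ← mul_assoc d] at h1
    exact mul_right_cancel h1
  classical
  let S : Finset C := ([1, z].flatMap fun c => [1, a, b, a * b].map fun w => c * w⁻¹).toFinset
  have hsub : (E : Set C) ⊆ S := by
    intro x hx
    obtain ⟨w, hw, p, p'⟩ := proj x hx
    simp only [S, List.coe_toFinset, Set.mem_ofPred_eq, List.mem_flatMap, List.mem_map]
    rcases hD _ (mul_mem hx (hwE w hw)) p p' with e | e
    · exact ⟨1, by simp, w, hw, by rw [← e, mul_inv_cancel_right]⟩
    · exact ⟨z, by simp, w, hw, by rw [← e, mul_inv_cancel_right]⟩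
  have h32 := X.card
  have hle := Set.ncard_le_ncard hsub (Finset.finite_toSet S)
  rw [Set.ncard_coe_finset] at hle
  rw [← Nat.card_coe_set_eq] at hle
  have : S.card ≤ 8 := (List.toFinset_card_le _).trans (by simp)
  have : Nat.card (E : Set C) = 32 := h32
  omega

/-- Four pairwise anticommuting involutions. -/
theorem exists_frame [Finite C] : ∃ q : Fin 4 → C, (∀ i, q i ∈ E ∧ q i * q i = 1) ∧
    ∀ i j, i ≠ j → Anti z (q i) (q j) := by
  have hz1 := X.ne
  obtain ⟨e, he, hee⟩ : ∃ e ∈ E, e * e = z := by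
    by_contra h
    push Not at h
    have h2 : ∀ a ∈ E, a * a = 1 := fun a ha => (X.sq a ha).resolve_right (h a ha)
    have hi : ∀ a ∈ E, a⁻¹ = a := fun a ha => inv_eq_of_mul_eq_one_right (h2 a ha)
    have hab : ∀ a ∈ E, a = 1 ∨ a = z := fun a ha => X.centre a ha fun b hb => by
      rw [← hi _ (mul_mem ha hb), mul_inv_rev, hi a ha, hi b hb]
    classical
    have hsub : (E : Set C) ⊆ ({1, z} : Finset C) := fun a ha => by simpa using hab a ha
    have hle := Set.ncard_le_ncard hsub (Finset.finite_toSet _)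
    rw [Set.ncard_coe_finset] at hle
    rw [← Nat.card_coe_set_eq] at hle
    have h32 : Nat.card (E : Set C) = 32 := X.card
    have : ({1, z} : Finset C).card ≤ 2 := Finset.card_le_two
    omega
  have he1 : e ≠ 1 := fun h => X.ne (by rw [← hee, h, one_mul])
  have he2 : e ≠ z := fun h => X.ne (by rw [← hee, h, X.zz])
  obtain ⟨y₀, hy₀, hy⟩ := X.exists_anti he he1 he2
  obtain ⟨d, hd, d', hd', ⟨c1, c2⟩, ⟨c3, c4⟩, hdd⟩ := X.exists_pair he hy₀ hy
  have sqprod : ∀ {a b : C}, Anti z a b → a * a = 1 → b * b = 1 → (a * b) * (a * b) = z := by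
    intro a b hab ha hb
    rw [mul_assoc, ← mul_assoc b, X.anti_symm hab, mul_assoc z, X.pull, mul_assoc, hb, mul_one, ha, mul_one]
  -- a second element of square `z` anticommuting with `e`
  obtain ⟨y, hyE, hy, hyy⟩ : ∃ y ∈ E, Anti z e y ∧ y * y = z := by
    rcases X.sq y₀ hy₀ with h | h
    · obtain ⟨w, hw, hwe, hwy, hww⟩ : ∃ w ∈ E, e * w = w * e ∧ y₀ * w = w * y₀ ∧ w * w = z := by
        rcases X.sq d hd with h1 | h1
        · rcases X.sq d' hd' with h2 | h2
          · exact ⟨d * d', mul_mem hd hd', (Commute.mul_right c1 c3).eq, (Commute.mul_right c2 c4).eq,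
              sqprod hdd h1 h2⟩
          · exact ⟨d', hd', c3, c4, h2⟩
        · exact ⟨d, hd, c1, c2, h1⟩
      refine ⟨y₀ * w, mul_mem hy₀ hw, X.anti_mul hy hwe, ?_⟩
      calc y₀ * w * (y₀ * w) = y₀ * (w * y₀) * w := by simp only [mul_assoc]
        _ = y₀ * (y₀ * w) * w := by rw [hwy]
        _ = (y₀ * y₀) * (w * w) := by simp only [mul_assoc]
        _ = z := by rw [h, hww, one_mul]
    · exact ⟨y₀, hy₀, hy, h⟩
  clear c1 c2 c3 c4 hdd hd hd' d d'
  obtain ⟨d₁, hd₁, d₂, hd₂, ⟨c1, c2⟩, ⟨c3, c4⟩, hdd⟩ := X.exists_pair he hyE hy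
  -- two anticommuting involutions commuting with both
  obtain ⟨d, hd, d', hd', ⟨c1, c2⟩, ⟨c3, c4⟩, hdd, h1, h2⟩ : ∃ d ∈ E, ∃ d' ∈ E,
      (e * d = d * e ∧ y * d = d * y) ∧ (e * d' = d' * e ∧ y * d' = d' * y) ∧ Anti z d d' ∧
      d * d = 1 ∧ d' * d' = 1 := by
    rcases X.sq d₁ hd₁ with h1 | h1
    · rcases X.sq d₂ hd₂ with h2 | h2
      · exact ⟨d₁, hd₁, d₂, hd₂, ⟨c1, c2⟩, ⟨c3, c4⟩, hdd, h1, h2⟩
      · refine ⟨d₁, hd₁, d₁ * d₂, mul_mem hd₁ hd₂, ⟨c1, c2⟩,
          ⟨(Commute.mul_right c1 c3).eq, (Commute.mul_right c2 c4).eq⟩, ?_, h1, ?_⟩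
        · show d₁ * (d₁ * d₂) = z * (d₁ * d₂ * d₁)
          rw [mul_assoc d₁ d₂, X.anti_symm hdd, X.pull, X.z_mul_z]
        · rw [mul_assoc, ← mul_assoc d₂, X.anti_symm hdd, mul_assoc z, X.pull, mul_assoc, h2,
            ← mul_assoc d₁, h1, one_mul, X.zz]
    · rcases X.sq d₂ hd₂ with h2 | h2
      · refine ⟨d₂, hd₂, d₁ * d₂, mul_mem hd₁ hd₂, ⟨c3, c4⟩,
          ⟨(Commute.mul_right c1 c3).eq, (Commute.mul_right c2 c4).eq⟩, ?_, h2, ?_⟩
        · show d₂ * (d₁ * d₂) = z * (d₁ * d₂ * d₂)
          rw [← mul_assoc, X.anti_symm hdd, mul_assoc]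
        · rw [mul_assoc, ← mul_assoc d₂, X.anti_symm hdd, mul_assoc z, X.pull, mul_assoc, h2, mul_one, h1, X.zz]
      · -- then there is an elementary abelian subgroup of order eight
        exfalso
        have hP : ∀ {p q : C}, p * q = q * p → p * p = z → q * q = z → p * q * (p * q) = 1 := by
          intro p q hpq hp hq
          calc p * q * (p * q) = p * (q * p) * q := by simp only [mul_assoc]
            _ = p * p * (q * q) := by rw [← hpq]; simp only [mul_assoc]
            _ = 1 := by rw [hp, hq, X.zz]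
        have hcomm : e * d₁ * (y * d₂) = y * d₂ * (e * d₁) := by
          have hed : e * d₂ = d₂ * e := c3
          calc e * d₁ * (y * d₂) = e * (d₁ * y) * d₂ := by simp only [mul_assoc]
            _ = e * y * (d₁ * d₂) := by rw [← c2]; simp only [mul_assoc]
            _ = y * e * (d₂ * d₁) := by
              rw [hy, hdd, mul_assoc z, X.pull, X.z_mul_z]
            _ = y * (e * d₂) * d₁ := by simp only [mul_assoc]
            _ = y * (d₂ * e) * d₁ := by rw [hed]
            _ = y * d₂ * (e * d₁) := by simp only [mul_assoc]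
        have hz : ∀ c, (c = 1 ∨ c = z) → ∀ x, c * x = x * c := by
          rintro c (rfl | rfl) x
          · simp
          · exact X.zc x
        have ne1 : ¬ (e * d₁ = 1 ∨ e * d₁ = z) := fun hh => X.not_both (X.anti_symm hy) (by
          have h := hz _ hh y
          rw [mul_assoc, ← c2, ← mul_assoc, ← mul_assoc] at h
          exact (mul_right_cancel h).symm)
        have ne2 : ¬ (y * d₂ = 1 ∨ y * d₂ = z) := fun hh => X.not_both hy (by
          have h := hz _ hh e
          rw [mul_assoc, ← c3, ← mul_assoc, ← mul_assoc] at h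
          exact (mul_right_cancel h).symm)
        have ne3 : ∀ c, (c = 1 ∨ c = z) → y * d₂ ≠ c * (e * d₁) := by
          intro c hh eq
          have hA : Anti z e (y * d₂) := X.anti_mul hy c3
          refine X.not_both hA ?_
          rw [eq]
          calc e * (c * (e * d₁)) = c * (e * (e * d₁)) := by rw [← mul_assoc, ← hz c hh e, mul_assoc]
            _ = c * (e * d₁ * e) := by rw [mul_assoc e d₁, ← c1]
            _ = c * (e * d₁) * e := by rw [mul_assoc c]
        rcases X.minus (e * d₁) (mul_mem he hd₁) (y * d₂) (mul_mem hyE hd₂) (hP c1 hee h1) (hP c4 hyy h2)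
          hcomm with h | h | h | h | h | h
        exacts [ne1 (Or.inl h), ne1 (Or.inr h), ne2 (Or.inl h), ne2 (Or.inr h),
          ne3 1 (Or.inl rfl) (by rw [h, one_mul]), ne3 z (Or.inr rfl) h]
  -- the frame
  have hp := sqprod hdd h1 h2
  have sq1 : ∀ {a : C}, a * a = z → a * (d * d') = d * d' * a → d * d' * a * (d * d' * a) = 1 := by
    intro a ha hac
    calc d * d' * a * (d * d' * a) = d * d' * (a * (d * d')) * a := by simp only [mul_assoc]
      _ = d * d' * (d * d') * (a * a) := by rw [hac]; simp only [mul_assoc]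
      _ = 1 := by rw [hp, ha, X.zz]
  have ce : e * (d * d') = d * d' * e := (Commute.mul_right c1 c3).eq
  have cy : y * (d * d') = d * d' * y := (Commute.mul_right c2 c4).eq
  have a1 : ∀ {a : C}, d * a = a * d → Anti z d (d * d' * a) := by
    intro a ha
    refine X.anti_mul ?_ ha
    show d * (d * d') = z * (d * d' * d)
    rw [mul_assoc d d', X.anti_symm hdd, X.pull, X.z_mul_z]
  have a2 : ∀ {a : C}, d' * a = a * d' → Anti z d' (d * d' * a) := by
    intro a ha
    refine X.anti_mul ?_ ha
    show d' * (d * d') = z * (d * d' * d')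
    rw [← mul_assoc, X.anti_symm hdd, mul_assoc]
  have a3 : Anti z (d * d' * e) (d * d' * y) := by
    show d * d' * e * (d * d' * y) = z * (d * d' * y * (d * d' * e))
    calc d * d' * e * (d * d' * y) = d * d' * (e * (d * d')) * y := by simp only [mul_assoc]
      _ = d * d' * (d * d') * (e * y) := by rw [ce]; simp only [mul_assoc]
      _ = z * (d * d' * (d * d') * (y * e)) := by rw [hy, X.pull]
      _ = z * (d * d' * (y * (d * d')) * e) := by rw [cy]; simp only [mul_assoc]
      _ = _ := by simp only [mul_assoc]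
  refine ⟨![d, d', d * d' * e, d * d' * y], fun i => ?_, ?_⟩
  · fin_cases i
    · exact ⟨hd, h1⟩
    · exact ⟨hd', h2⟩
    · exact ⟨mul_mem (mul_mem hd hd') he, sq1 hee ce⟩
    · exact ⟨mul_mem (mul_mem hd hd') hyE, sq1 hyy cy⟩
  · intro i j hij
    fin_cases i <;> fin_cases j
    all_goals first
      | exact absurd rfl hij
      | exact hdd
      | exact X.anti_symm hdd
      | exact a1 c1.symm
      | exact a1 c2.symm
      | exact a2 c3.symm
      | exact a2 c4.symm
      | exact X.anti_symm (a1 c1.symm)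
      | exact X.anti_symm (a1 c2.symm)
      | exact X.anti_symm (a2 c3.symm)
      | exact X.anti_symm (a2 c4.symm)
      | exact a3
      | exact X.anti_symm a3

end Ex

end Cfsg.Agent.PGammaThreeFour.Recog
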