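import Mathlib

/-!
# A subgroup of index three (transfer step for `PΓL₃(4)`-type centralizers)

`ρ` has centralizer of order `180`, is not real, `w` is an involution centralizing `ρ` and
inverting a commuting element `σ` of order three. Then the Sylow 3-subgroup is an abelian
group inverted by `w` extended by `⟨ρ⟩`, and the transfer at `ρ` is nontrivial.
-/

namespace Cfsg.Agent.PGammaThreeFour

open Subgroup
open scoped Pointwise

variable {X : Type*} [Group X]

/-- Parity of a finite type with an involutive map. -/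
theorem tt_invol_parity {α : Type*} [Finite α] (f : α → α) (hf : Function.Involutive f) :
    Nat.card α % 2 = Nat.card {a // f a = a} % 2 := by
  classical
  have := Fintype.ofFinite α
  have hsq : (hf.toPerm f) ^ 2 = 1 := by
    ext a
    simp [pow_two, hf a]
  have h2 := Equiv.Perm.two_dvd_card_support hsq
  rw [Nat.card_eq_fintype_card, Nat.card_eq_fintype_card, Fintype.card_subtype,
    ← Finset.card_univ]
  have hsplit := Finset.card_filter_add_card_filter_not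
    (s := (Finset.univ : Finset α)) (p := fun a => f a = a)
  have hsup : (hf.toPerm f).support = Finset.univ.filter (fun a => ¬ f a = a) := by
    ext a
    simp
  rw [hsup] at h2
  omega

/-- An involutive map of a type of odd cardinality has a fixed point. -/
theorem tt_invol_fixed {α : Type*} [Finite α] (f : α → α) (hf : Function.Involutive f)
    (hodd : Nat.card α % 2 = 1) : ∃ a, f a = a := by
  have h := tt_invol_parity f hf
  rw [hodd] at h
  have hpos : 0 < Nat.card {a // f a = a} := by omega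
  obtain ⟨⟨a, ha⟩⟩ := (Nat.card_pos_iff.mp hpos).1
  exact ⟨a, ha⟩

theorem tt_card_cent_conj [Finite X] (g x : X) :
    Nat.card (centralizer ({g * x * g⁻¹} : Set X)) = Nat.card (centralizer ({x} : Set X)) := by
  refine Nat.card_congr
    { toFun := fun c => ⟨g⁻¹ * c.1 * g, ?_⟩
      invFun := fun c => ⟨g * c.1 * g⁻¹, ?_⟩
      left_inv := fun c => by ext; simp [mul_assoc]
      right_inv := fun c => by ext; simp [mul_assoc] }
  · have h := mem_centralizer_singleton_iff.mp c.2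
    rw [mem_centralizer_singleton_iff]
    have h' := congrArg (fun t => g⁻¹ * t * g) h
    simpa [mul_assoc] using h'
  · have h := mem_centralizer_singleton_iff.mp c.2
    rw [mem_centralizer_singleton_iff]
    have h' := congrArg (fun t => g * t * g⁻¹) h
    simpa [mul_assoc] using h'

theorem tt_centralizer_inv (x : X) :
    centralizer ({x⁻¹} : Set X) = centralizer ({x} : Set X) := by
  ext c
  rw [mem_centralizer_singleton_iff, mem_centralizer_singleton_iff]
  exact ⟨fun h => (Commute.inv_right_iff.mp h : Commute c x),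
    fun h => (Commute.inv_right (h : Commute c x) : Commute c x⁻¹)⟩

theorem tt_three_pow_le {k : ℕ} (h : 3 ^ k ∣ 180) : k ≤ 2 := by
  by_contra hk
  have h27 : 3 ^ 3 ∣ 180 := (pow_dvd_pow 3 (by omega : 3 ≤ k)).trans h
  norm_num at h27

section Basic

variable {ρ σ w : X}

theorem tt_ord (hρ : orderOf ρ = 3) : ρ * ρ * ρ = 1 := by
  have := pow_orderOf_eq_one ρ
  rwa [hρ, pow_succ, pow_two] at this

/-- `σ` is conjugate neither to `ρ` nor to `ρ⁻¹`. -/
theorem tt_sigma_not_conj (hσw : w * σ * w⁻¹ = σ⁻¹)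
    (hreal : ∀ g : X, g * ρ * g⁻¹ ≠ ρ⁻¹) :
    ∀ g : X, g * σ * g⁻¹ ≠ ρ ∧ g * σ * g⁻¹ ≠ ρ⁻¹ := by
  intro g
  have key : (g * w * g⁻¹) * (g * σ * g⁻¹) * (g * w * g⁻¹)⁻¹ = (g * σ * g⁻¹)⁻¹ := by
    have : (g * w * g⁻¹) * (g * σ * g⁻¹) * (g * w * g⁻¹)⁻¹ = g * (w * σ * w⁻¹) * g⁻¹ := by
      group
    rw [this, hσw]
    group
  constructor <;> intro h <;> rw [h] at key
  · exact hreal _ key
  · refine hreal (g * w * g⁻¹) ?_
    have := congrArg (fun t : X => t⁻¹) key
    simpa [mul_inv_rev, mul_assoc] using this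

end Basic

/-- The nine elements generated by two commuting elements of order three. -/
theorem tt_nine {ρ σ : X} (hρ : orderOf ρ = 3) (hσ : orderOf σ = 3) (hc : Commute ρ σ)
    {x : X} (hx : x ∈ zpowers ρ ⊔ zpowers σ) :
    x ∈ zpowers ρ ∨ x ∈ zpowers σ ∨ x = ρ * σ ∨ x = ρ * σ⁻¹ ∨ x = ρ⁻¹ * σ ∨
      x = ρ⁻¹ * σ⁻¹ := by
  have hle : zpowers ρ ≤ normalizer ((zpowers σ : Subgroup X) : Set X) := by
    rw [zpowers_le, mem_normalizer_iff]
    have hh : ∀ h ∈ zpowers σ, ρ * h * ρ⁻¹ = h := by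
      rintro h ⟨n, rfl⟩
      rw [(hc.zpow_right n).eq]
      group
    intro h
    refine ⟨fun hm => (hh h hm).symm ▸ hm, fun hm => ?_⟩
    have := hh _ hm
    have he : ρ * h * ρ⁻¹ = h := by
      calc ρ * h * ρ⁻¹ = ρ⁻¹ * (ρ * (ρ * h * ρ⁻¹) * ρ⁻¹) * ρ := by group
        _ = ρ⁻¹ * (ρ * h * ρ⁻¹) * ρ := by rw [this]
        _ = h := by group
    rwa [he] at hm
  obtain ⟨a, ha, b, hb, rfl⟩ : ∃ a ∈ zpowers ρ, ∃ b ∈ zpowers σ, a * b = x := by
    have hx' : x ∈ ((zpowers ρ ⊔ zpowers σ : Subgroup X) : Set X) := hx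
    rw [coe_mul_of_left_le_normalizer_right _ _ hle] at hx'
    exact hx'
  have key : ∀ {z : X}, orderOf z = 3 → ∀ a ∈ zpowers z, a = 1 ∨ a = z ∨ a = z⁻¹ := by
    intro z hz a ha
    obtain ⟨n, rfl⟩ := ha
    simp only
    rw [← zpow_mod_orderOf, hz]
    have h0 := Int.emod_nonneg n (by norm_num : ((3 : ℕ) : ℤ) ≠ 0)
    have h1 := Int.emod_lt_of_pos n (by norm_num : (0 : ℤ) < ((3 : ℕ) : ℤ))
    generalize n % ((3 : ℕ) : ℤ) = r at h0 h1
    interval_cases r
    · simp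
    · simp
    · right; right
      have h3 := tt_ord hz
      rw [show (2 : ℤ) = ((2 : ℕ) : ℤ) from rfl, zpow_natCast, pow_two]
      exact eq_inv_of_mul_eq_one_left h3
  rcases key hρ a ha with rfl | rfl | rfl
  · right; left; simpa using hb
  all_goals
    rcases key hσ b hb with rfl | rfl | rfl
    · left; simpa using ha
    · simp
    · simp

/-- Counting the elements that conjugate `ρ` into a given coset. -/
theorem tt_count [Finite X] (ρ e : X) (Q : Subgroup X) :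
    Nat.card {g : X // e⁻¹ * (g⁻¹ * ρ * g) ∈ Q} =
      Nat.card (centralizer ({ρ} : Set X)) *
        Nat.card {r : Q // ∃ g : X, g⁻¹ * ρ * g = e * r.1} := by
  classical
  have hmem : ∀ g : {g : X // e⁻¹ * (g⁻¹ * ρ * g) ∈ Q},
      ∃ g' : X, g'⁻¹ * ρ * g' = e * (⟨_, g.2⟩ : Q).1 := fun g => ⟨g.1, by simp [mul_assoc]⟩
  let Φ : centralizer ({ρ} : Set X) × {r : Q // ∃ g : X, g⁻¹ * ρ * g = e * r.1} →
      {g : X // e⁻¹ * (g⁻¹ * ρ * g) ∈ Q} := fun p => ⟨p.1.1 * p.2.2.choose, by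
    have hc := mem_centralizer_singleton_iff.mp p.1.2
    have hs := p.2.2.choose_spec
    have h1 : (p.1.1 * p.2.2.choose)⁻¹ * ρ * (p.1.1 * p.2.2.choose) =
        p.2.2.choose⁻¹ * ρ * p.2.2.choose := by
      have h2 : p.1.1⁻¹ * ρ * p.1.1 = ρ := by
        rw [mul_assoc, ← hc]
        group
      calc _ = p.2.2.choose⁻¹ * (p.1.1⁻¹ * ρ * p.1.1) * p.2.2.choose := by group
        _ = _ := by rw [h2]
    rw [h1, hs]
    simp⟩
  rw [← Nat.card_prod]
  symm
  refine Nat.card_eq_of_bijective Φ ⟨?_, ?_⟩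
  · rintro ⟨c, r⟩ ⟨c', r'⟩ h
    have h0 : c.1 * r.2.choose = c'.1 * r'.2.choose := congrArg Subtype.val h
    have conjC : ∀ (d : centralizer ({ρ} : Set X)) (t : X),
        (d.1 * t)⁻¹ * ρ * (d.1 * t) = t⁻¹ * ρ * t := by
      intro d t
      have hc := mem_centralizer_singleton_iff.mp d.2
      have h2 : d.1⁻¹ * ρ * d.1 = ρ := by
        rw [mul_assoc, ← hc]
        group
      calc _ = t⁻¹ * (d.1⁻¹ * ρ * d.1) * t := by group
        _ = _ := by rw [h2]
    have h1 := conjC c r.2.choose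
    rw [h0, conjC c' r'.2.choose, r'.2.choose_spec, r.2.choose_spec] at h1
    have hr : r = r' := Subtype.ext (Subtype.ext (mul_left_cancel h1).symm)
    subst hr
    exact Prod.ext (Subtype.ext (mul_right_cancel h0)) rfl
  · intro g
    let r : {r : Q // ∃ g : X, g⁻¹ * ρ * g = e * r.1} := ⟨⟨_, g.2⟩, hmem g⟩
    have hs : r.2.choose⁻¹ * ρ * r.2.choose = g.1⁻¹ * ρ * g.1 := by
      rw [r.2.choose_spec]
      simp [r, mul_assoc]
    refine ⟨(⟨g.1 * r.2.choose⁻¹, ?_⟩, r), ?_⟩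
    · rw [mem_centralizer_singleton_iff]
      calc g.1 * r.2.choose⁻¹ * ρ
          = g.1 * (r.2.choose⁻¹ * ρ * r.2.choose) * r.2.choose⁻¹ := by group
        _ = g.1 * (g.1⁻¹ * ρ * g.1) * r.2.choose⁻¹ := by rw [hs]
        _ = ρ * (g.1 * r.2.choose⁻¹) := by group
    · apply Subtype.ext
      change g.1 * r.2.choose⁻¹ * r.2.choose = g.1
      simp

/-- A subset of a group stable under multiplication by the range of an endomorphism with
kernel of order three. -/
theorem tt_range_stable {Q : Type*} [Group Q] [Finite Q] (f : Q →* Q)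
    (hker : Nat.card f.ker = 3) (S : Q → Prop) (hS : ∀ r q, S r → S (r * f q)) :
    ∃ k ≤ 3, Nat.card {r // S r} * 3 = k * Nat.card Q := by
  classical
  set I := f.range
  have hI : Nat.card I * 3 = Nat.card Q := by
    have h := card_mul_index f.ker
    rw [hker, index_ker] at h
    rw [mul_comm]
    exact h
  have hidx : I.index = 3 := by
    have h := card_mul_index I
    rw [← hI] at h
    exact Nat.eq_of_mul_eq_mul_left Nat.card_pos h
  let t : Set (Q ⧸ I) := QuotientGroup.mk '' {r | S r}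
  have hpre : (QuotientGroup.mk : Q → Q ⧸ I) ⁻¹' t = {r | S r} := by
    ext r
    refine ⟨?_, fun h => ⟨r, h, rfl⟩⟩
    rintro ⟨s, hs, hsr⟩
    have hq : s⁻¹ * r ∈ I := QuotientGroup.eq.mp hsr
    obtain ⟨q, hq⟩ := hq
    have := hS s q hs
    rwa [hq, mul_inv_cancel_left] at this
  have hcard : Nat.card {r // S r} = Nat.card I * Nat.card t := by
    rw [← Nat.card_prod, ← Nat.card_congr (QuotientGroup.preimageMkEquivSubgroupProdSet I t)]
    rw [hpre]
    rfl
  refine ⟨Nat.card t, ?_, ?_⟩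
  · calc Nat.card t ≤ Nat.card (Q ⧸ I) :=
        Nat.card_le_card_of_injective _ Subtype.val_injective
      _ = 3 := hidx
  · rw [hcard, ← hI]
    ring

/-- A `w`-invariant Sylow subgroup of `Y` (odd order) containing a given invariant
`3`-subgroup. -/
theorem tt_invariant_sylow [Finite X] {Y P0 : Subgroup X} {w : X} (hw : w * w = 1)
    (hY : Nat.card Y % 2 = 1) (hYw : ∀ y ∈ Y, w * y * w⁻¹ ∈ Y)
    (hP0 : IsPGroup 3 P0) (hP0Y : P0 ≤ Y) (hP0w : ∀ y ∈ P0, w * y * w⁻¹ ∈ P0) :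
    ∃ P : Subgroup X, P0 ≤ P ∧ P ≤ Y ∧ IsPGroup 3 P ∧ (∀ y ∈ P, w * y * w⁻¹ ∈ P) ∧
      ∀ R : Subgroup X, R ≤ Y → IsPGroup 3 R → Nat.card R ≤ Nat.card P := by
  classical
  have : Fact (Nat.Prime 3) := ⟨by norm_num⟩
  let C : Subgroup X → Prop := fun R =>
    P0 ≤ R ∧ R ≤ Y ∧ IsPGroup 3 R ∧ ∀ y ∈ R, w * y * w⁻¹ ∈ R
  have : Nonempty {R // C R} := ⟨⟨P0, le_rfl, hP0Y, hP0, hP0w⟩⟩
  obtain ⟨⟨P, hP0P, hPY, hP, hPw⟩, hmax⟩ :=
    Finite.exists_max (fun R : {R // C R} => Nat.card R.1)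
  refine ⟨P, hP0P, hPY, hP, hPw, ?_⟩
  have hwi : w⁻¹ = w := inv_eq_of_mul_eq_one_right hw
  set N : Subgroup X := normalizer (P : Set X) ⊓ Y with hN
  have hPN : P ≤ N := le_inf le_normalizer hPY
  have hPwi : ∀ y, w * y * w⁻¹ ∈ P → y ∈ P := by
    intro y hy
    have := hPw _ hy
    rwa [show w * (w * y * w⁻¹) * w⁻¹ = (w * w) * y * (w * w)⁻¹ by group, hw,
      one_mul, inv_one, mul_one] at this
  have hNw : ∀ n ∈ N, w * n * w⁻¹ ∈ N := by
    rintro n ⟨hn, hnY⟩
    refine ⟨?_, hYw n hnY⟩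
    refine mem_normalizer_iff.mpr fun h => ?_
    have hn' := mem_normalizer_iff.mp hn (w * h * w⁻¹)
    have e : w * n * w⁻¹ * h * (w * n * w⁻¹)⁻¹ = w * (n * (w * h * w⁻¹) * n⁻¹) * w⁻¹ := by
      rw [hwi]
      simp only [mul_inv_rev, hwi, mul_assoc]
    rw [e]
    exact ⟨fun hh => hPw _ (hn'.mp (hPw _ hh)), fun hh => hPwi _ (hn'.mpr (hPwi _ hh))⟩
  -- the involution acts on the Sylow subgroups of `N`
  let φ : MulAut N :=
    { toFun := fun n => ⟨w * n.1 * w⁻¹, hNw _ n.2⟩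
      invFun := fun n => ⟨w * n.1 * w⁻¹, hNw _ n.2⟩
      left_inv := fun n => by
        ext
        change w * (w * n.1 * w⁻¹) * w⁻¹ = n.1
        rw [show w * (w * n.1 * w⁻¹) * w⁻¹ = (w * w) * n.1 * (w * w)⁻¹ by group, hw,
          one_mul, inv_one, mul_one]
      right_inv := fun n => by
        ext
        change w * (w * n.1 * w⁻¹) * w⁻¹ = n.1
        rw [show w * (w * n.1 * w⁻¹) * w⁻¹ = (w * w) * n.1 * (w * w)⁻¹ by group, hw,
          one_mul, inv_one, mul_one]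
      map_mul' := fun a b => by
        ext
        change w * (a.1 * b.1) * w⁻¹ = w * a.1 * w⁻¹ * (w * b.1 * w⁻¹)
        group }
  have hφ : φ * φ = 1 := by
    apply MulEquiv.ext
    intro n
    exact φ.left_inv n
  have hodd : Nat.card (Sylow 3 N) % 2 = 1 := by
    let S : Sylow 3 N := default
    have h1 : Nat.card (Sylow 3 N) ∣ Nat.card Y :=
      ((S.card_eq_index_normalizer ▸ index_dvd_card _) : Nat.card (Sylow 3 N) ∣ Nat.card N).trans
        (card_dvd_of_le inf_le_right)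
    obtain ⟨c, hc⟩ := h1
    rw [hc, Nat.mul_mod] at hY
    rcases Nat.mod_two_eq_zero_or_one (Nat.card (Sylow 3 N)) with h | h
    · rw [h] at hY; simp at hY
    · exact h
  obtain ⟨S, hS⟩ := tt_invol_fixed (fun T : Sylow 3 N => φ • T)
    (fun T => by simp only [← mul_smul, hφ, one_smul]) hodd
  set R : Subgroup X := (S : Subgroup N).map N.subtype with hR
  have hPS : P.subgroupOf N ≤ (S : Subgroup N) := by
    have : (P.subgroupOf N).Normal := normal_subgroupOf_iff hPN |>.mpr fun a n ha hn =>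
      (mem_normalizer_iff.mp hn.1 a).mp ha
    have hp : IsPGroup 3 (P.subgroupOf N) := hP.comap_subtype
    have hsup : IsPGroup 3 ↥(P.subgroupOf N ⊔ (S : Subgroup N)) :=
      hp.to_sup_of_normal_left S.2
    exact le_sup_left.trans (S.3 hsup le_sup_right).le
  have hPR : P ≤ R := by
    intro x hx
    exact ⟨⟨x, hPN hx⟩, hPS hx, rfl⟩
  have hRC : C R := by
    refine ⟨hP0P.trans hPR, (map_subtype_le _).trans inf_le_right, S.2.map _, ?_⟩
    rintro _ ⟨n, hn, rfl⟩
    refine ⟨φ n, ?_, rfl⟩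
    have h1 : φ • n ∈ φ • (S : Subgroup N) := Subgroup.smul_mem_pointwise_smul n φ _ hn
    have h2 : φ • (S : Subgroup N) = (S : Subgroup N) := congrArg Sylow.toSubgroup hS
    rwa [h2] at h1
  have hRP : R = P := (eq_of_le_of_card_ge hPR (hmax ⟨R, hRC⟩)).symm
  intro U hUY hU
  by_contra hlt
  push Not at hlt
  obtain ⟨m, hm⟩ := IsPGroup.iff_card.mp hP
  obtain ⟨l, hl⟩ := IsPGroup.iff_card.mp hU
  have hml : m + 1 ≤ l := by
    rw [hm, hl] at hlt
    exact (Nat.pow_lt_pow_iff_right (by norm_num)).mp hlt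
  have hdvd : 3 ^ (m + 1) ∣ Nat.card Y :=
    (pow_dvd_pow 3 hml).trans (hl ▸ card_dvd_of_le hUY)
  have hPc : Nat.card (P.subgroupOf Y) = 3 ^ m := by
    rw [Nat.card_congr (subgroupOfEquivOfLe hPY).toEquiv, hm]
  obtain ⟨K, hK, hPK⟩ := Sylow.exists_subgroup_card_pow_succ hdvd hPc
  have : Group.IsNilpotent K := (IsPGroup.of_card hK).isNilpotent
  have hlt' : (P.subgroupOf Y).subgroupOf K < ⊤ := by
    refine lt_top_iff_ne_top.mpr fun h => ?_
    have := congrArg (fun H : Subgroup K => Nat.card H) h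
    simp only [card_top] at this
    rw [Nat.card_congr (subgroupOfEquivOfLe hPK).toEquiv, hPc, hK] at this
    exact absurd (Nat.pow_right_injective (by norm_num) this) (by omega)
  obtain ⟨g, hg, hgP⟩ := SetLike.exists_of_lt
    (Group.normalizerCondition_of_isNilpotent _ hlt')
  have hgN : (g.1.1 : X) ∈ N := by
    refine ⟨?_, g.1.2⟩
    have hfwd : ∀ h ∈ P, g.1.1 * h * g.1.1⁻¹ ∈ P := by
      intro h hh
      have hkK : (⟨h, hPY hh⟩ : Y) ∈ K := hPK hh
      exact (mem_normalizer_iff.mp hg ⟨⟨h, hPY hh⟩, hkK⟩).mp hh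
    refine mem_normalizer_iff.mpr fun h => ⟨hfwd h, fun hh => ?_⟩
    have hbwd : ∀ h ∈ P, g.1.1⁻¹ * h * g.1.1 ∈ P := by
      intro h hh
      have hkK : (⟨h, hPY hh⟩ : Y) ∈ K := hPK hh
      have := (mem_normalizer_iff.mp (inv_mem hg) ⟨⟨h, hPY hh⟩, hkK⟩).mp hh
      simpa [mem_subgroupOf] using this
    have := hbwd _ hh
    simpa [mul_assoc] using this
  -- `P` together with `g` lies in a `3`-subgroup of `N`
  set W : Subgroup X := K.map Y.subtype ⊓ N
  have hW : IsPGroup 3 W := ((IsPGroup.of_card hK).map _).to_le inf_le_left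
  have hPW : P ≤ W := le_inf (fun x hx => ⟨⟨x, hPY hx⟩, hPK hx, rfl⟩) hPN
  have hWS : Nat.card W ≤ Nat.card P := by
    obtain ⟨S', hS'⟩ := (hW.comap_subtype (K := N)).exists_le_sylow
    calc Nat.card W = Nat.card (W.subgroupOf N) :=
          (Nat.card_congr (subgroupOfEquivOfLe (inf_le_right)).toEquiv).symm
      _ ≤ Nat.card (S' : Subgroup N) := card_le_of_le hS'
      _ = Nat.card (S : Subgroup N) := by rw [S'.card_eq_multiplicity, S.card_eq_multiplicity]
      _ = Nat.card R := (card_subtype N _).symm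
      _ = Nat.card P := by rw [hRP]
  have hWP : P = W := eq_of_le_of_card_ge hPW hWS
  apply hgP
  change g.1.1 ∈ P
  rw [hWP]
  exact ⟨⟨g.1, g.2, rfl⟩, hgN⟩

section Structure

variable [Finite X] {ρ σ w : X}

/-- An invariant Sylow 3-subgroup inside the centralizer of `σ`. -/
theorem tt_sylow (hρ : orderOf ρ = 3) (hσ : orderOf σ = 3) (hw : orderOf w = 2)
    (hρσ : Commute ρ σ) (hρw : Commute ρ w) (hσw : w * σ * w⁻¹ = σ⁻¹)
    (hC : Nat.card (centralizer ({ρ} : Set X)) = 180)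
    (hreal : ∀ g : X, g * ρ * g⁻¹ ≠ ρ⁻¹)
    (hinv : ∀ x t : X, orderOf x = 3 → orderOf t = 2 → Commute x t →
      ∃ g : X, g * x * g⁻¹ = ρ ∨ g * x * g⁻¹ = ρ⁻¹) :
    ∃ P : Subgroup X, IsPGroup 3 P ∧ ρ ∈ P ∧ σ ∈ P ∧ ¬ 3 ∣ P.index ∧
      (∀ y ∈ P, w * y * w⁻¹ ∈ P) ∧
      (∀ x ∈ P, Commute x ρ → x ∈ zpowers ρ ⊔ zpowers σ) ∧
      Nat.card (zpowers ρ ⊔ zpowers σ : Subgroup X) = 9 := by
  classical
  have : Fact (Nat.Prime 3) := ⟨by norm_num⟩
  have : Fact (Nat.Prime 2) := ⟨by norm_num⟩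
  set P0 : Subgroup X := zpowers ρ ⊔ zpowers σ with hP0
  set C : Subgroup X := centralizer ({ρ} : Set X) with hCdef
  have hρP0 : ρ ∈ P0 := (le_sup_left : zpowers ρ ≤ P0) (mem_zpowers ρ)
  have hσP0 : σ ∈ P0 := (le_sup_right : zpowers σ ≤ P0) (mem_zpowers σ)
  have hP0C : P0 ≤ C := by
    apply sup_le <;> rw [zpowers_le, hCdef, mem_centralizer_singleton_iff]
    exact hρσ.eq.symm
  have hρn : zpowers ρ ≤ normalizer ((zpowers σ : Subgroup X) : Set X) := by
    rw [zpowers_le]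
    refine (centralizer_le_normalizer _) (mem_centralizer_iff.mpr ?_)
    rintro h ⟨n, rfl⟩
    exact ((hρσ.zpow_right n).eq).symm
  have hzp : ∀ {z : X}, orderOf z = 3 → IsPGroup 3 (zpowers z) := fun {z} hz =>
    IsPGroup.of_card (n := 1) (by rw [Nat.card_zpowers, hz, pow_one])
  have hP0p : IsPGroup 3 P0 := (hzp hρ).to_sup_of_normal_right' (hzp hσ) hρn
  have hle9 : ∀ H : Subgroup X, IsPGroup 3 H → H ≤ C → Nat.card H ≤ 9 := by
    intro H hH hHC
    obtain ⟨k, hk⟩ := IsPGroup.iff_card.mp hH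
    have := card_dvd_of_le hHC
    rw [hk, hCdef, hC] at this
    rw [hk]
    calc 3 ^ k ≤ 3 ^ 2 := Nat.pow_le_pow_right (by norm_num) (tt_three_pow_le this)
      _ = 9 := by norm_num
  have hσρ : σ ∉ zpowers ρ := by
    intro h
    obtain ⟨n, hn⟩ := h
    have hn' : σ = ρ ^ n := hn.symm
    have hc : Commute w σ := hn' ▸ (hρw.symm.zpow_right n)
    have h1 : σ⁻¹ = σ := by rw [← hσw, hc.eq, mul_inv_cancel_right]
    have h3 := tt_ord hσ
    have h2 : σ * σ = 1 := by nth_rewrite 1 [← h1]; exact inv_mul_cancel σ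
    rw [h2, one_mul] at h3
    rw [h3, orderOf_one] at hσ
    omega
  have hP09 : Nat.card P0 = 9 := by
    obtain ⟨k, hk⟩ := IsPGroup.iff_card.mp hP0p
    have h := hle9 P0 hP0p hP0C
    have hlt : Nat.card (zpowers ρ) < Nat.card P0 := by
      refine lt_of_le_of_ne (card_le_of_le le_sup_left) fun he => hσρ ?_
      rw [eq_of_le_of_card_ge (le_sup_left : zpowers ρ ≤ P0) he.ge]
      exact hσP0
    rw [Nat.card_zpowers, hρ] at hlt
    rw [hk] at h hlt ⊢
    have hk2 : k = 2 := by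
      have h1 : 1 < k := by
        by_contra hh
        have : 3 ^ k ≤ 3 ^ 1 := Nat.pow_le_pow_right (by norm_num) (by omega)
        omega
      have h2 : k < 3 := by
        by_contra hh
        have : 3 ^ 3 ≤ 3 ^ k := Nat.pow_le_pow_right (by norm_num) (by omega)
        omega
      omega
    subst hk2; rfl
  have hinter : ∀ H : Subgroup X, IsPGroup 3 H → P0 ≤ H →
      ∀ x ∈ H, Commute x ρ → x ∈ P0 := by
    intro H hH hle x hx hxc
    have h1 : P0 = H ⊓ C := eq_of_le_of_card_ge (le_inf hle hP0C)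
      (hP09 ▸ hle9 _ (hH.to_le inf_le_left) inf_le_right)
    rw [h1]
    exact ⟨hx, mem_centralizer_singleton_iff.mpr hxc.eq⟩
  have hns := tt_sigma_not_conj hσw hreal
  -- the centralizer of `σ` contains a Sylow subgroup of `X`
  obtain ⟨T, hT⟩ := hP0p.exists_le_sylow
  have hTσ : (T : Subgroup X) ≤ centralizer ({σ} : Set X) := by
    intro x hx
    rw [mem_centralizer_singleton_iff]
    by_cases hTP : (T : Subgroup X) ≤ P0
    · rcases tt_nine hρ hσ hρσ (hTP hx) with h | h | rfl | rfl | rfl | rfl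
      · obtain ⟨n, rfl⟩ := h; exact (hρσ.zpow_left n).eq
      · obtain ⟨n, rfl⟩ := h; exact ((Commute.refl σ).zpow_left n).eq
      · exact (hρσ.mul_left (Commute.refl σ)).eq
      · exact (hρσ.mul_left (Commute.refl σ).inv_left).eq
      · exact (hρσ.inv_left.mul_left (Commute.refl σ)).eq
      · exact (hρσ.inv_left.mul_left (Commute.refl σ).inv_left).eq
    · have : Group.IsNilpotent (T : Subgroup X) := T.2.isNilpotent
      have hlt : P0.subgroupOf (T : Subgroup X) < ⊤ :=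
        lt_top_iff_ne_top.mpr fun h => hTP (subgroupOf_eq_top.mp h)
      obtain ⟨g, hg, hgP⟩ := SetLike.exists_of_lt
        (Group.normalizerCondition_of_isNilpotent _ hlt)
      have hy : g.1 * ρ * g.1⁻¹ ∈ P0 :=
        (mem_normalizer_iff.mp hg ⟨ρ, hT hρP0⟩).mp hρP0
      have hcy : Nat.card (centralizer ({g.1 * ρ * g.1⁻¹} : Set X)) = 180 :=
        (tt_card_cent_conj _ _).trans hC
      have hnz : g.1 * ρ * g.1⁻¹ ∉ zpowers ρ ∧ g.1 * ρ * g.1⁻¹ ∉ zpowers σ := by
        constructor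
        · intro h
          obtain ⟨n, hn⟩ := h
          have hn' : g.1 * ρ * g.1⁻¹ = ρ ^ n := hn.symm
          rw [← zpow_mod_orderOf, hρ] at hn'
          have h0 := Int.emod_nonneg n (by norm_num : ((3 : ℕ) : ℤ) ≠ 0)
          have h1 := Int.emod_lt_of_pos n (by norm_num : (0 : ℤ) < ((3 : ℕ) : ℤ))
          generalize n % ((3 : ℕ) : ℤ) = r at h0 h1 hn'
          interval_cases r
          · rw [zpow_zero, conj_eq_one_iff] at hn'
            rw [hn', orderOf_one] at hρ; omega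
          · rw [zpow_one] at hn'
            exact hgP (hinter _ T.2 hT g.1 g.2 (mul_inv_eq_iff_eq_mul.mp hn'))
          · refine hreal g.1 (hn'.trans ?_)
            rw [show (2 : ℤ) = ((2 : ℕ) : ℤ) from rfl, zpow_natCast, pow_two]
            exact eq_inv_of_mul_eq_one_left (tt_ord hρ)
        · intro h
          obtain ⟨n, hn⟩ := h
          have hn' : g.1 * ρ * g.1⁻¹ = σ ^ n := hn.symm
          rw [← zpow_mod_orderOf, hσ] at hn'
          have h0 := Int.emod_nonneg n (by norm_num : ((3 : ℕ) : ℤ) ≠ 0)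
          have h1 := Int.emod_lt_of_pos n (by norm_num : (0 : ℤ) < ((3 : ℕ) : ℤ))
          generalize n % ((3 : ℕ) : ℤ) = r at h0 h1 hn'
          interval_cases r
          · rw [zpow_zero, conj_eq_one_iff] at hn'
            rw [hn', orderOf_one] at hρ; omega
          · rw [zpow_one] at hn'
            exact (hns g.1⁻¹).1 (by rw [← hn']; group)
          · rw [show (2 : ℤ) = ((2 : ℕ) : ℤ) from rfl, zpow_natCast, pow_two,
              eq_inv_of_mul_eq_one_left (tt_ord hσ)] at hn'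
            exact (hns g.1⁻¹).2 (by
              rw [show σ = (g.1 * ρ * g.1⁻¹)⁻¹ by rw [hn', inv_inv]]; group)
      have hconjw : Nat.card (centralizer ({w * (g.1 * ρ * g.1⁻¹) * w⁻¹} : Set X)) = 180 :=
        (tt_card_cent_conj _ _).trans hcy
      have hwρ : w * ρ * w⁻¹ = ρ := by rw [← hρw.eq, mul_inv_cancel_right]
      have hall : ∀ m ∈ ({ρ * σ, ρ * σ⁻¹, ρ⁻¹ * σ, ρ⁻¹ * σ⁻¹} : Set X),
          Nat.card (centralizer ({m} : Set X)) = 180 := by
        have e1 : (ρ * σ)⁻¹ = ρ⁻¹ * σ⁻¹ := by rw [mul_inv_rev, hρσ.inv_inv.eq]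
        have e2 : (ρ * σ⁻¹)⁻¹ = ρ⁻¹ * σ := by
          rw [mul_inv_rev, inv_inv, hρσ.inv_left.eq]
        have e3 : w * (ρ * σ) * w⁻¹ = ρ * σ⁻¹ := by
          rw [show w * (ρ * σ) * w⁻¹ = (w * ρ * w⁻¹) * (w * σ * w⁻¹) by group, hwρ, hσw]
        have hb : Nat.card (centralizer ({ρ * σ} : Set X)) = 180 := by
          rcases tt_nine hρ hσ hρσ hy with h | h | h | h | h | h
          · exact absurd h hnz.1
          · exact absurd h hnz.2
          · rw [← h]; exact hcy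
          · rw [h, ← e3, tt_card_cent_conj] at hcy; exact hcy
          · rw [h, ← e2, ← e3, tt_centralizer_inv, tt_card_cent_conj] at hcy; exact hcy
          · rw [h, ← e1, tt_centralizer_inv] at hcy; exact hcy
        intro m hm
        simp only [Set.mem_insert_iff, Set.mem_singleton_iff] at hm
        rcases hm with rfl | rfl | rfl | rfl
        · exact hb
        · rw [← e3, tt_card_cent_conj, hb]
        · rw [← e2, ← e3, tt_centralizer_inv, tt_card_cent_conj, hb]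
        · rw [← e1, tt_centralizer_inv, hb]
      have : Nontrivial (T : Subgroup X) :=
        ⟨⟨⟨ρ, hT hρP0⟩, 1, fun h => by
          have : ρ = 1 := congrArg Subtype.val h
          rw [this, orderOf_one] at hρ; omega⟩⟩
      have := T.2.center_nontrivial
      obtain ⟨z, hz⟩ : ∃ z : center (T : Subgroup X), orderOf z = 3 := by
        obtain ⟨k, hk⟩ := IsPGroup.iff_card.mp (T.2.to_subgroup (center _))
        refine exists_prime_orderOf_dvd_card' 3 ?_
        rw [hk]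
        refine dvd_pow_self 3 fun h0 => ?_
        rw [h0, pow_zero] at hk
        exact not_subsingleton (center (T : Subgroup X)) (Nat.card_eq_one_iff_unique.mp hk).1
      have hzord : orderOf z.1.1 = 3 := by rw [orderOf_coe, orderOf_coe, hz]
      have hzc : ∀ t ∈ (T : Subgroup X), Commute t z.1.1 := fun t ht =>
        congrArg Subtype.val (mem_center_iff.mp z.2 ⟨t, ht⟩)
      have hz0 : z.1.1 ∈ P0 := hinter _ T.2 hT _ z.1.2 (hzc ρ (hT hρP0)).symm
      have hno : ∀ m : X, Nat.card (centralizer ({m} : Set X)) = 180 →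
          (∀ t ∈ (T : Subgroup X), Commute t m) → False := by
        intro m hm hcm
        apply hTP
        have hTc : (T : Subgroup X) ≤ centralizer ({m} : Set X) := fun t ht =>
          mem_centralizer_singleton_iff.mpr (hcm t ht).eq
        obtain ⟨k, hk⟩ := IsPGroup.iff_card.mp T.2
        have hd := card_dvd_of_le hTc
        rw [hk, hm] at hd
        refine (eq_of_le_of_card_ge hT ?_).ge
        rw [hk, hP09]
        calc 3 ^ k ≤ 3 ^ 2 := Nat.pow_le_pow_right (by norm_num) (tt_three_pow_le hd)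
          _ = 9 := by norm_num
      have hsub : ∀ {a : X}, z.1.1 ∈ zpowers a → orderOf a = 3 → a ∈ zpowers z.1.1 := by
        intro a ha hord
        rw [eq_of_le_of_card_ge (zpowers_le.mpr ha)
          (by rw [Nat.card_zpowers, Nat.card_zpowers, hord, hzord])]
        exact mem_zpowers a
      rcases tt_nine hρ hσ hρσ hz0 with h | h | h | h | h | h
      · obtain ⟨n, hn⟩ := hsub h hρ
        exact (hno ρ hC fun t ht => hn ▸ (hzc t ht).zpow_right n).elim
      · obtain ⟨n, hn⟩ := hsub h hσ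
        have hn' : z.1.1 ^ n = σ := hn
        exact (hn' ▸ (hzc x hx).zpow_right n).eq
      all_goals exact (hno z.1.1 (h ▸ hall _ (by simp)) hzc).elim
  -- the centralizer of `σ` has odd order
  have hYodd : Nat.card (centralizer ({σ} : Set X)) % 2 = 1 := by
    by_contra hev
    obtain ⟨t, ht⟩ := exists_prime_orderOf_dvd_card'
      (G := centralizer ({σ} : Set X)) 2 (Nat.dvd_of_mod_eq_zero (by omega))
    obtain ⟨g, hg⟩ := hinv σ t.1 hσ (by rw [orderOf_coe, ht])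
      (mem_centralizer_singleton_iff.mp t.2).symm
    rcases hg with h | h
    · exact (hns g).1 h
    · exact (hns g).2 h
  have hw2 : w * w = 1 := by
    have := pow_orderOf_eq_one w
    rwa [hw, pow_two] at this
  have hYw : ∀ y ∈ centralizer ({σ} : Set X), w * y * w⁻¹ ∈ centralizer ({σ} : Set X) := by
    intro y hy
    have hy' : Commute y σ := mem_centralizer_singleton_iff.mp hy
    rw [mem_centralizer_singleton_iff]
    have hwσi : w * σ⁻¹ * w⁻¹ = σ := by
      rw [show w * σ⁻¹ * w⁻¹ = (w * σ * w⁻¹)⁻¹ by group, hσw, inv_inv]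
    calc w * y * w⁻¹ * σ = w * y * w⁻¹ * (w * σ⁻¹ * w⁻¹) := by rw [hwσi]
      _ = w * (y * σ⁻¹) * w⁻¹ := by group
      _ = w * (σ⁻¹ * y) * w⁻¹ := by rw [hy'.inv_right.eq]
      _ = (w * σ⁻¹ * w⁻¹) * (w * y * w⁻¹) := by group
      _ = σ * (w * y * w⁻¹) := by rw [hwσi]
  have hP0w : ∀ y ∈ P0, w * y * w⁻¹ ∈ P0 := by
    have : P0 ≤ P0.comap (MulAut.conj w).toMonoidHom := by
      apply sup_le <;> rw [zpowers_le, mem_comap]
      · change w * ρ * w⁻¹ ∈ P0
        rw [← hρw.eq, mul_inv_cancel_right]; exact hρP0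
      · change w * σ * w⁻¹ ∈ P0
        rw [hσw]; exact inv_mem hσP0
    exact fun y hy => this hy
  obtain ⟨P, hP0P, hPY, hP, hPw, hmax⟩ :=
    tt_invariant_sylow hw2 hYodd hYw hP0p (hT.trans hTσ) hP0w
  refine ⟨P, hP, hP0P hρP0, hP0P hσP0, ?_, hPw, hinter P hP hP0P, hP09⟩
  obtain ⟨S, hS⟩ := hP.exists_le_sylow
  have hPS : P = S := eq_of_le_of_card_ge hS (by
    calc Nat.card (S : Subgroup X) = Nat.card (T : Subgroup X) := by
          rw [S.card_eq_multiplicity, T.card_eq_multiplicity]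
      _ ≤ Nat.card P := hmax _ hTσ T.2)
  rw [hPS]
  exact S.not_dvd_index

/-- The maximal invariant normal subgroup of `P` missing `ρ` is abelian of index three. -/
theorem tt_inverted (hρ : orderOf ρ = 3) (hσ : orderOf σ = 3) (hw : orderOf w = 2)
    (hρσ : Commute ρ σ) (hρw : Commute ρ w) (hσw : w * σ * w⁻¹ = σ⁻¹)
    (hw3 : ¬ 9 ∣ Nat.card (centralizer ({w} : Set X)))
    {P : Subgroup X} (hP : IsPGroup 3 P) (hρP : ρ ∈ P) (hσP : σ ∈ P)
    (hPw : ∀ y ∈ P, w * y * w⁻¹ ∈ P)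
    (hPρ : ∀ x ∈ P, Commute x ρ → x ∈ zpowers ρ ⊔ zpowers σ)
    (h9 : Nat.card (zpowers ρ ⊔ zpowers σ : Subgroup X) = 9) :
    ∃ Q : Subgroup X, Q ≤ P ∧ (∀ x ∈ P, ∀ q ∈ Q, x * q * x⁻¹ ∈ Q) ∧ ρ ∉ Q ∧
      Nat.card P = 3 * Nat.card Q ∧
      (∀ x ∈ P, x ∈ Q ∨ ρ⁻¹ * x ∈ Q ∨ ρ * x ∈ Q) ∧
      (∀ x ∈ P, ∀ y ∈ P, x * y * x⁻¹ * y⁻¹ ∈ Q) ∧
      (∀ q ∈ Q, w * q * w⁻¹ = q⁻¹) ∧ (∀ a ∈ Q, ∀ b ∈ Q, a * b = b * a) ∧
      Nat.card {q : Q // Commute q.1 ρ} = 3 := by
  classical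
  have : Fact (Nat.Prime 3) := ⟨by norm_num⟩
  have hw2 : w * w = 1 := by
    have := pow_orderOf_eq_one w
    rwa [hw, pow_two] at this
  have hww : ∀ y : X, w * (w * y * w⁻¹) * w⁻¹ = y := fun y => by
    rw [show w * (w * y * w⁻¹) * w⁻¹ = (w * w) * y * (w * w)⁻¹ by group, hw2, one_mul,
      inv_one, mul_one]
  have hρ3 := tt_ord hρ
  have hwρ : w * ρ * w⁻¹ = ρ := by rw [← hρw.eq, mul_inv_cancel_right]
  -- fixed points of `w` on `P`
  have hfix : ∀ x ∈ P, w * x * w⁻¹ = x → x ∈ zpowers ρ := by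
    intro x hx hxw
    have hle : zpowers ρ ≤ P ⊓ centralizer ({w} : Set X) := by
      rw [zpowers_le]
      exact ⟨hρP, mem_centralizer_singleton_iff.mpr hρw.eq⟩
    obtain ⟨k, hk⟩ := IsPGroup.iff_card.mp
      (hP.to_le (inf_le_left (b := centralizer ({w} : Set X))))
    have hd := card_dvd_of_le (inf_le_right (a := P) (b := centralizer ({w} : Set X)))
    have hk1 : k ≤ 1 := by
      by_contra hh
      refine hw3 (dvd_trans ?_ (hk ▸ hd))
      exact (show (9 : ℕ) ∣ 3 ^ 2 by norm_num).trans (pow_dvd_pow 3 (by omega))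
    rw [eq_of_le_of_card_ge hle (by
      rw [Nat.card_zpowers, hρ, hk]
      exact (Nat.pow_le_pow_right (by norm_num) hk1).trans (by norm_num))]
    exact ⟨hx, mem_centralizer_singleton_iff.mpr (mul_inv_eq_iff_eq_mul.mp hxw).symm⟩
  -- a maximal candidate
  let C : Subgroup X → Prop := fun R => R ≤ P ∧ (∀ x ∈ P, ∀ q ∈ R, x * q * x⁻¹ ∈ R) ∧
    (∀ q ∈ R, w * q * w⁻¹ ∈ R) ∧ ρ ∉ R
  have : Nonempty {R // C R} := ⟨⟨⊥, bot_le, by simp, by simp, by
    rw [mem_bot]; intro h; rw [h, orderOf_one] at hρ; omega⟩⟩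
  obtain ⟨⟨Q, hQP, hQn, hQw, hρQ⟩, hmax⟩ :=
    Finite.exists_max (fun R : {R // C R} => Nat.card R.1)
  have hbig : ∀ R : Subgroup X, C R → Q ≤ R → R = Q := fun R hR hle =>
    (eq_of_le_of_card_ge hle (hmax ⟨R, hR⟩)).symm
  set Q' : Subgroup P := Q.subgroupOf P with hQ'
  have : Q'.Normal := ⟨fun n hn g => hQn g.1 g.2 n.1 hn⟩
  have hmk : ∀ a b : P, (a : P ⧸ Q') = b ↔ a.1⁻¹ * b.1 ∈ Q := fun a b => by
    rw [QuotientGroup.eq]; rfl
  have hpq : IsPGroup 3 (P ⧸ Q') := hP.to_quotient Q'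
  have : Nontrivial (P ⧸ Q') := ⟨⟨((⟨ρ, hρP⟩ : P) : P ⧸ Q'), 1, fun h => hρQ (by
    have := (QuotientGroup.eq_one_iff (⟨ρ, hρP⟩ : P)).mp h
    exact this)⟩⟩
  -- `ρ` is central modulo `Q`
  let Z : Subgroup X := ((center (P ⧸ Q')).comap (QuotientGroup.mk' Q')).map P.subtype
  have hZmem : ∀ z : P, z.1 ∈ Z ↔ ∀ x : P, (x : P ⧸ Q') * z = z * x := by
    intro z
    constructor
    · rintro ⟨z', hz', he⟩ x
      obtain rfl : z' = z := Subtype.ext he
      exact (mem_center_iff.mp hz' (x : P ⧸ Q'))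
    · intro h
      refine ⟨z, mem_center_iff.mpr fun g => ?_, rfl⟩
      obtain ⟨x, rfl⟩ := QuotientGroup.mk_surjective g
      exact h x
  have hQZ : Q ≤ Z := by
    intro q hq
    refine (hZmem ⟨q, hQP hq⟩).mpr fun x => ?_
    have : ((⟨q, hQP hq⟩ : P) : P ⧸ Q') = 1 := (QuotientGroup.eq_one_iff _).mpr hq
    rw [this, mul_one, one_mul]
  have hcom : ∀ z : P, z.1 ∈ Z → ∀ x : P, x.1 * z.1 * x.1⁻¹ * z.1⁻¹ ∈ Q := by
    intro z hz x
    have h := (hZmem z).mp hz x
    have : ((x * z * x⁻¹ * z⁻¹ : P) : P ⧸ Q') = 1 := by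
      simp only [QuotientGroup.mk_mul, QuotientGroup.mk_inv, h, mul_inv_cancel_right,
        mul_inv_cancel]
    exact (QuotientGroup.eq_one_iff (x * z * x⁻¹ * z⁻¹)).mp this
  have hρZ : ρ ∈ Z := by
    by_contra hρZ
    have hZQ : Z = Q := by
      refine hbig Z ⟨map_subtype_le _, ?_, ?_, hρZ⟩ hQZ
      · intro x hx z hz
        have hzP : z ∈ P := map_subtype_le _ hz
        have := hcom ⟨z, hzP⟩ hz ⟨x, hx⟩
        rw [show x * z * x⁻¹ = x * z * x⁻¹ * z⁻¹ * z by group]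
        exact mul_mem (hQZ this) hz
      · intro z hz
        have hzP : z ∈ P := map_subtype_le _ hz
        refine (hZmem ⟨_, hPw z hzP⟩).mpr fun x => ?_
        rw [← QuotientGroup.mk_mul, ← QuotientGroup.mk_mul, hmk]
        have h1 := hQw _ (hcom ⟨z, hzP⟩ hz ⟨w * x.1⁻¹ * w⁻¹, hPw _ (inv_mem x.2)⟩)
        have h2 := hQn _ (inv_mem (hPw z hzP)) _ h1
        have he : (x.1 * (w * z * w⁻¹))⁻¹ * (w * z * w⁻¹ * x.1) =
            (w * z * w⁻¹)⁻¹ * (w * ((w * x.1⁻¹ * w⁻¹) * z * (w * x.1⁻¹ * w⁻¹)⁻¹ * z⁻¹) * w⁻¹) *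
              (w * z * w⁻¹)⁻¹⁻¹ := by
          have h3 : w * ((w * x.1⁻¹ * w⁻¹) * z * (w * x.1⁻¹ * w⁻¹)⁻¹ * z⁻¹) * w⁻¹ =
              (w * (w * x.1⁻¹ * w⁻¹) * w⁻¹) * (w * z * w⁻¹) *
                (w * (w * x.1⁻¹ * w⁻¹) * w⁻¹)⁻¹ * (w * z * w⁻¹)⁻¹ := by group
          rw [h3, hww]
          group
        change (x.1 * (w * z * w⁻¹))⁻¹ * (w * z * w⁻¹ * x.1) ∈ Q
        rw [he]
        exact h2
    have := hpq.center_nontrivial
    obtain ⟨⟨c, hc⟩, hc1⟩ := exists_ne (1 : center (P ⧸ Q'))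
    obtain ⟨z, rfl⟩ := QuotientGroup.mk_surjective c
    have hz : z.1 ∈ Z := ⟨z, hc, rfl⟩
    rw [hZQ] at hz
    exact hc1 (Subtype.ext ((QuotientGroup.eq_one_iff z).mpr hz))
  -- the quotient is abelian
  have hcard : Nat.card P ≤ 9 * Nat.card Q := by
    set P0' : Subgroup P := (zpowers ρ ⊔ zpowers σ).subgroupOf P with hP0'
    have h9' : Nat.card P0' = 9 := by
      rw [hP0', Nat.card_congr (subgroupOfEquivOfLe (sup_le (zpowers_le.mpr hρP)
        (zpowers_le.mpr hσP))).toEquiv, h9]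
    let g : P ⧸ P0' → Q := fun c =>
      ⟨c.out.1 * ρ * c.out.1⁻¹ * ρ⁻¹, hcom ⟨ρ, hρP⟩ hρZ c.out⟩
    have hg : Function.Injective g := by
      intro a b hab
      have h : a.out.1 * ρ * a.out.1⁻¹ = b.out.1 * ρ * b.out.1⁻¹ :=
        mul_right_cancel (congrArg Subtype.val hab)
      rw [← QuotientGroup.out_eq' a, ← QuotientGroup.out_eq' b, QuotientGroup.eq]
      refine hPρ _ (mul_mem (inv_mem a.out.2) b.out.2) ?_
      change a.out.1⁻¹ * b.out.1 * ρ = ρ * (a.out.1⁻¹ * b.out.1)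
      have h' := congrArg (fun t => a.out.1⁻¹ * t * b.out.1) h
      simp only [mul_assoc, inv_mul_cancel_left, inv_mul_cancel, mul_one] at h'
      simpa [mul_assoc] using h'.symm
    have := Nat.card_le_card_of_injective g hg
    rw [card_eq_card_quotient_mul_card_subgroup P0', h9']
    rw [mul_comm]
    exact Nat.mul_le_mul_left 9 this
  have hPQ : Nat.card (P ⧸ Q') * Nat.card Q = Nat.card P := by
    rw [← Nat.card_congr (subgroupOfEquivOfLe hQP).toEquiv]
    exact (card_eq_card_quotient_mul_card_subgroup Q').symm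
  have hab : ∀ a b : P ⧸ Q', a * b = b * a := by
    obtain ⟨k, hk⟩ := IsPGroup.iff_card.mp hpq
    have hle : Nat.card (P ⧸ Q') ≤ 9 :=
      Nat.le_of_mul_le_mul_right (hPQ.le.trans hcard) Nat.card_pos
    have hk2 : k ≤ 2 := by
      by_contra hh
      have : 3 ^ 3 ≤ 3 ^ k := Nat.pow_le_pow_right (by norm_num) (by omega)
      omega
    interval_cases k
    · have := (Nat.card_eq_one_iff_unique.mp hk).1
      exact fun a b => Subsingleton.elim _ _
    · have := isCyclic_of_prime_card (α := P ⧸ Q') (p := 3) (by simpa using hk)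
      exact fun a b => (IsCyclic.isMulCommutative (α := P ⧸ Q')).is_comm.comm a b
    · exact IsPGroup.commutative_of_card_eq_prime_sq hk
  have hcomm : ∀ x ∈ P, ∀ y ∈ P, x * y * x⁻¹ * y⁻¹ ∈ Q := by
    intro x hx y hy
    exact hcom ⟨y, hy⟩ ((hZmem ⟨y, hy⟩).mpr fun z => hab _ _) ⟨x, hx⟩
  -- nothing outside `Q` is inverted modulo `Q`
  let ψ : P →* P ⧸ Q' :=
    { toFun := fun x => ((⟨w * x.1 * w⁻¹, hPw _ x.2⟩ * x : P) : P ⧸ Q')
      map_one' := by
        rw [QuotientGroup.eq_one_iff]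
        change w * 1 * w⁻¹ * 1 ∈ Q
        rw [mul_one, mul_one, mul_inv_cancel]
        exact one_mem _
      map_mul' := fun a b => by
        have he : (⟨w * (a * b : P).1 * w⁻¹, hPw _ (a * b : P).2⟩ : P) =
            ⟨w * a.1 * w⁻¹, hPw _ a.2⟩ * ⟨w * b.1 * w⁻¹, hPw _ b.2⟩ := by
          ext
          change w * (a.1 * b.1) * w⁻¹ = w * a.1 * w⁻¹ * (w * b.1 * w⁻¹)
          group
        rw [he]
        simp only [QuotientGroup.mk_mul]
        simp only [mul_assoc]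
        congr 1
        simp only [← mul_assoc]
        exact congrArg (· * _) (hab _ _) }
  have hψ : ∀ x : P, x ∈ ψ.ker ↔ w * x.1 * w⁻¹ * x.1 ∈ Q := fun x => by
    rw [MonoidHom.mem_ker]
    exact QuotientGroup.eq_one_iff (N := Q') (⟨w * x.1 * w⁻¹, hPw _ x.2⟩ * x : P)
  have hD : ∀ x ∈ P, w * x * w⁻¹ * x ∈ Q → x ∈ Q := by
    intro x hx hxd
    have hQD : Q ≤ ψ.ker.map P.subtype := fun q hq =>
      ⟨⟨q, hQP hq⟩, (hψ _).mpr (mul_mem (hQw q hq) hq), rfl⟩
    have heq := hbig (ψ.ker.map P.subtype) ⟨map_subtype_le _, ?_, ?_, ?_⟩ hQD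
    · rw [← heq]
      exact ⟨⟨x, hx⟩, (hψ _).mpr hxd, rfl⟩
    · intro y hy z hz
      have hzP : z ∈ P := map_subtype_le _ hz
      rw [show y * z * y⁻¹ = y * z * y⁻¹ * z⁻¹ * z by group]
      exact mul_mem (hQD (hcomm y hy z hzP)) hz
    · rintro _ ⟨z, hz, rfl⟩
      refine ⟨⟨w * z.1 * w⁻¹, hPw _ z.2⟩, (hψ _).mpr ?_, rfl⟩
      rw [hww]
      have := hQn z.1 z.2 _ ((hψ z).mp hz)
      simpa [mul_assoc] using this
    · rintro ⟨z, hz, he⟩
      have h := (hψ z).mp hz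
      rw [show z.1 = ρ from he, hwρ] at h
      apply hρQ
      have h' := inv_mem h
      rwa [inv_eq_of_mul_eq_one_right hρ3] at h'
  have hQodd : Nat.card Q % 2 = 1 := by
    obtain ⟨k, hk⟩ := IsPGroup.iff_card.mp (hP.to_le hQP)
    rw [hk, Nat.pow_mod]; norm_num
  -- every coset of `Q` meets `⟨ρ⟩`
  have hdec : ∀ x ∈ P, x ∈ Q ∨ ρ⁻¹ * x ∈ Q ∨ ρ * x ∈ Q := by
    intro x hx
    have hd : x * (w * x * w⁻¹)⁻¹ ∈ Q := by
      refine hD _ (mul_mem hx (inv_mem (hPw x hx))) ?_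
      rw [show w * (x * (w * x * w⁻¹)⁻¹) * w⁻¹ =
        (w * x * w⁻¹) * (w * (w * x * w⁻¹) * w⁻¹)⁻¹ by group, hww]
      rw [show w * x * w⁻¹ * x⁻¹ * (x * (w * x * w⁻¹)⁻¹) = 1 by group]
      exact one_mem _
    have hc : x⁻¹ * (w * x * w⁻¹) ∈ Q := by
      have := hQn x⁻¹ (inv_mem hx) _ (inv_mem hd)
      simpa [mul_assoc] using this
    let f : Q → Q := fun q =>
      ⟨x⁻¹ * (w * x * w⁻¹) * (w * q.1 * w⁻¹), mul_mem hc (hQw _ q.2)⟩
    have hf : Function.Involutive f := by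
      intro q
      apply Subtype.ext
      change x⁻¹ * (w * x * w⁻¹) * (w * (x⁻¹ * (w * x * w⁻¹) * (w * q.1 * w⁻¹)) * w⁻¹) = q.1
      rw [show w * (x⁻¹ * (w * x * w⁻¹) * (w * q.1 * w⁻¹)) * w⁻¹ =
        (w * x * w⁻¹)⁻¹ * (w * (w * x * w⁻¹) * w⁻¹) * (w * (w * q.1 * w⁻¹) * w⁻¹) by group,
        hww, hww]
      group
    obtain ⟨q, hq⟩ := tt_invol_fixed f hf hQodd
    have hq' : x⁻¹ * (w * x * w⁻¹) * (w * q.1 * w⁻¹) = q.1 := congrArg Subtype.val hq
    have hfx : w * (x * q.1) * w⁻¹ = x * q.1 := by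
      calc w * (x * q.1) * w⁻¹ = x * (x⁻¹ * (w * x * w⁻¹) * (w * q.1 * w⁻¹)) := by group
        _ = x * q.1 := by rw [hq']
    obtain ⟨n, hn⟩ := hfix _ (mul_mem hx (hQP q.2)) hfx
    have hn' : x * q.1 = ρ ^ n := hn.symm
    rw [← zpow_mod_orderOf, hρ] at hn'
    have h0 := Int.emod_nonneg n (by norm_num : ((3 : ℕ) : ℤ) ≠ 0)
    have h1 := Int.emod_lt_of_pos n (by norm_num : (0 : ℤ) < ((3 : ℕ) : ℤ))
    generalize n % ((3 : ℕ) : ℤ) = r at h0 h1 hn'
    interval_cases r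
    · left
      rw [zpow_zero] at hn'
      rw [eq_inv_of_mul_eq_one_left hn']
      exact inv_mem q.2
    · right; left
      rw [zpow_one] at hn'
      rw [← hn', mul_inv_rev, inv_mul_cancel_right]
      exact inv_mem q.2
    · right; right
      rw [show (2 : ℤ) = ((2 : ℕ) : ℤ) from rfl, zpow_natCast, pow_two] at hn'
      have hxe : ρ * x = q.1⁻¹ := eq_inv_of_mul_eq_one_left (by
        rw [mul_assoc, hn', ← mul_assoc, hρ3])
      rw [hxe]
      exact inv_mem q.2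
  -- index three
  have hindex : Nat.card P = 3 * Nat.card Q := by
    rw [← hPQ]
    congr 1
    obtain ⟨k, hk⟩ := IsPGroup.iff_card.mp hpq
    have hle : Nat.card (P ⧸ Q') ≤ 3 := by
      have hsurj : Function.Surjective (![1, ((⟨ρ, hρP⟩ : P) : P ⧸ Q'),
          ((⟨ρ, hρP⟩⁻¹ : P) : P ⧸ Q')] : Fin 3 → P ⧸ Q') := by
        intro c
        obtain ⟨x, rfl⟩ := QuotientGroup.mk_surjective c
        rcases hdec x.1 x.2 with h | h | h
        · exact ⟨0, ((QuotientGroup.eq_one_iff x).mpr h).symm⟩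
        · exact ⟨1, (hmk ⟨ρ, hρP⟩ x).mpr h⟩
        · refine ⟨2, (hmk _ x).mpr ?_⟩
          change ρ⁻¹⁻¹ * x.1 ∈ Q
          rwa [inv_inv]
      simpa using Nat.card_le_card_of_surjective _ hsurj
    have h1 : 1 < Nat.card (P ⧸ Q') := Finite.one_lt_card
    rw [hk] at hle h1 ⊢
    have : k = 1 := by
      rcases k with _ | _ | k
      · simp at h1
      · rfl
      · have : 3 ^ 2 ≤ 3 ^ (k + 2) := Nat.pow_le_pow_right (by norm_num) (by omega)
        omega
    subst this; rfl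
  -- `w` inverts `Q`
  have hQinv : ∀ q ∈ Q, w * q * w⁻¹ = q⁻¹ := by
    let f : Q → Q := fun q => ⟨q.1⁻¹ * (w * q.1 * w⁻¹), mul_mem (inv_mem q.2) (hQw _ q.2)⟩
    have hf : Function.Injective f := by
      intro a b h
      have h' : a.1⁻¹ * (w * a.1 * w⁻¹) = b.1⁻¹ * (w * b.1 * w⁻¹) := congrArg Subtype.val h
      have hfx : w * (a.1 * b.1⁻¹) * w⁻¹ = a.1 * b.1⁻¹ := by
        calc w * (a.1 * b.1⁻¹) * w⁻¹
            = a.1 * (a.1⁻¹ * (w * a.1 * w⁻¹)) * (w * b.1 * w⁻¹)⁻¹ := by group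
          _ = a.1 * b.1⁻¹ := by rw [h']; group
      obtain ⟨n, hn⟩ := hfix _ (hQP (mul_mem a.2 (inv_mem b.2))) hfx
      have hn' : a.1 * b.1⁻¹ = ρ ^ n := hn.symm
      rw [← zpow_mod_orderOf, hρ] at hn'
      have h0 := Int.emod_nonneg n (by norm_num : ((3 : ℕ) : ℤ) ≠ 0)
      have h1 := Int.emod_lt_of_pos n (by norm_num : (0 : ℤ) < ((3 : ℕ) : ℤ))
      have hm := mul_mem a.2 (inv_mem b.2)
      generalize n % ((3 : ℕ) : ℤ) = r at h0 h1 hn'
      interval_cases r
      · rw [zpow_zero] at hn'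
        exact Subtype.ext (mul_inv_eq_one.mp hn')
      · rw [hn', zpow_one] at hm
        exact absurd hm hρQ
      · rw [hn', show (2 : ℤ) = ((2 : ℕ) : ℤ) from rfl, zpow_natCast, pow_two] at hm
        have h' := inv_mem hm
        rw [inv_eq_of_mul_eq_one_right hρ3] at h'
        exact absurd h' hρQ
    intro q hq
    obtain ⟨a, ha⟩ := (Finite.injective_iff_surjective.mp hf) ⟨q, hq⟩
    have ha' : a.1⁻¹ * (w * a.1 * w⁻¹) = q := congrArg Subtype.val ha
    rw [← ha', show w * (a.1⁻¹ * (w * a.1 * w⁻¹)) * w⁻¹ =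
      (w * a.1 * w⁻¹)⁻¹ * (w * (w * a.1 * w⁻¹) * w⁻¹) by group, hww]
    group
  have hQab : ∀ a ∈ Q, ∀ b ∈ Q, a * b = b * a := by
    intro a ha b hb
    have h1 := hQinv _ (mul_mem ha hb)
    rw [show w * (a * b) * w⁻¹ = (w * a * w⁻¹) * (w * b * w⁻¹) by group, hQinv a ha,
      hQinv b hb, mul_inv_rev] at h1
    have := congrArg (fun t => t⁻¹) h1
    simpa [mul_inv_rev] using this.symm
  refine ⟨Q, hQP, hQn, hρQ, hindex, hdec, hcomm, hQinv, hQab, ?_⟩
  -- the centralizer of `ρ` in `Q` is `⟨σ⟩`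
  have hσQ : σ ∈ Q := by
    rcases hdec σ hσP with h | h | h
    · exact h
    · have hh := hQinv _ h
      rw [show w * (ρ⁻¹ * σ) * w⁻¹ = (w * ρ * w⁻¹)⁻¹ * (w * σ * w⁻¹) by group, hwρ, hσw,
        mul_inv_rev, inv_inv, hρσ.symm.inv_left.eq] at hh
      have h2 : ρ⁻¹ = ρ := mul_right_cancel hh
      exfalso
      rw [show ρ * ρ = 1 from mul_eq_one_iff_eq_inv.mpr h2.symm, one_mul] at hρ3
      rw [hρ3, orderOf_one] at hρ; omega
    · have hh := hQinv _ h
      rw [show w * (ρ * σ) * w⁻¹ = (w * ρ * w⁻¹) * (w * σ * w⁻¹) by group, hwρ, hσw,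
        mul_inv_rev, hρσ.symm.inv_inv.eq] at hh
      have h2 : ρ = ρ⁻¹ := mul_right_cancel hh
      exfalso
      rw [show ρ * ρ = 1 from mul_eq_one_iff_eq_inv.mpr h2, one_mul] at hρ3
      rw [hρ3, orderOf_one] at hρ; omega
  have hset : ∀ q ∈ Q, Commute q ρ ↔ q ∈ zpowers σ := by
    intro q hq
    constructor
    · intro hc
      have h4 : ∀ s ∈ zpowers σ, ∀ e : X, e * s ∈ Q → e ∈ Q := fun s hs e he => by
        simpa using mul_mem he (inv_mem ((zpowers_le.mpr hσQ) hs))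
      rcases tt_nine hρ hσ hρσ (hPρ q (hQP hq) hc) with h | h | rfl | rfl | rfl | rfl
      · have h1 := hfix q (hQP hq) (by
          obtain ⟨n, rfl⟩ := h
          rw [← (hρw.zpow_left n).eq, mul_inv_cancel_right])
        have h2 := hQinv q hq
        obtain ⟨n, rfl⟩ := h1
        rw [← (hρw.zpow_left n).eq, mul_inv_cancel_right] at h2
        have h3 : (ρ ^ n) * (ρ ^ n) = 1 := mul_eq_one_iff_eq_inv.mpr h2
        have h5 : (ρ ^ n) * (ρ ^ n) * (ρ ^ n) = 1 := by
          rw [← zpow_add, ← zpow_add, show n + n + n = ((3 : ℕ) : ℤ) * n by push_cast; ring,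
            zpow_mul, zpow_natCast, ← hρ, pow_orderOf_eq_one, one_zpow]
        rw [h3, one_mul] at h5
        rw [show (fun x => ρ ^ x) n = ρ ^ n from rfl, h5]
        exact one_mem _
      · exact h
      · exact absurd (h4 σ (mem_zpowers σ) _ hq) hρQ
      · exact absurd (h4 _ (inv_mem (mem_zpowers σ)) _ hq) hρQ
      · exact absurd (inv_mem (h4 σ (mem_zpowers σ) _ hq)) (by rwa [inv_inv])
      · exact absurd (inv_mem (h4 _ (inv_mem (mem_zpowers σ)) _ hq)) (by rwa [inv_inv])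
    · rintro ⟨n, rfl⟩
      exact (hρσ.zpow_right n).symm
  rw [← hσ, ← Nat.card_zpowers]
  exact Nat.card_congr
    { toFun := fun q => ⟨q.1.1, (hset _ q.1.2).mp q.2⟩
      invFun := fun s => ⟨⟨s.1, (zpowers_le.mpr hσQ) s.2⟩,
        (hset _ ((zpowers_le.mpr hσQ) s.2)).mpr s.2⟩
      left_inv := fun q => rfl
      right_inv := fun s => rfl }

end Structure

/-- Number of left cosets of `P` on which `ρ` induces an element of the coset `e Q`, with the
parity of the class count. -/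
theorem tt_coset_count [Finite X] {ρ w e : X} {P Q : Subgroup X}
    (hC : Nat.card (centralizer ({ρ} : Set X)) = 180)
    (hQn : ∀ x ∈ P, ∀ q ∈ Q, x * q * x⁻¹ ∈ Q)
    (hPQ : Nat.card P = 3 * Nat.card Q)
    (hcomm : ∀ x ∈ P, ∀ y ∈ P, x * y * x⁻¹ * y⁻¹ ∈ Q)
    (hQinv : ∀ q ∈ Q, w * q * w⁻¹ = q⁻¹) (hQodd : Nat.card Q % 2 = 1)
    (hQP : Q ≤ P) (hQab : ∀ a ∈ Q, ∀ b ∈ Q, a * b = b * a)
    (he : e ∈ P) (hwρ : Commute w ρ) (hwe : Commute w e)
    (hk : Nat.card {q : Q // Commute q.1 e} = 3) :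
    ∃ k ≤ 3,
      Nat.card {c : X ⧸ P // e⁻¹ * ((c.out)⁻¹ * ρ * c.out) ∈ Q} = 20 * k ∧
      ((∃ g : X, g⁻¹ * ρ * g = e) → k % 2 = 1) ∧
      ((¬ ∃ g : X, g⁻¹ * ρ * g = e) → k % 2 = 0) := by
  classical
  let S : Q → Prop := fun r => ∃ g : X, g⁻¹ * ρ * g = e * r.1
  have hfm : ∀ q : Q, e⁻¹ * q.1 * e * q.1⁻¹ ∈ Q := fun q =>
    mul_mem (by simpa using hQn e⁻¹ (inv_mem he) _ q.2) (inv_mem q.2)
  let f : Q →* Q :=
    { toFun := fun q => ⟨e⁻¹ * q.1 * e * q.1⁻¹, hfm q⟩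
      map_one' := by ext; simp
      map_mul' := fun a b => by
        ext
        change e⁻¹ * (a.1 * b.1) * e * (a.1 * b.1)⁻¹ =
          (e⁻¹ * a.1 * e * a.1⁻¹) * (e⁻¹ * b.1 * e * b.1⁻¹)
        have h := hQab _ (inv_mem a.2) _ (hfm b)
        calc e⁻¹ * (a.1 * b.1) * e * (a.1 * b.1)⁻¹
            = e⁻¹ * a.1 * e * ((e⁻¹ * b.1 * e * b.1⁻¹) * a.1⁻¹) := by group
          _ = e⁻¹ * a.1 * e * (a.1⁻¹ * (e⁻¹ * b.1 * e * b.1⁻¹)) := by rw [h]
          _ = _ := by group }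
  have hker : Nat.card f.ker = 3 := by
    rw [← hk]
    refine Nat.card_congr (Equiv.subtypeEquivRight fun q => ?_)
    rw [MonoidHom.mem_ker, Subtype.ext_iff]
    change e⁻¹ * q.1 * e * q.1⁻¹ = 1 ↔ q.1 * e = e * q.1
    rw [mul_inv_eq_one, mul_assoc, inv_mul_eq_iff_eq_mul]
  have hS : ∀ r q, S r → S (r * f q) := by
    rintro r q ⟨g, hg⟩
    refine ⟨g * q.1⁻¹, ?_⟩
    have h := hQab _ r.2 _ (inv_mem q.2)
    have h2 := hQab _ r.2 _ (hfm q)
    change (g * q.1⁻¹)⁻¹ * ρ * (g * q.1⁻¹) = e * (r.1 * (e⁻¹ * q.1 * e * q.1⁻¹))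
    calc (g * q.1⁻¹)⁻¹ * ρ * (g * q.1⁻¹) = q.1 * (g⁻¹ * ρ * g) * q.1⁻¹ := by group
      _ = q.1 * e * (r.1 * q.1⁻¹) := by rw [hg]; group
      _ = q.1 * e * (q.1⁻¹ * r.1) := by rw [h]
      _ = e * ((e⁻¹ * q.1 * e * q.1⁻¹) * r.1) := by group
      _ = _ := by rw [h2]
  obtain ⟨k, hk3, hkS⟩ := tt_range_stable f hker S hS
  refine ⟨k, hk3, ?_, ?_⟩
  · have hmem : ∀ g : X, ∀ p ∈ P, e⁻¹ * (g⁻¹ * ρ * g) ∈ Q →
        e⁻¹ * ((g * p)⁻¹ * ρ * (g * p)) ∈ Q := by
      intro g p hp hg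
      have h1 := hQn p⁻¹ (inv_mem hp) _ hg
      have h2 := hcomm e⁻¹ (inv_mem he) p⁻¹ (inv_mem hp)
      rw [show e⁻¹ * ((g * p)⁻¹ * ρ * (g * p)) =
        (e⁻¹ * p⁻¹ * e⁻¹⁻¹ * p⁻¹⁻¹) * (p⁻¹ * (e⁻¹ * (g⁻¹ * ρ * g)) * p⁻¹⁻¹) by group]
      exact mul_mem h2 h1
    let T : Set (X ⧸ P) := {c | e⁻¹ * ((c.out)⁻¹ * ρ * c.out) ∈ Q}
    have hpre : (QuotientGroup.mk : X → X ⧸ P) ⁻¹' T = {g | e⁻¹ * (g⁻¹ * ρ * g) ∈ Q} := by
      ext g
      obtain ⟨p, hp⟩ := QuotientGroup.mk_out_eq_mul P g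
      change e⁻¹ * (((g : X ⧸ P).out)⁻¹ * ρ * (g : X ⧸ P).out) ∈ Q ↔ _
      rw [hp]
      refine ⟨fun h => ?_, hmem g p p.2⟩
      have := hmem _ _ (inv_mem p.2) h
      rwa [mul_inv_cancel_right] at this
    have hc : Nat.card P * Nat.card T = 180 * Nat.card {r // S r} := by
      rw [← Nat.card_prod, ← Nat.card_congr (QuotientGroup.preimageMkEquivSubgroupProdSet P T),
        hpre, ← hC]
      exact tt_count ρ e Q
    have hQ0 : 0 < Nat.card Q := Nat.card_pos
    change Nat.card T = 20 * k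
    rw [hPQ] at hc
    have h9 : 9 * Nat.card Q * Nat.card T = 9 * Nat.card Q * (20 * k) := by
      calc 9 * Nat.card Q * Nat.card T = 3 * (3 * Nat.card Q * Nat.card T) := by ring
        _ = 3 * (180 * Nat.card {r // S r}) := by rw [hc]
        _ = 180 * (Nat.card {r // S r} * 3) := by ring
        _ = 180 * (k * Nat.card Q) := by rw [hkS]
        _ = 9 * Nat.card Q * (20 * k) := by ring
    exact Nat.eq_of_mul_eq_mul_left (by positivity) h9
  · have hSw : ∀ r : Q, S r → S r⁻¹ := by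
      rintro r ⟨g, hg⟩
      refine ⟨g * w⁻¹, ?_⟩
      calc (g * w⁻¹)⁻¹ * ρ * (g * w⁻¹) = w * (g⁻¹ * ρ * g) * w⁻¹ := by group
        _ = (w * e * w⁻¹) * (w * r.1 * w⁻¹) := by rw [hg]; group
        _ = e * r.1⁻¹ := by rw [hQinv r.1 r.2, hwe.eq, mul_inv_cancel_right]
    let ι : {r // S r} → {r // S r} := fun r => ⟨r.1⁻¹, hSw _ r.2⟩
    have hι : Function.Involutive ι := fun r => Subtype.ext (inv_inv r.1)
    have hpar := tt_invol_parity ι hι
    have hone : ∀ r : {r // S r}, ι r = r ↔ r.1 = 1 := by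
      intro r
      refine ⟨fun h => ?_, fun h => Subtype.ext (by simp [ι, h])⟩
      have h1 : r.1⁻¹ = r.1 := congrArg Subtype.val h
      have h2 : r.1 ^ 2 = 1 := by rw [pow_two]; exact mul_eq_one_iff_eq_inv.mpr h1.symm
      have hdvd : orderOf r.1 ∣ 2 := orderOf_dvd_of_pow_eq_one h2
      have hdvd' : orderOf r.1 ∣ Nat.card Q := orderOf_dvd_natCard _
      rcases (Nat.dvd_prime Nat.prime_two).mp hdvd with h3 | h3
      · exact orderOf_eq_one_iff.mp h3
      · rw [h3] at hdvd'; omega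
    have hmul : Nat.card {r // S r} % 2 = k % 2 := by
      have h := congrArg (fun n => n % 2) hkS
      simp only [Nat.mul_mod, hQodd, mul_one, Nat.mod_mod, Nat.reduceMod] at h
      exact h
    constructor
    · rintro ⟨g, hg⟩
      have : Unique {r // ι r = r} :=
        { default := ⟨⟨1, g, by simpa using hg⟩, (hone _).mpr rfl⟩
          uniq := fun r => Subtype.ext (Subtype.ext ((hone r.1).mp r.2)) }
      rw [Nat.card_unique (α := {r // ι r = r})] at hpar
      omega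
    · intro hne
      have : IsEmpty {r // ι r = r} := ⟨fun r => hne (by
        obtain ⟨g, hg⟩ := r.1.2
        exact ⟨g, by rw [hg, (hone r.1).mp r.2]; simp⟩)⟩
      rw [Nat.card_of_isEmpty (α := {r // ι r = r})] at hpar
      omega

/-- **The transfer step.** -/
theorem exists_index_three [Finite X] {ρ σ w : X} (hρ : orderOf ρ = 3) (hσ : orderOf σ = 3)
    (hw : orderOf w = 2) (hρσ : Commute ρ σ) (hρw : Commute ρ w) (hσw : w * σ * w⁻¹ = σ⁻¹)
    (hC : Nat.card (Subgroup.centralizer ({ρ} : Set X)) = 180)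
    (hw3 : ¬ 9 ∣ Nat.card (Subgroup.centralizer ({w} : Set X)))
    (hreal : ∀ g : X, g * ρ * g⁻¹ ≠ ρ⁻¹)
    (hinv : ∀ x t : X, orderOf x = 3 → orderOf t = 2 → Commute x t →
      ∃ g : X, g * x * g⁻¹ = ρ ∨ g * x * g⁻¹ = ρ⁻¹) :
    ∃ N : Subgroup X, N.Normal ∧ N.index = 3 ∧ ρ ∉ N := by
  classical
  have : Fact (Nat.Prime 3) := ⟨by norm_num⟩
  obtain ⟨P, hP, hρP, hσP, hidx, hPw, hPρ, h9⟩ :=
    tt_sylow hρ hσ hw hρσ hρw hσw hC hreal hinv
  obtain ⟨Q, hQP, hQn, hρQ, hindex, hdec, hcomm, hQinv, hQab, hC3⟩ :=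
    tt_inverted hρ hσ hw hρσ hρw hσw hw3 hP hρP hσP hPw hPρ h9
  have hρ3 := tt_ord hρ
  have hQodd : Nat.card Q % 2 = 1 := by
    obtain ⟨k, hk⟩ := IsPGroup.iff_card.mp (hP.to_le hQP)
    rw [hk, Nat.pow_mod]; norm_num
  have hC3' : Nat.card {q : Q // Commute q.1 ρ⁻¹} = 3 := by
    rw [← hC3]
    exact Nat.card_congr (Equiv.subtypeEquivRight fun q => Commute.inv_right_iff)
  obtain ⟨kp, hkp3, hnp, hkp, -⟩ := tt_coset_count hC hQn hindex hcomm hQinv hQodd hQP hQab
    hρP hρw.symm hρw.symm hC3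
  obtain ⟨km, hkm3, hnm, -, hkm⟩ := tt_coset_count hC hQn hindex hcomm hQinv hQodd hQP hQab
    (inv_mem hρP) hρw.symm hρw.symm.inv_right hC3'
  replace hkp := hkp ⟨1, by simp⟩
  replace hkm := hkm (by
    rintro ⟨g, hg⟩
    exact hreal g⁻¹ (by rw [inv_inv]; exact hg))
  -- the quotient `P / Q`
  set Q' : Subgroup P := Q.subgroupOf P with hQ'
  have : Q'.Normal := ⟨fun n hn g => hQn g.1 g.2 n.1 hn⟩
  letI : CommGroup (P ⧸ Q') :=
    { QuotientGroup.Quotient.group Q' with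
      mul_comm := fun a b => by
        obtain ⟨x, rfl⟩ := QuotientGroup.mk_surjective a
        obtain ⟨y, rfl⟩ := QuotientGroup.mk_surjective b
        rw [← QuotientGroup.mk_mul, ← QuotientGroup.mk_mul, QuotientGroup.eq]
        have := hcomm y.1⁻¹ (inv_mem y.2) x.1⁻¹ (inv_mem x.2)
        change (x.1 * y.1)⁻¹ * (y.1 * x.1) ∈ Q
        simpa [mul_assoc] using this }
  let φ : P →* P ⧸ Q' := QuotientGroup.mk' Q'
  set a : P ⧸ Q' := φ ⟨ρ, hρP⟩ with ha
  have hφeq : ∀ x : P, ∀ z : P, z.1⁻¹ * x.1 ∈ Q → φ x = φ z := fun x z h =>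
    ((QuotientGroup.eq (s := Q') (a := z) (b := x)).mpr h).symm
  have hordA : orderOf a = 3 := by
    refine orderOf_eq_prime ?_ fun h => hρQ ((QuotientGroup.eq_one_iff (N := Q') (⟨ρ, hρP⟩ : P)).mp h)
    rw [ha, ← map_pow]
    refine (congrArg φ ?_).trans (map_one φ)
    ext
    change ρ ^ 3 = 1
    rw [← hρ, pow_orderOf_eq_one]
  -- fixed cosets
  let cj : X ⧸ P → X := fun c => (c.out)⁻¹ * ρ * c.out
  let F : Finset (X ⧸ P) := @Finset.filter _ (fun c => cj c ∈ P) _ (@Finset.univ _ (Fintype.ofFinite _))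
  let : Fintype (X ⧸ P) := Fintype.ofFinite _
  let Fp : Finset (X ⧸ P) := Finset.univ.filter fun c => ρ⁻¹ * cj c ∈ Q
  let Fm : Finset (X ⧸ P) := Finset.univ.filter fun c => ρ⁻¹⁻¹ * cj c ∈ Q
  have hFp : Fp.card = 20 * kp := by
    rw [← hnp, Nat.card_eq_fintype_card, Fintype.card_subtype]
  have hFm : Fm.card = 20 * km := by
    rw [← hnm, Nat.card_eq_fintype_card, Fintype.card_subtype]
  have hnotQ : ∀ c : X ⧸ P, cj c ∉ Q := by
    intro c hc
    refine hreal (c.out * w * c.out⁻¹) ?_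
    calc c.out * w * c.out⁻¹ * ρ * (c.out * w * c.out⁻¹)⁻¹
        = c.out * (w * cj c * w⁻¹) * c.out⁻¹ := by simp only [cj]; group
      _ = c.out * (cj c)⁻¹ * c.out⁻¹ := by rw [hQinv _ hc]
      _ = ρ⁻¹ := by simp only [cj]; group
  have hFeq : F = Fp ∪ Fm := by
    ext c
    simp only [F, Fp, Fm, Finset.mem_union, Finset.mem_filter, Finset.mem_univ, true_and]
    constructor
    · intro h
      rcases hdec _ h with h1 | h1 | h1
      · exact absurd h1 (hnotQ c)
      · exact Or.inl h1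
      · exact Or.inr (by rwa [inv_inv])
    · rintro (h | h)
      · simpa using mul_mem hρP (hQP h)
      · simpa using mul_mem (inv_mem hρP) (hQP h)
  have hdisj : Disjoint Fp Fm := by
    rw [Finset.disjoint_left]
    intro c h1 h2
    simp only [Fp, Fm, Finset.mem_filter, Finset.mem_univ, true_and, inv_inv] at h1 h2
    apply hρQ
    have h3 := mul_mem h1 (inv_mem h2)
    rw [mul_inv_rev, ← mul_assoc, mul_inv_cancel_right] at h3
    have h4 : ρ⁻¹ * ρ⁻¹ = ρ := by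
      rw [← mul_inv_rev, inv_eq_of_mul_eq_one_right hρ3]
    rwa [h4] at h3
  have hFcard : F.card = 20 * kp + 20 * km := by
    rw [hFeq, Finset.card_union_of_disjoint hdisj, hFp, hFm]
  have hfix : ∀ c : X ⧸ P, ρ • c = c ↔ cj c ∈ P := by
    intro c
    conv_lhs => rw [← QuotientGroup.out_eq' c, MulAction.Quotient.smul_mk, QuotientGroup.eq]
    rw [← inv_mem_iff]
    simp [cj, mul_assoc]
  -- their number is prime to three
  have hF3 : ¬ 3 ∣ F.card := by
    intro hd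
    have hz : IsPGroup 3 (zpowers ρ) :=
      IsPGroup.of_card (n := 1) (by rw [Nat.card_zpowers, hρ, pow_one])
    have h := hz.card_modEq_card_fixedPoints (α := X ⧸ P)
    have he : Nat.card (MulAction.fixedPoints (zpowers ρ) (X ⧸ P)) = F.card := by
      rw [← Nat.card_eq_finsetCard]
      refine Nat.card_congr (Equiv.subtypeEquivRight fun c => ?_)
      simp only [F, Finset.mem_filter, Finset.mem_univ, true_and, MulAction.mem_fixedPoints]
      rw [← hfix]
      refine ⟨fun h => h ⟨ρ, mem_zpowers ρ⟩, fun h g => ?_⟩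
      have hst : g.1 ∈ MulAction.stabilizer X c :=
        zpowers_le.mpr (MulAction.mem_stabilizer_iff.mpr h) g.2
      exact hst
    rw [he] at h
    exact hidx (Nat.modEq_zero_iff_dvd.mp (h.trans (Nat.modEq_zero_iff_dvd.mpr hd)))
  -- the transfer at `ρ`
  have : P.FiniteIndex := inferInstance
  let : Fintype (Quotient (MulAction.orbitRel (zpowers ρ) (X ⧸ P))) := Fintype.ofFinite _
  have hV : φ.transfer ρ = a ^ (20 * kp + 2 * (20 * km)) := by
    rw [MonoidHom.transfer_eq_prod_quotient_orbitRel_zpowers_quot]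
    set t : Quotient (MulAction.orbitRel (zpowers ρ) (X ⧸ P)) → P ⧸ Q' := fun q =>
      φ ⟨q.out.out⁻¹ * ρ ^ Function.minimalPeriod (ρ • ·) q.out * q.out.out,
        QuotientGroup.out_conj_pow_minimalPeriod_mem P ρ q.out⟩
    let u : X ⧸ P → P ⧸ Q' := fun c => if h : cj c ∈ P then φ ⟨cj c, h⟩ else 1
    have hout : ∀ c ∈ F, (Quotient.mk'' c :
        Quotient (MulAction.orbitRel (zpowers ρ) (X ⧸ P))).out = c := by
      intro c hc
      have hc' : cj c ∈ P := (Finset.mem_filter.mp hc).2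
      have h : (MulAction.orbitRel (zpowers ρ) (X ⧸ P)) _ c :=
        Quotient.exact (Quotient.out_eq
          (Quotient.mk'' c : Quotient (MulAction.orbitRel (zpowers ρ) (X ⧸ P))))
      rw [MulAction.orbitRel_apply] at h
      obtain ⟨g, hg⟩ := h
      have hst : g.1 ∈ MulAction.stabilizer X c :=
        zpowers_le.mpr (MulAction.mem_stabilizer_iff.mpr ((hfix c).mpr hc')) g.2
      exact hg.symm.trans hst
    have hterm : ∀ q : Quotient (MulAction.orbitRel (zpowers ρ) (X ⧸ P)),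
        t q ≠ 1 → q.out ∈ F ∧ t q = u q.out := by
      intro q hq
      have hper : Function.minimalPeriod (ρ • ·) q.out ∣ 3 := by
        refine Function.IsPeriodicPt.minimalPeriod_dvd ?_
        rw [Function.IsPeriodicPt, Function.IsFixedPt, smul_iterate, ← hρ, pow_orderOf_eq_one]
        exact one_smul X q.out
      rcases (Nat.dvd_prime (by norm_num)).mp hper with h1 | h1
      · have hmem : cj q.out ∈ P := by
          have := QuotientGroup.out_conj_pow_minimalPeriod_mem P ρ q.out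
          rwa [h1, pow_one] at this
        refine ⟨Finset.mem_filter.mpr ⟨Finset.mem_univ _, hmem⟩, ?_⟩
        simp only [t, u, dif_pos hmem]
        congr 1
        ext
        simp only [h1, pow_one, cj]
      · exfalso
        apply hq
        refine (congrArg φ ?_).trans (map_one φ)
        ext
        change q.out.out⁻¹ * ρ ^ Function.minimalPeriod (ρ • ·) q.out * q.out.out = 1
        rw [h1, ← hρ, pow_orderOf_eq_one, mul_one, inv_mul_cancel]
    have hprod : ∏ q, t q = ∏ c ∈ F, u c := by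
      refine Finset.prod_bij_ne_one (fun q _ _ => q.out) (fun q _ h => (hterm q h).1) ?_ ?_
        (fun q _ h => (hterm q h).2)
      · intro q₁ _ _ q₂ _ _ h
        exact Quotient.out_injective h
      · intro c hc hu
        refine ⟨Quotient.mk'' c, Finset.mem_univ _, ?_, hout c hc⟩
        have hc' : cj c ∈ P := (Finset.mem_filter.mp hc).2
        have hper : Function.minimalPeriod (ρ • ·) c = 1 :=
          Function.minimalPeriod_eq_one_iff_isFixedPt.mpr ((hfix c).mpr hc')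
        intro h
        apply hu
        refine Eq.trans ?_ h
        simp only [t, u, dif_pos hc']
        congr 1
        ext
        simp only [hout c hc, hper, pow_one, cj]
    rw [hprod, hFeq, Finset.prod_union hdisj, pow_add, pow_mul a 2, ← hFp, ← hFm]
    congr 1
    · refine Finset.prod_eq_pow_card fun c hc => ?_
      have h1 : ρ⁻¹ * cj c ∈ Q := (Finset.mem_filter.mp hc).2
      have h2 : cj c ∈ P := by simpa using mul_mem hρP (hQP h1)
      simp only [u, dif_pos h2]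
      exact hφeq _ _ h1
    · refine Finset.prod_eq_pow_card fun c hc => ?_
      have h1 : ρ⁻¹⁻¹ * cj c ∈ Q := (Finset.mem_filter.mp hc).2
      have h2 : cj c ∈ P := by simpa using mul_mem (inv_mem hρP) (hQP h1)
      simp only [u, dif_pos h2]
      rw [hφeq _ ⟨ρ⁻¹, inv_mem hρP⟩ h1]
      rw [show (⟨ρ⁻¹, inv_mem hρP⟩ : P) = (⟨ρ, hρP⟩ : P) ^ 2 from Subtype.ext (by
        change ρ⁻¹ = ρ ^ 2
        rw [pow_two]
        exact (eq_inv_of_mul_eq_one_left hρ3).symm), map_pow]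
  have hne : φ.transfer ρ ≠ 1 := by
    rw [hV]
    intro h
    have hd : 3 ∣ 20 * kp + 2 * (20 * km) := hordA ▸ orderOf_dvd_of_pow_eq_one h
    rw [hFcard] at hF3
    interval_cases kp <;> interval_cases km <;> omega
  refine ⟨φ.transfer.ker, inferInstance, ?_, hne⟩
  rw [index_ker]
  have hA3 : Nat.card (P ⧸ Q') = 3 := by
    have h := card_eq_card_quotient_mul_card_subgroup Q'
    rw [Nat.card_congr (subgroupOfEquivOfLe hQP).toEquiv, hindex] at h
    exact (Nat.eq_of_mul_eq_mul_right Nat.card_pos h).symm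
  have hdvd := card_subgroup_dvd_card φ.transfer.range
  rw [hA3] at hdvd
  rcases (Nat.dvd_prime (by norm_num)).mp hdvd with h1 | h1
  · exact absurd (by
      have := (Nat.card_eq_one_iff_unique.mp h1).1
      exact congrArg Subtype.val (Subsingleton.elim (⟨_, ρ, rfl⟩ : φ.transfer.range) 1)) hne
  · exact h1

end Cfsg.Agent.PGammaThreeFour
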