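import Cfsg.Agent.PGammaThreeFour.OneClass
import Cfsg.Agent.PGammaThreeFour.ThreeTransfer

/-!
# The centraliser of `ρ` and a subgroup of index three
-/

set_option autoImplicit false

namespace Cfsg.Agent.PGammaThreeFour

open Subgroup
open scoped Pointwise

/-- In a group of order 60 with a self-centralizing four group, an element of order 3 is inverted
by an involution; any involution is conjugate into the four group. -/
theorem rho_sixty {Q : Type*} [Group Q] [Finite Q] [IsSimpleGroup Q] (hQ : Nat.card Q = 60)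
    (W : Subgroup Q) (hW : Nat.card W = 4) (hsq : ∀ q ∈ W, q * q = 1)
    (hC : ∀ q ∈ W, q ≠ 1 → centralizer ({q} : Set Q) ≤ W) :
    (∀ s : Q, orderOf s = 2 → ∃ g : Q, g * s * g⁻¹ ∈ W) ∧
      ∃ q s : Q, orderOf q = 3 ∧ orderOf s = 2 ∧ s * q * s⁻¹ = q⁻¹ := by
  classical
  haveI : Fact (Nat.Prime 2) := ⟨Nat.prime_two⟩
  haveI : Fact (Nat.Prime 3) := ⟨Nat.prime_three⟩
  have hW2 : IsPGroup 2 W := IsPGroup.of_card (n := 2) (by rw [hW]; norm_num)
  obtain ⟨S, hS⟩ := hW2.exists_le_sylow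
  have hSW : W = S := by
    refine eq_of_le_of_card_ge hS ?_
    obtain ⟨k, hk⟩ := IsPGroup.iff_card.1 S.2
    have hd := card_subgroup_dvd_card (S : Subgroup Q)
    rw [hk, hQ] at hd
    rw [hW, hk]
    have hk2 : k ≤ 2 := by
      by_contra hh
      have := (pow_dvd_pow 2 (show 3 ≤ k by omega)).trans hd
      norm_num at this
    exact (Nat.pow_le_pow_right (by norm_num) hk2).trans (by norm_num)
  have hconj : ∀ s : Q, orderOf s = 2 → ∃ g : Q, g * s * g⁻¹ ∈ W := by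
    intro s hs
    obtain ⟨T, hT⟩ := (IsPGroup.of_card (n := 1) (by rw [Nat.card_zpowers, hs, pow_one]) :
      IsPGroup 2 (zpowers s)).exists_le_sylow
    obtain ⟨g, hg⟩ := MulAction.exists_smul_eq Q T S
    refine ⟨g, ?_⟩
    rw [hSW, ← hg]
    exact ⟨s, hT (mem_zpowers s), rfl⟩
  refine ⟨hconj, ?_⟩
  obtain ⟨q, hq⟩ := exists_prime_orderOf_dvd_card' (G := Q) 3 (by rw [hQ]; norm_num)
  have hq3 : IsPGroup 3 (zpowers q) :=
    IsPGroup.of_card (n := 1) (by rw [Nat.card_zpowers, hq, pow_one])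
  obtain ⟨P, hP⟩ := hq3.exists_le_sylow
  have hP3 : Nat.card (P : Subgroup Q) = 3 := by
    obtain ⟨k, hk⟩ := IsPGroup.iff_card.1 P.2
    have hd := card_subgroup_dvd_card (P : Subgroup Q)
    rw [hk, hQ] at hd
    have h3 := card_le_of_le hP
    rw [Nat.card_zpowers, hq, hk] at h3
    rw [hk]
    refine le_antisymm ?_ h3
    have hk1 : k ≤ 1 := by
      by_contra hh
      have := (pow_dvd_pow 3 (show 2 ≤ k by omega)).trans hd
      norm_num at this
    exact (Nat.pow_le_pow_right (by norm_num) hk1).trans (by norm_num)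
  have hPq : (P : Subgroup Q) = zpowers q :=
    (eq_of_le_of_card_ge hP (by rw [Nat.card_zpowers, hq, hP3])).symm
  -- there are ten Sylow 3-subgroups
  set M := normalizer ((P : Subgroup Q) : Set Q) with hM
  have hn : Nat.card (Sylow 3 Q) = M.index := P.card_eq_index_normalizer
  have hmod : Nat.card (Sylow 3 Q) % 3 = 1 := card_sylow_modEq_one 3 Q
  have hne1 : Nat.card (Sylow 3 Q) ≠ 1 := by
    intro h1
    rw [hn, index_eq_one] at h1
    have hPn : (P : Subgroup Q).Normal := normalizer_eq_top_iff.1 h1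
    rcases hPn.eq_bot_or_eq_top with h | h
    · rw [h, card_bot] at hP3; omega
    · rw [h, card_top, hQ] at hP3; omega
  have hne4 : Nat.card (Sylow 3 Q) ≠ 4 := by
    intro h4
    set f := MulAction.toPermHom Q (Sylow 3 Q) with hf
    have hker : f.ker = ⊥ := by
      refine (f.normal_ker.eq_bot_or_eq_top).resolve_right fun h => hne1 ?_
      haveI : Subsingleton (Sylow 3 Q) := ⟨fun A B => by
        obtain ⟨g, hg⟩ := MulAction.exists_smul_eq Q A B
        have hmem : g ∈ f.ker := h ▸ mem_top g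
        have := congrArg (fun σ : Equiv.Perm (Sylow 3 Q) => σ A) (MonoidHom.mem_ker.1 hmem)
        rw [← hg]
        exact this.symm⟩
      exact Nat.card_eq_one_iff_unique.2 ⟨inferInstance, inferInstance⟩
    have hle := Nat.card_le_card_of_injective f ((MonoidHom.ker_eq_bot_iff f).1 hker)
    rw [hQ, Nat.card_perm, h4] at hle
    norm_num [Nat.factorial] at hle
  have h20 : Nat.card (Sylow 3 Q) ∣ 20 := by
    have h := P.card_dvd_index
    have hi := (P : Subgroup Q).card_mul_index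
    rw [hP3, hQ] at hi
    rwa [show (P : Subgroup Q).index = 20 by omega] at h
  have h10 : Nat.card (Sylow 3 Q) = 10 := by
    have hle := Nat.le_of_dvd (by norm_num) h20
    generalize Nat.card (Sylow 3 Q) = m at hmod hne1 hne4 hle h20
    interval_cases m <;> simp_all
  have hM6 : Nat.card M = 6 := by
    have := M.card_mul_index
    rw [← hn, h10, hQ] at this
    omega
  obtain ⟨⟨s, hsM⟩, hs⟩ := exists_prime_orderOf_dvd_card' (G := M) 2 (by rw [hM6]; norm_num)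
  rw [Subgroup.orderOf_mk] at hs
  refine ⟨q, s, hq, hs, ?_⟩
  have hmem : s * q * s⁻¹ ∈ zpowers q := by
    rw [← hPq]
    exact (mem_normalizer_iff.1 hsM q).1 (by rw [hPq]; exact mem_zpowers q)
  obtain ⟨i, hi⟩ := hmem
  have hi' : s * q * s⁻¹ = q ^ i := hi.symm
  rw [← zpow_mod_orderOf, hq] at hi'
  have h0 := Int.emod_nonneg i (by norm_num : ((3 : ℕ) : ℤ) ≠ 0)
  have h1 := Int.emod_lt_of_pos i (by norm_num : (0 : ℤ) < ((3 : ℕ) : ℤ))
  generalize i % ((3 : ℕ) : ℤ) = r at h0 h1 hi'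
  interval_cases r
  · exfalso
    rw [zpow_zero, conj_eq_one_iff] at hi'
    rw [hi', orderOf_one] at hq
    omega
  · exfalso
    rw [zpow_one] at hi'
    have hqc : Commute s q := mul_inv_eq_iff_eq_mul.1 hi'
    obtain ⟨g, hg⟩ := hconj s hs
    have hne : g * s * g⁻¹ ≠ 1 := fun h => by
      rw [conj_eq_one_iff] at h
      rw [h, orderOf_one] at hs
      omega
    have hgq : g * q * g⁻¹ ∈ W := hC _ hg hne (mem_centralizer_singleton_iff.2 (by
      calc g * q * g⁻¹ * (g * s * g⁻¹) = g * (q * s) * g⁻¹ := by group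
        _ = g * (s * q) * g⁻¹ := by rw [hqc.eq]
        _ = g * s * g⁻¹ * (g * q * g⁻¹) := by group))
    have h2 := orderOf_dvd_of_pow_eq_one (x := g * q * g⁻¹) (n := 2)
      (by rw [pow_two]; exact hsq _ hgq)
    rw [orderOf_conj, hq] at h2
    norm_num at h2
  · rw [hi', show (2 : ℤ) = ((2 : ℕ) : ℤ) from rfl, zpow_natCast]
    exact eq_inv_of_mul_eq_one_left (by rw [← pow_succ]; show q ^ 3 = 1; rw [← hq]; exact pow_orderOf_eq_one q)

variable {G : Type*} [Group G] [Finite G] {z : G}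

namespace HData

variable (D : HData z)

/-- An element of order three of `K` is conjugate in `K` to `ρ` or `ρ⁻¹`. -/
theorem rho_conj_of_mem_K {y : G} (hy : y ∈ D.K) (hy3 : orderOf y = 3) :
    ∃ k ∈ D.K, k * y * k⁻¹ = D.ρ ∨ k * y * k⁻¹ = D.ρ⁻¹ := by
  haveI : Fact (Nat.Prime 3) := ⟨Nat.prime_three⟩
  have hsyl : ∀ (x : D.K), orderOf x = 3 → ∃ P : Sylow 3 D.K, (P : Subgroup D.K) = zpowers x := by
    intro x hx
    obtain ⟨P, hP⟩ := (IsPGroup.of_card (n := 1) (by rw [Nat.card_zpowers, hx, pow_one]) :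
      IsPGroup 3 (zpowers x)).exists_le_sylow
    refine ⟨P, (eq_of_le_of_card_ge hP ?_).symm⟩
    obtain ⟨k, hk⟩ := IsPGroup.iff_card.1 P.2
    have hd := card_subgroup_dvd_card (P : Subgroup D.K)
    rw [hk, D.card_K] at hd
    rw [Nat.card_zpowers, hx, hk]
    have hk1 : k ≤ 1 := by
      by_contra hh
      have := (pow_dvd_pow 3 (show 2 ≤ k by omega)).trans hd
      norm_num at this
    exact (Nat.pow_le_pow_right (by norm_num) hk1).trans (by norm_num)
  obtain ⟨P, hP⟩ := hsyl ⟨y, hy⟩ (by rw [Subgroup.orderOf_mk]; exact hy3)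
  obtain ⟨R, hR⟩ := hsyl ⟨D.ρ, D.ρ_mem⟩ (by rw [Subgroup.orderOf_mk]; exact D.ρ_order)
  obtain ⟨k, hk⟩ := MulAction.exists_smul_eq D.K P R
  have hm : k * ⟨y, hy⟩ * k⁻¹ ∈ (R : Subgroup D.K) := by
    rw [← hk]
    exact ⟨⟨y, hy⟩, by rw [hP]; exact mem_zpowers _, rfl⟩
  rw [hR] at hm
  obtain ⟨i, hi⟩ := hm
  have hi' : k.1 * y * k.1⁻¹ = D.ρ ^ i := by simpa using (congrArg Subtype.val hi).symm
  refine ⟨k.1, k.2, ?_⟩
  have hord : orderOf (k.1 * y * k.1⁻¹) = 3 := orderOf_conj.trans hy3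
  rw [← zpow_mod_orderOf, D.ρ_order] at hi'
  have h0 := Int.emod_nonneg i (by norm_num : ((3 : ℕ) : ℤ) ≠ 0)
  have h1 := Int.emod_lt_of_pos i (by norm_num : (0 : ℤ) < ((3 : ℕ) : ℤ))
  generalize i % ((3 : ℕ) : ℤ) = r at h0 h1 hi'
  interval_cases r
  · rw [hi', zpow_zero, orderOf_one] at hord; omega
  · exact Or.inl (by rw [hi', zpow_one])
  · refine Or.inr ?_
    rw [hi', show (2 : ℤ) = ((2 : ℕ) : ℤ) from rfl, zpow_natCast]
    exact eq_inv_of_mul_eq_one_left (by rw [← pow_succ]; show D.ρ ^ 3 = 1; rw [← D.ρ_order]; exact pow_orderOf_eq_one D.ρ)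

/-- `ρ` is not inverted in `K`. -/
theorem rho_not_inverted_K {k : G} (hk : k ∈ D.K) : k * D.ρ * k⁻¹ ≠ D.ρ⁻¹ := by
  intro h
  haveI : Fact (Nat.Prime 3) := ⟨Nat.prime_three⟩
  haveI := normal_subgroupOf_of_le_normalizer D.U_le_normalizer
  set U' := D.U.subgroupOf D.K
  have h3 : Nat.card (D.K ⧸ U') = 3 := D.index_U
  haveI := isCyclic_of_prime_card (α := D.K ⧸ U') (p := 3) h3
  set r : D.K ⧸ U' := QuotientGroup.mk' U' ⟨D.ρ, D.ρ_mem⟩ with hr
  have he : (⟨k, hk⟩ : D.K) * ⟨D.ρ, D.ρ_mem⟩ * (⟨k, hk⟩ : D.K)⁻¹ = (⟨D.ρ, D.ρ_mem⟩ : D.K)⁻¹ :=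
    Subtype.ext h
  have he' := congrArg (QuotientGroup.mk' U') he
  rw [map_mul, map_mul, map_inv, map_inv, ← hr,
    (IsCyclic.isMulCommutative (α := D.K ⧸ U')).is_comm.comm (QuotientGroup.mk' U' ⟨k, hk⟩) r,
    mul_inv_cancel_right] at he'
  have h2 : r * r = 1 := mul_eq_one_iff_eq_inv.2 he'
  have h33 : r ^ 3 = 1 := by rw [← h3]; exact pow_card_eq_one'
  rw [pow_succ, pow_two, h2, one_mul] at h33
  have hmem : D.ρ ∈ D.U := (QuotientGroup.eq_one_iff (N := U') (⟨D.ρ, D.ρ_mem⟩ : D.K)).1 h33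
  have := Subgroup.orderOf_dvd_natCard D.U hmem
  rw [D.ρ_order, D.card_U] at this
  norm_num at this

variable {N : Subgroup G} [N.Normal]

/-- All involutions of `N` are conjugate to `z`. -/
theorem isConj_invol (hNK : N ⊓ centralizer {z} = D.K) (hns : ¬ Group.IsSolvable N) {t : G}
    (ht : t ∈ N) (ht2 : orderOf t = 2) : ∃ g ∈ N, g * z * g⁻¹ = t := by
  haveI : Fact (Nat.Prime 2) := ⟨Nat.prime_two⟩
  have hUN : D.U ≤ N := D.U_le.trans (D.K_le_N hNK)
  obtain ⟨S, hS⟩ := ((IsPGroup.of_card (n := 6) (by rw [D.card_U]; norm_num) :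
    IsPGroup 2 D.U).comap_subtype (K := N)).exists_le_sylow
  have hSU : (S : Subgroup N).map N.subtype = D.U := by
    refine (eq_of_le_of_card_ge
      (show D.U ≤ (S : Subgroup N).map N.subtype from fun x hx => ⟨⟨x, hUN hx⟩, hS hx, rfl⟩) ?_).symm
    rw [D.card_U]
    exact D.card_two_subgroup hNK (S.2.map _) (map_subtype_le _)
  obtain ⟨T, hT⟩ := (IsPGroup.of_card (n := 1) (by
    rw [Nat.card_zpowers, Subgroup.orderOf_mk, ht2, pow_one]) :
    IsPGroup 2 (zpowers (⟨t, ht⟩ : N))).exists_le_sylow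
  obtain ⟨c, hc⟩ := MulAction.exists_smul_eq N T S
  have hmem : c.1 * t * c.1⁻¹ ∈ D.U := by
    rw [← hSU]
    refine ⟨c * ⟨t, ht⟩ * c⁻¹, ?_, rfl⟩
    rw [← hc]
    exact ⟨⟨t, ht⟩, hT (mem_zpowers _), rfl⟩
  obtain ⟨g, hg, hge⟩ := D.isConj_of_mem_U hNK hns hmem (orderOf_conj.trans ht2)
  refine ⟨c.1⁻¹ * g, mul_mem (inv_mem c.2) hg, ?_⟩
  calc c.1⁻¹ * g * z * (c.1⁻¹ * g)⁻¹ = c.1⁻¹ * (g * z * g⁻¹) * c.1 := by group
    _ = t := by rw [hge]; group

/-- An element of order three commuting with an involution is conjugate to `ρ` or `ρ⁻¹`. -/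
theorem rho_conj_of_commute (hNK : N ⊓ centralizer {z} = D.K) (hns : ¬ Group.IsSolvable N)
    {x t : G} (hx : x ∈ N) (hx3 : orderOf x = 3) (ht : t ∈ N) (ht2 : orderOf t = 2)
    (hxt : x * t = t * x) : ∃ g ∈ N, g * x * g⁻¹ = D.ρ ∨ g * x * g⁻¹ = D.ρ⁻¹ := by
  obtain ⟨g, hg, rfl⟩ := D.isConj_invol hNK hns ht ht2
  have hK : g⁻¹ * x * g ∈ D.K := by
    refine D.mem_K_of hNK (mul_mem (mul_mem (inv_mem hg) hx) hg) ?_
    calc g⁻¹ * x * g * z = g⁻¹ * (x * (g * z * g⁻¹)) * g := by group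
      _ = z * (g⁻¹ * x * g) := by rw [hxt]; group
  obtain ⟨k, hk, h⟩ := D.rho_conj_of_mem_K hK (by
    rw [show g⁻¹ * x * g = g⁻¹ * x * g⁻¹⁻¹ by rw [inv_inv]]
    exact orderOf_conj.trans hx3)
  refine ⟨k * g⁻¹, mul_mem (D.K_le_N hNK hk) (inv_mem hg), ?_⟩
  have e : k * g⁻¹ * x * (k * g⁻¹)⁻¹ = k * (g⁻¹ * x * g) * k⁻¹ := by group
  rwa [e]

/-- The subgroup of index three, given an element of order five commuting with an element of order
three which commutes with an involution. -/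
theorem rho_aux (hNK : N ⊓ centralizer {z} = D.K) (hns : ¬ Group.IsSolvable N)
    {δ : G} (hδ : δ ∈ N) (hδ3 : orderOf δ = 3)
    (hδt : ∃ t ∈ N, orderOf t = 2 ∧ t * δ = δ * t)
    (hδ5 : ∃ x ∈ N, orderOf x = 5 ∧ x * δ = δ * x) :
    ∃ M : Subgroup N, M.Normal ∧ M.index = 3 ∧ (⟨D.ρ, D.K_le_N hNK D.ρ_mem⟩ : N) ∉ M := by
  classical
  haveI : Fact (Nat.Prime 3) := ⟨Nat.prime_three⟩
  haveI : Fact (Nat.Prime 5) := ⟨by norm_num⟩
  have hKN := D.K_le_N hNK
  obtain ⟨A₁, A₂, hP, h, hN, h3, hρ, hK, -, hA₁, -, hz, hu⟩ := D.exists_h hNK hns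
  obtain ⟨d, -, t, -, -, -⟩ := oc_exists_twist D hNK hP.p₁ hN h3 hρ hA₁ hz hu
  have hcentK : ∀ w ∈ D.ocW, w ≠ 1 → ∀ x ∈ N, x * w = w * x → x ∈ D.K := by
    intro w hw hw1 x hx hxw
    obtain ⟨c, hcN, hcK, hc⟩ : ∃ c, c ∈ N ∧ c ∈ normalizer (D.K : Set G) ∧ c * z * c⁻¹ = w := by
      rcases D.ocW_cases hw with rfl | rfl | rfl | rfl
      · exact absurd rfl hw1
      · exact ⟨1, one_mem _, one_mem _, by simp⟩
      · exact ⟨h, hN, hK, hz⟩
      · exact ⟨h * h, mul_mem hN hN, mul_mem hK hK, by rw [← hu, ← hz]; group⟩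
    have hm : c⁻¹ * x * c ∈ D.K := by
      refine D.mem_K_of hNK (mul_mem (mul_mem (inv_mem hcN) hx) hcN) ?_
      rw [← hc] at hxw
      calc c⁻¹ * x * c * z = c⁻¹ * (x * (c * z * c⁻¹)) * c := by group
        _ = z * (c⁻¹ * x * c) := by rw [hxw]; group
    have := (mem_normalizer_iff.1 hcK _).1 hm
    simpa [mul_assoc] using this
  obtain ⟨Wb, hWb4, hWbsq, hWbC, hWbT, hres, hzWb⟩ := oc_rho_quotient D hNK t hcentK
  set C := ocC D N with hCdef
  set R := ocR D N with hRdef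
  set π := QuotientGroup.mk' R with hπ
  have hρN : D.ρ ∈ N := hKN D.ρ_mem
  have hρC : D.ρ ∈ C := Subgroup.mem_inf.2 ⟨hρN, mem_cent.2 rfl⟩
  have hCmem : ∀ {x : G}, x ∈ C ↔ x ∈ N ∧ x * D.ρ = D.ρ * x := fun {x} => by
    rw [hCdef, ocC, Subgroup.mem_inf, mem_cent]
  have hRcard : Nat.card R = 3 := by
    rw [hRdef, ocR, Nat.card_congr (subgroupOfEquivOfLe (zpowers_le.2 hρC)).toEquiv,
      Nat.card_zpowers, D.ρ_order]
  have hCR := card_eq_card_quotient_mul_card_subgroup R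
  rw [hRcard] at hCR
  -- five divides the order of the centraliser
  have h5 : 5 ∣ Nat.card C := by
    obtain ⟨t₀, ht₀, ht₀2, ht₀c⟩ := hδt
    obtain ⟨g, hg, hge⟩ := D.rho_conj_of_commute hNK hns hδ hδ3 ht₀ ht₀2 ht₀c.symm
    obtain ⟨x, hx, hx5, hxc⟩ := hδ5
    have hgx : g * x * g⁻¹ ∈ C := by
      refine hCmem.2 ⟨mul_mem (mul_mem hg hx) (inv_mem hg), ?_⟩
      have hc : Commute (g * x * g⁻¹) (g * δ * g⁻¹) := (Commute.conj_iff g).2 hxc
      rcases hge with e | e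
      · rw [e] at hc; exact hc
      · rw [e] at hc; exact Commute.inv_right_iff.1 hc
    have := C.orderOf_dvd_natCard hgx
    rwa [orderOf_conj, hx5] at this
  obtain ⟨hQ60, hsimp⟩ : Nat.card (C ⧸ R) = 60 ∧ IsSimpleGroup (C ⧸ R) := by
    rcases hres with ⟨h12, -⟩ | h60
    · exfalso
      rw [hCR, show Nat.card (C ⧸ R) = 12 from h12] at h5
      norm_num at h5
    · exact h60
  haveI := hsimp
  obtain ⟨hconj, qb, sb, hqb, hsb, hinvb⟩ := rho_sixty hQ60 Wb hWb4 hWbsq hWbC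
  have hC180 : Nat.card C = 180 := by rw [hCR, hQ60]
  have hρ3 : ∀ x : C, x ∈ R → x ^ 3 = 1 := by
    intro x hx
    obtain ⟨i, hi⟩ := hx
    have hi' : D.ρ ^ i = x.1 := hi
    refine Subtype.ext ?_
    change x.1 ^ 3 = 1
    rw [← hi', ← zpow_natCast, ← zpow_mul, mul_comm, zpow_mul, zpow_natCast, ← D.ρ_order,
      pow_orderOf_eq_one, one_zpow]
  have hρc : ∀ x r : C, r ∈ R → Commute x r := by
    intro x r hr
    obtain ⟨i, hi⟩ := hr
    have hi' : D.ρ ^ i = r.1 := hi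
    refine Subtype.ext ?_
    change x.1 * r.1 = r.1 * x.1
    rw [← hi']
    exact ((show Commute x.1 D.ρ from (hCmem.1 x.2).2).zpow_right i).eq
  -- lift the dihedral pair
  obtain ⟨x, hx⟩ := QuotientGroup.mk_surjective sb
  obtain ⟨q, hq⟩ := QuotientGroup.mk_surjective qb
  set s : C := x ^ 3 with hs
  have hsb2 : sb * sb = 1 := mul_self_of_orderOf_two hsb
  have hπx : π x = sb := hx
  have hπs : π s = sb := by
    rw [hs, map_pow, hπx, pow_succ, pow_two, hsb2, one_mul]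
  have hs2 : s * s = 1 := by
    have hm : x * x ∈ R := (QuotientGroup.eq_one_iff (N := R) (x * x)).1
      ((map_mul π x x).trans (by rw [hπx, hsb2]))
    rw [hs, ← pow_add, show 3 + 3 = 2 * 3 from rfl, pow_mul, pow_two]
    exact hρ3 _ hm
  have hsi : s⁻¹ = s := inv_eq_of_mul_eq_one_right hs2
  have hsord : orderOf s = 2 := orderOf_two_of_sq hs2 fun h1 => by
    rw [h1, map_one] at hπs
    rw [← hπs, orderOf_one] at hsb
    omega
  set σ : C := q⁻¹ * s * q * s⁻¹ with hσ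
  have hqb3 : qb * qb * qb = 1 := by
    have := pow_orderOf_eq_one qb
    rwa [hqb, pow_succ, pow_two] at this
  have hπσ : π σ = qb := by
    have hπq : π q = qb := hq
    rw [hσ, map_mul, map_mul, map_mul, map_inv, map_inv, hπq, hπs]
    calc qb⁻¹ * sb * qb * sb⁻¹ = qb⁻¹ * (sb * qb * sb⁻¹) := by group
      _ = qb⁻¹ * qb⁻¹ := by rw [hinvb]
      _ = qb := by rw [← mul_inv_rev]; exact inv_eq_of_mul_eq_one_right hqb3
  have hσinv : s * σ * s⁻¹ = σ⁻¹ := by
    rw [hσ, mul_inv_rev, mul_inv_rev, mul_inv_rev, inv_inv, inv_inv, hsi]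
    simp only [mul_assoc]
    rw [hs2, mul_one]
  have hσ3 : σ ^ 3 = 1 := by
    have hm : σ ^ 3 ∈ R := (QuotientGroup.eq_one_iff (N := R) (σ ^ 3)).1
      ((map_pow π σ 3).trans (by rw [hπσ, ← hqb, pow_orderOf_eq_one]))
    have h1 : s * σ ^ 3 * s⁻¹ = (σ ^ 3)⁻¹ := by rw [← conj_pow, hσinv, inv_pow]
    rw [(hρc s _ hm).eq, mul_inv_cancel_right] at h1
    have h2 : σ ^ 3 * σ ^ 3 = 1 := mul_eq_one_iff_eq_inv.2 h1
    have h3 := hρ3 _ hm
    rw [pow_succ, pow_two, h2, one_mul] at h3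
    exact h3
  have hσord : orderOf σ = 3 := orderOf_eq_prime hσ3 fun h1 => by
    rw [h1, map_one] at hπσ
    rw [← hπσ, orderOf_one] at hqb
    omega
  -- the hypotheses of the transfer
  set ρN : N := ⟨D.ρ, hρN⟩ with hρNdef
  set σN : N := ⟨σ.1, (hCmem.1 σ.2).1⟩ with hσN
  set wN : N := ⟨s.1, (hCmem.1 s.2).1⟩ with hwN
  have hcardC : Nat.card (centralizer ({ρN} : Set N)) = 180 := by
    rw [← hC180]
    exact Nat.card_congr
      { toFun := fun x => ⟨x.1.1, hCmem.2 ⟨x.1.2,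
          congrArg Subtype.val (mem_centralizer_singleton_iff.1 x.2)⟩⟩
        invFun := fun x => ⟨⟨x.1, (hCmem.1 x.2).1⟩,
          mem_centralizer_singleton_iff.2 (Subtype.ext (hCmem.1 x.2).2)⟩
        left_inv := fun x => rfl
        right_inv := fun x => rfl }
  have hw3 : ¬ 9 ∣ Nat.card (centralizer ({wN} : Set N)) := by
    intro h9
    obtain ⟨g, hg, hge⟩ := D.isConj_invol hNK hns (hCmem.1 s.2).1
      (by rw [Subgroup.orderOf_coe]; exact hsord)
    let f : centralizer ({wN} : Set N) →* D.K :=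
      { toFun := fun x => ⟨g⁻¹ * x.1.1 * g, by
          refine D.mem_K_of hNK (mul_mem (mul_mem (inv_mem hg) x.1.2) hg) ?_
          have hxc : x.1.1 * s.1 = s.1 * x.1.1 :=
            congrArg Subtype.val (mem_centralizer_singleton_iff.1 x.2)
          rw [← hge] at hxc
          calc g⁻¹ * x.1.1 * g * z = g⁻¹ * (x.1.1 * (g * z * g⁻¹)) * g := by group
            _ = z * (g⁻¹ * x.1.1 * g) := by rw [hxc]; group⟩
        map_one' := Subtype.ext (by simp)
        map_mul' := fun a b => Subtype.ext (by simp [mul_assoc]) }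
    have hf : Function.Injective f := fun a b hab => by
      have := congrArg Subtype.val hab
      exact Subtype.ext (Subtype.ext (mul_left_cancel (mul_right_cancel this)))
    have := h9.trans (Subgroup.card_dvd_of_injective f hf)
    rw [D.card_K] at this
    norm_num at this
  have hreal : ∀ g : N, g * ρN * g⁻¹ ≠ ρN⁻¹ := by
    intro g hgeq
    have hge : g.1 * D.ρ * g.1⁻¹ = D.ρ⁻¹ := congrArg Subtype.val hgeq
    have hzN : z ∈ N := hKN (D.U_le D.z_mem)
    have hzC : z ∈ C := hCmem.2 ⟨hzN, (mem_cent.1 (D.K_le D.ρ_mem)).symm⟩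
    have hz'C : g.1 * z * g.1⁻¹ ∈ C := by
      refine hCmem.2 ⟨mul_mem (mul_mem g.2 hzN) (inv_mem g.2), ?_⟩
      have hc : Commute (g.1 * z * g.1⁻¹) (g.1 * D.ρ * g.1⁻¹) :=
        (Commute.conj_iff g.1).2 (mem_cent.1 (D.K_le D.ρ_mem)).symm
      rw [hge] at hc
      exact Commute.inv_right_iff.1 hc
    have hnotR : ∀ y : C, orderOf y = 2 → π y ≠ 1 := by
      intro y hy he
      have := orderOf_dvd_of_pow_eq_one (hρ3 y ((QuotientGroup.eq_one_iff (N := R) y).1 he))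
      rw [hy] at this
      norm_num at this
    have hz2 : orderOf (⟨z, hzC⟩ : C) = 2 := by rw [Subgroup.orderOf_mk]; exact D.hz
    have hz'2 : orderOf (⟨_, hz'C⟩ : C) = 2 := by
      rw [Subgroup.orderOf_mk, orderOf_conj]; exact D.hz
    have hz'q : orderOf (π ⟨_, hz'C⟩) = 2 := orderOf_two_of_sq (by
      rw [← map_mul, mul_self_of_orderOf_two hz'2, map_one]) (hnotR _ hz'2)
    obtain ⟨a, ha⟩ := hconj _ hz'q
    obtain ⟨b, -, hb⟩ := hWbT _ ha (fun h1 => by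
      rw [conj_eq_one_iff] at h1
      exact hnotR _ hz'2 h1) _ (hzWb hzC) (hnotR _ hz2)
    obtain ⟨c, hc⟩ := QuotientGroup.mk_surjective (b * a)
    set y : C := c * ⟨_, hz'C⟩ * c⁻¹ with hy
    have hπy : π y = π ⟨z, hzC⟩ := by
      have hc' : π c = b * a := hc
      rw [hy, map_mul, map_mul, map_inv, hc', ← hb]
      group
    have hm : (⟨z, hzC⟩ : C)⁻¹ * y ∈ R := QuotientGroup.eq.1 hπy.symm
    have hy2 : y * y = 1 := mul_self_of_orderOf_two (orderOf_conj.trans hz'2)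
    obtain ⟨r, hr⟩ : ∃ r, r = (⟨z, hzC⟩ : C)⁻¹ * y := ⟨_, rfl⟩
    rw [← hr] at hm
    have hzz : (⟨z, hzC⟩ : C) * ⟨z, hzC⟩ = 1 := mul_self_of_orderOf_two hz2
    have hyr : y = ⟨z, hzC⟩ * r := by rw [hr, mul_inv_cancel_left]
    have hr2 : r * r = 1 := by
      rw [hyr, show (⟨z, hzC⟩ : C) * r * (⟨z, hzC⟩ * r) = ⟨z, hzC⟩ * (r * ⟨z, hzC⟩) * r by group,
        ← (hρc ⟨z, hzC⟩ r hm).eq, ← mul_assoc, hzz, one_mul] at hy2
      exact hy2
    have hr1 : r = 1 := by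
      have h3 := hρ3 r hm
      rwa [pow_succ, pow_two, hr2, one_mul] at h3
    have hce : c.1 * (g.1 * z * g.1⁻¹) * c.1⁻¹ = z := by
      have := congrArg Subtype.val hyr
      rw [hr1, mul_one] at this
      exact this
    have hk : c.1 * g.1 ∈ D.K := by
      refine D.mem_K_of hNK (mul_mem (hCmem.1 c.2).1 g.2) (commute_of_conj_eq ?_)
      calc c.1 * g.1 * z * (c.1 * g.1)⁻¹ = c.1 * (g.1 * z * g.1⁻¹) * c.1⁻¹ := by group
        _ = z := hce
    refine D.rho_not_inverted_K hk ?_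
    rw [show c.1 * g.1 * D.ρ * (c.1 * g.1)⁻¹ = c.1 * (g.1 * D.ρ * g.1⁻¹) * c.1⁻¹ by group, hge]
    exact conj_eq_of_commute (show Commute c.1 D.ρ from (hCmem.1 c.2).2).inv_right.eq
  have hinv : ∀ x t : N, orderOf x = 3 → orderOf t = 2 → Commute x t →
      ∃ g : N, g * x * g⁻¹ = ρN ∨ g * x * g⁻¹ = ρN⁻¹ := by
    intro x t hx ht hxt
    obtain ⟨g, hg, hge⟩ := D.rho_conj_of_commute hNK hns x.2 (by rw [Subgroup.orderOf_coe]; exact hx)
      t.2 (by rw [Subgroup.orderOf_coe]; exact ht) (congrArg Subtype.val hxt.eq)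
    exact ⟨⟨g, hg⟩, hge.imp (fun e => Subtype.ext e) (fun e => Subtype.ext e)⟩
  exact exists_index_three (ρ := ρN) (σ := σN) (w := wN)
    (by rw [hρNdef, Subgroup.orderOf_mk]; exact D.ρ_order)
    (by rw [hσN, Subgroup.orderOf_mk, Subgroup.orderOf_coe]; exact hσord)
    (by rw [hwN, Subgroup.orderOf_mk, Subgroup.orderOf_coe]; exact hsord)
    (Subtype.ext ((hCmem.1 σ.2).2).symm) (Subtype.ext ((hCmem.1 s.2).2).symm)
    (Subtype.ext (congrArg Subtype.val hσinv :)) hcardC hw3 hreal hinv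

end HData

end Cfsg.Agent.PGammaThreeFour
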