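import Cfsg.Agent.PGammaThreeFour.NormA
import Cfsg.Agent.PGammaThreeFour.RhoAux

/-!
# A subgroup of index three of `N` missing `ρ`
-/

set_option autoImplicit false

namespace Cfsg.Agent.PGammaThreeFour

variable {G : Type*} [Group G] [Finite G] {z : G}

/-- `N` has a normal subgroup of index three that misses `ρ`. -/
theorem HData.exists_index_three_sub (D : HData z) {N : Subgroup G} [N.Normal]
    (hNK : N ⊓ Subgroup.centralizer {z} = D.K) (hns : ¬ Group.IsSolvable N) :
    ∃ M : Subgroup N, M.Normal ∧ M.index = 3 ∧ (⟨D.ρ, D.K_le_N hNK D.ρ_mem⟩ : N) ∉ M := by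
  obtain ⟨δ, hδ, hδ3, hδt, hδ5⟩ :=
    D.exists_delta hNK hns fun y hy hy2 => D.isConj_of_mem_U hNK hns hy hy2
  exact D.rho_aux hNK hns hδ hδ3 hδt hδ5

end Cfsg.Agent.PGammaThreeFour
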